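import Cfsg.Agent.Lib.Blocks.Order443520.BlockData

/-!
# Pairs of conjugate involutions with product in a translate of `V`

The number of these pairs is `p * j ^ 2`, and the principal block determines it.
-/

set_option autoImplicit false

namespace CfsgLib.Blocks.Order443520

open Cfsg CfsgLib CfsgLib.Char CfsgLib.CharIntegral CfsgLib.Blocks.PrimeSylow
open CfsgLib.Blocks.Order95040 (deg cent deg_cast)
open scoped Classical ComplexConjugate

variable {G : Type*} [Group G] [Fintype G] {p : ℕ} {P V : Subgroup G}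

omit [Fintype G] in
theorem sq_eq_one_of_isConj {s u : G} (hs : orderOf s = 2) (hu : IsConj s u) : u * u = 1 := by
  obtain ⟨c, rfl⟩ := isConj_iff.1 hu
  have h1 : s * s = 1 := by rw [← pow_two, ← hs]; exact pow_orderOf_eq_one s
  calc c * s * c⁻¹ * (c * s * c⁻¹) = c * (s * s) * c⁻¹ := by group
    _ = 1 := by rw [h1]; group

/-- The number of pairs of conjugates of the involution `s` with product in `x V`. -/
theorem exists_card_pairs_translate [Fact p.Prime] (h : Setup p P V) (hp : 3 ≤ p) {s : G}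
    (hs : orderOf s = 2) {x : G} (hx : x ∈ P) (hx1 : x ≠ 1) :
    ∃ j : ℕ, j ≤ Nat.card V ∧
      ((∀ u : G, u * u = 1 → u * x * u⁻¹ ≠ x⁻¹) → j = 0) ∧
      ∑ v : V, (((classFinset s) ×ˢ (classFinset s)).filter
        fun u => u.1 * u.2 = x * v).card = p * j ^ 2 := by
  set K := classFinset s
  have hK : ∀ u ∈ K, u * u = 1 := fun u hu => sq_eq_one_of_isConj hs (mem_classFinset.1 hu)
  set I := K.filter fun u => u * x * u⁻¹ = x⁻¹ with hI
  set F : G → Finset (G × G) :=
    fun y => (I ×ˢ I).filter fun u => ∃ v ∈ V, u.1 * u.2 = y * v with hF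
  have hinv : ∀ u ∈ I, ∀ a ∈ P, u * a⁻¹ = a * u := by
    intro u hu a ha
    rw [← h.zpowers_eq hx hx1, Subgroup.mem_zpowers_iff] at ha
    obtain ⟨k, rfl⟩ := ha
    have h1 : u * (x ^ k)⁻¹ * u⁻¹ = x ^ k := by
      rw [← zpow_neg, ← conj_zpow, (Finset.mem_filter.1 hu).2, inv_zpow, zpow_neg, inv_inv]
    exact mul_inv_eq_iff_eq_mul.1 h1
  have hII : ∀ u ∈ I ×ˢ I, u.1 * u.2 ∈ Subgroup.centralizer (P : Set G) := by
    intro u hu
    rw [Finset.mem_product] at hu
    refine Subgroup.mem_centralizer_iff.2 fun a ha => ?_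
    rw [← mul_assoc, ← hinv u.1 hu.1 a ha, mul_assoc, mul_assoc]
    congr 1
    have h2 := hinv u.2 hu.2 a⁻¹ (inv_mem ha)
    rw [inv_inv] at h2
    exact h2.symm
  have hsum : ∑ v : V, ((K ×ˢ K).filter fun u => u.1 * u.2 = x * v).card = (F x).card := by
    rw [← Finset.card_biUnion]
    · congr 1
      ext u
      simp only [Finset.mem_biUnion, Finset.mem_univ, true_and, Finset.mem_filter,
        Finset.mem_product, hF, hI]
      constructor
      · rintro ⟨v, ⟨h1, h2⟩, he⟩
        have hc := (h.commute hx v.2).inv_inv.eq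
        have e2 : u.2 * u.1 = x⁻¹ * (v : G)⁻¹ := by
          have : (u.1 * u.2)⁻¹ = u.2 * u.1 := by
            rw [mul_inv_rev, inv_eq_of_mul_eq_one_right (hK _ h1),
              inv_eq_of_mul_eq_one_right (hK _ h2)]
          rw [← this, he, mul_inv_rev]
          exact hc.symm
        have key : ∀ a : G, a * a = 1 → a * (x * v) * a⁻¹ = x⁻¹ * (v : G)⁻¹ →
            a * x * a⁻¹ = x⁻¹ := fun a _ ea =>
          (h.fusion hx (inv_mem hx) hx1 v.2 (inv_mem v.2) ea).2.1
        refine ⟨⟨⟨h1, key u.1 (hK _ h1) ?_⟩, h2, key u.2 (hK _ h2) ?_⟩, v, v.2, he⟩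
        · rw [← e2, ← he]
          calc u.1 * (u.1 * u.2) * u.1⁻¹ = u.1 * u.1 * u.2 * u.1⁻¹ := by group
            _ = u.2 * u.1 := by rw [hK _ h1, one_mul, inv_eq_of_mul_eq_one_right (hK _ h1)]
        · rw [← e2, ← he]
          group
      · rintro ⟨⟨⟨h1, -⟩, h2, -⟩, v, hv, he⟩
        exact ⟨⟨v, hv⟩, ⟨h1, h2⟩, he⟩
    · intro v _ w _ hne
      refine Finset.disjoint_left.2 fun u hu hu' => hne (Subtype.ext ?_)
      exact mul_left_cancel ((Finset.mem_filter.1 hu).2.symm.trans (Finset.mem_filter.1 hu').2)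
  have hfib : ∀ y ∈ P, (F y).card = (F x).card := by
    have hshift : ∀ a ∈ P, ∀ y ∈ P, (F y).card ≤ (F (a * a * y)).card := by
      intro a ha y hy
      refine Finset.card_le_card_of_injOn (fun u => (a * u.1 * a⁻¹, u.2)) (fun u hu => ?_)
        fun u _ w _ e => ?_
      · obtain ⟨hm, v, hv, he⟩ := Finset.mem_filter.1 hu
        obtain ⟨h1, h2⟩ := Finset.mem_product.1 hm
        refine Finset.mem_filter.2 ⟨Finset.mem_product.2 ⟨?_, h2⟩, v, hv, ?_⟩
        · obtain ⟨hk, he1⟩ := Finset.mem_filter.1 h1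
          refine Finset.mem_filter.2 ⟨mem_classFinset.2
            ((mem_classFinset.1 hk).trans (isConj_iff.2 ⟨a, rfl⟩)), ?_⟩
          have hax : Commute a x := Subgroup.mem_centralizer_iff.1 (h.le_centralizer hx) a ha
          calc a * u.1 * a⁻¹ * x * (a * u.1 * a⁻¹)⁻¹
              = a * (u.1 * (a⁻¹ * x * a) * u.1⁻¹) * a⁻¹ := by group
            _ = x⁻¹ := by
              rw [show a⁻¹ * x * a = x by rw [mul_assoc, ← hax.eq, inv_mul_cancel_left], he1,
                hax.inv_right.eq, mul_inv_cancel_right]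
        · show a * u.1 * a⁻¹ * u.2 = a * a * y * v
          rw [mul_assoc a u.1, hinv u.1 h1 a ha, mul_assoc (a * a) y, ← he]
          group
      · simp only [Prod.mk.injEq] at e
        exact Prod.ext (mul_left_cancel (mul_right_cancel e.1)) e.2
    intro y hy
    have hroot : ∀ z ∈ P, ∃ a ∈ P, a * a = z := fun z hz => by
      refine ⟨z ^ ((p + 1) / 2), Subgroup.pow_mem _ hz _, ?_⟩
      have hodd : p % 2 = 1 := (Nat.Prime.mod_two_eq_one_iff_ne_two h.prime).2 (by omega)
      rw [← pow_add, show (p + 1) / 2 + (p + 1) / 2 = p + 1 by omega, pow_succ, h.pow_eq_one hz,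
        one_mul]
    obtain ⟨a, ha, e⟩ := hroot (x * y⁻¹) (mul_mem hx (inv_mem hy))
    obtain ⟨b, hb, e'⟩ := hroot (y * x⁻¹) (mul_mem hy (inv_mem hx))
    refine le_antisymm ?_ ?_
    · have := hshift a ha y hy; rwa [e, inv_mul_cancel_right] at this
    · have := hshift b hb x hx; rwa [e', inv_mul_cancel_right] at this
  have hII2 : I.card * I.card = p * (F x).card := by
    rw [← Finset.card_product,
      show I ×ˢ I = (Finset.univ.filter fun y => y ∈ P).biUnion F from ?_, Finset.card_biUnion,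
      Finset.sum_congr rfl fun y hy => hfib y (Finset.mem_filter.1 hy).2, Finset.sum_const,
      smul_eq_mul]
    · congr 1
      rw [← Fintype.card_subtype, ← Nat.card_eq_fintype_card]
      exact h.card
    · intro y hy z hz hne
      refine Finset.disjoint_left.2 fun u hu hu' => hne ?_
      obtain ⟨v, hv, e⟩ := (Finset.mem_filter.1 hu).2
      obtain ⟨w, hw, e'⟩ := (Finset.mem_filter.1 hu').2
      exact (h.mul_inj (Finset.mem_filter.1 hy).2 (Finset.mem_filter.1 hz).2 hv hw
        (e.symm.trans e')).1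
    · ext u
      simp only [Finset.mem_biUnion, Finset.mem_filter, Finset.mem_univ, true_and, hF]
      refine ⟨fun hu => ?_, fun ⟨_, _, hu, _⟩ => hu⟩
      obtain ⟨y, hy, v, hv, e⟩ := h.exists_mul (hII u hu)
      exact ⟨y, hy, hu, v, hv, e.symm⟩
  have hpI : p ∣ I.card := (h.prime.dvd_mul.1 ⟨_, hII2⟩).elim id id
  obtain ⟨j, hj⟩ := hpI
  refine ⟨j, ?_, fun hno => ?_, ?_⟩
  · refine Nat.le_of_mul_le_mul_left (?_ : p * j ≤ p * Nat.card V) h.prime.pos
    rw [← hj, ← h.card_centralizer]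
    rcases I.eq_empty_or_nonempty with he | ⟨u₀, hu₀⟩
    · rw [he]; exact Nat.zero_le _
    rw [Nat.card_eq_fintype_card, Fintype.card_subtype]
    refine Finset.card_le_card_of_injOn (fun u => u * u₀) (fun u hu => ?_)
      (fun u _ w _ e => mul_right_cancel e)
    exact Finset.mem_filter.2 ⟨Finset.mem_univ _,
      hII (u, u₀) (Finset.mem_product.2 ⟨hu, hu₀⟩)⟩
  · have he : I = ∅ := Finset.filter_eq_empty_iff.2 fun u hu => hno u (hK u hu)
    rw [he, Finset.card_empty, eq_comm] at hj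
    exact (mul_eq_zero.1 hj).resolve_left h.prime.ne_zero
  · rw [hsum]
    refine Nat.eq_of_mul_eq_mul_left h.prime.pos ?_
    rw [← hII2, hj]
    ring

/-- An odd inertial index leaves no involution inverting an element of the Sylow subgroup. -/
theorem not_inverts_of_odd [Fact p.Prime] (h : Setup p P V) (hp : 3 ≤ p) {e : ℕ}
    (hN : Nat.card (Subgroup.normalizer (P : Set G)) = e * (p * Nat.card V)) (he : Odd e)
    {x : G} (hx : x ∈ P) (hx1 : x ≠ 1) {u : G} (hu : u * u = 1) : u * x * u⁻¹ ≠ x⁻¹ := by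
  intro e1
  have huN : u ∈ Subgroup.normalizer (P : Set G) :=
    (h.fusion hx (inv_mem hx) hx1 (one_mem V) (one_mem V) (by rw [mul_one, mul_one, e1])).1
  set N := Subgroup.normalizer (P : Set G)
  set C := (Subgroup.centralizer (P : Set G)).subgroupOf N
  have hnC : C.Normal := ⟨fun c hc g => by
    refine Subgroup.mem_subgroupOf.2 (Subgroup.mem_centralizer_iff.2 fun a ha => ?_)
    have h1 := Subgroup.mem_centralizer_iff.1 (Subgroup.mem_subgroupOf.1 hc) _
      ((Subgroup.mem_normalizer_iff''.1 g.2 a).1 ha)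
    simp only [Subgroup.coe_mul, Subgroup.coe_inv]
    calc a * ((g : G) * c * (g : G)⁻¹) = g * ((g : G)⁻¹ * a * g * c) * (g : G)⁻¹ := by group
      _ = g * (c * ((g : G)⁻¹ * a * g)) * (g : G)⁻¹ := by rw [h1]
      _ = g * c * (g : G)⁻¹ * a := by group⟩
  have hidx : C.index = e := by
    have h1 := C.index_mul_card
    rw [Nat.card_congr (Subgroup.subgroupOfEquivOfLe (Blocks.centralizer_le_normalizer' P)).toEquiv,
      h.card_centralizer, hN] at h1
    exact Nat.eq_of_mul_eq_mul_right (Nat.mul_pos h.prime.pos Nat.card_pos) h1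
  have h2 : (QuotientGroup.mk' C ⟨u, huN⟩) ^ 2 = 1 := by
    rw [← map_pow, show (⟨u, huN⟩ : N) ^ 2 = 1 from Subtype.ext (by simp [pow_two, hu]), map_one]
  have h3 : orderOf (QuotientGroup.mk' C ⟨u, huN⟩) ∣ C.index := orderOf_dvd_natCard _
  have h4 : QuotientGroup.mk' C ⟨u, huN⟩ = 1 := by
    rw [← orderOf_eq_one_iff]
    rcases (Nat.dvd_prime Nat.prime_two).1 (orderOf_dvd_of_pow_eq_one h2) with h5 | h5
    · exact h5
    · rw [h5, hidx] at h3
      exact absurd he (Nat.not_odd_iff_even.2 (even_iff_two_dvd.2 h3))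
  have huC : u ∈ Subgroup.centralizer (P : Set G) :=
    Subgroup.mem_subgroupOf.1 ((QuotientGroup.eq_one_iff _).1 h4)
  rw [← Subgroup.mem_centralizer_iff.1 huC x hx, mul_inv_cancel_right] at e1
  have h6 : x ^ 2 = 1 := by rw [pow_two]; nth_rw 2 [e1]; exact mul_inv_cancel x
  have := orderOf_dvd_of_pow_eq_one h6
  rw [h.orderOf_eq hx hx1] at this
  have := Nat.le_of_dvd (by norm_num) this
  omega

/-- The principal block gives the number of the pairs. -/
theorem pairs_equation [Fintype (IrrCharacter G)] [Fact p.Prime] (h : Setup p P V) (hp : 3 ≤ p)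
    {e : ℕ} (D : BlockData p P V e)
    (hN : Nat.card (Subgroup.normalizer (P : Set G)) = e * (p * Nat.card V)) {s : G}
    (hs : orderOf s = 2) {θ : IrrCharacter G} (hθ : θ ∈ D.Y) :
    ∃ j : ℕ, j ≤ Nat.card V ∧ (Odd e → j = 0) ∧
      ((p * j ^ 2 : ℕ) : ℂ) * (Nat.card G : ℂ) =
        ((Subgroup.centralizer ({s} : Set G)).index : ℂ) ^ 2 * (Nat.card V : ℂ) *
          (∑ χ ∈ D.X, (D.εX χ : ℂ) * ((χ : G → ℂ) s ^ 2 / (χ : G → ℂ) 1) -
            (D.ε : ℂ) * ((θ : G → ℂ) s ^ 2 / (θ : G → ℂ) 1)) := by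
  obtain ⟨x, hx, hx1⟩ : ∃ x ∈ P, x ≠ (1 : G) := by
    refine P.bot_or_exists_ne_one.resolve_left fun hb => ?_
    have := h.card
    rw [hb, Subgroup.card_bot] at this
    omega
  obtain ⟨j, hj, hj0, hcount⟩ := exists_card_pairs_translate h hp hs hx hx1
  refine ⟨j, hj, fun he => hj0 fun u hu => not_inverts_of_odd h hp hN he hx hx1 hu, ?_⟩
  rw [← hcount, Nat.cast_sum, Finset.sum_mul]
  simp only [card_pairs s]
  rw [← Finset.mul_sum, Finset.sum_comm, mul_assoc]
  congr 1
  have hxi : (x⁻¹ : G) ∈ P := inv_mem hx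
  have hxi1 : (x⁻¹ : G) ≠ 1 := inv_ne_one.2 hx1
  have hin : ∀ χ : IrrCharacter G,
      ∑ v : V, (χ : G → ℂ) (x * v)⁻¹ = ∑ v : V, (χ : G → ℂ) (x⁻¹ * v) := fun χ => by
    refine Fintype.sum_equiv (Equiv.inv V) _ _ fun v => ?_
    rw [Equiv.inv_apply, Subgroup.coe_inv, mul_inv_rev, (h.commute hx v.2).inv_inv.eq]
  simp only [← Finset.mul_sum, hin]
  rw [← Finset.sum_subset (Finset.subset_univ (D.X ∪ D.Y)) (fun χ _ hχ => by
      rw [D.off χ hχ _ hxi hxi1, mul_zero]), Finset.sum_union D.disj, mul_sub, Finset.mul_sum,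
    sub_eq_add_neg]
  congr 1
  · refine Finset.sum_congr rfl fun χ hχ => ?_
    rw [Finset.sum_congr rfl fun (v : V) _ => D.valX χ hχ _ hxi hxi1 v v.2, Finset.sum_const,
      Finset.card_univ, nsmul_eq_mul, ← Nat.card_eq_fintype_card]
    ring
  · have hsp : ¬ p ∣ orderOf s := by
      rw [hs]
      intro hd
      have := Nat.le_of_dvd (by norm_num) hd
      omega
    have h1p : ¬ p ∣ orderOf (1 : G) := by rw [orderOf_one]; exact h.prime.not_dvd_one
    rw [Finset.sum_congr rfl (fun a ha => by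
      rw [D.sameY a ha θ hθ s hsp, D.sameY a ha θ hθ 1 h1p]) (s₁ := D.Y),
      ← Finset.mul_sum, D.sumY _ hxi hxi1]
    ring

end CfsgLib.Blocks.Order443520
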