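import Cfsg.Agent.Lib.Blocks.Order443520.Trace
import Mathlib.GroupTheory.Perm.Cycle.Type
import Mathlib.GroupTheory.Perm.ConjAct
import Mathlib.LinearAlgebra.Dual.Lemmas
import Mathlib.LinearAlgebra.Matrix.Dual
import Mathlib.LinearAlgebra.Matrix.Charpoly.FiniteField
import Mathlib.LinearAlgebra.FreeModule.PID
import Mathlib.LinearAlgebra.Dimension.Free

/-!
# From degree 21 over the integers to degree 10 over two elements

An integral representation of degree 21 with trace `-1` at elements of order eleven, zero at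
elements of order seven and of the form `1 + T g + T g⁻¹` modulo two has a composition factor of
degree ten.
-/

set_option autoImplicit false

namespace CfsgLib.Blocks.Order443520

open scoped Classical
open Matrix

theorem zmod_two_sq : ∀ x : ZMod 2, x ^ 2 = x := by decide

theorem sq_mul_of_golden {S : Type*} [Ring S] {a b : S} (h : a * b = b * a) (e : a * a = a + 1) :
    (a * b) ^ 2 = b ^ 2 + a * b ^ 2 := by
  rw [Commute.mul_pow h, pow_two a, e, add_mul, one_mul, add_comm]

/-- Reduction modulo two of an integral matrix. -/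
noncomputable abbrev redTwo {n : ℕ} :
    Matrix (Fin n) (Fin n) ℤ →+* Matrix (Fin n) (Fin n) (ZMod 2) :=
  (Int.castRingHom (ZMod 2)).mapMatrix

/-- The fixed vectors of an element of odd prime order are bounded by the rank of its average. -/
theorem card_fixed_le {n p r : ℕ} (hp : p ≠ 0) (hodd : p % 2 = 1) (Z : Matrix (Fin n) (Fin n) ℤ)
    (hZ : Z ^ p = 1) (htr : (∑ i ∈ Finset.range p, Z ^ i).trace = (p : ℤ) * r) :
    Nat.card {x : Fin n → ZMod 2 // (redTwo Z).mulVec x = x} ≤ 2 ^ r := by
  set E := ∑ i ∈ Finset.range p, Z ^ i with hE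
  have hfix : ∀ (m : ℕ), E * Z ^ m = E := by
    intro m
    induction m with
    | zero => rw [pow_zero, mul_one]
    | succ m ih =>
      rw [pow_succ, ← mul_assoc, ih, hE, Finset.sum_mul]
      have h1 := Finset.sum_range_succ (fun i => Z ^ i) p
      rw [Finset.sum_range_succ', pow_zero, hZ] at h1
      simp only [← pow_succ]
      exact add_right_cancel h1
  have hEE : E * E = (p : ℤ) • E := by
    nth_rewrite 2 [hE]
    rw [Finset.mul_sum, Finset.sum_congr rfl fun i _ => hfix i, Finset.sum_const, Finset.card_range,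
      natCast_zsmul]
  set L := LinearMap.range E.mulVecLin with hL
  set b := Module.finBasis ℤ L with hb
  set m := Module.finrank ℤ L
  let B : Matrix (Fin n) (Fin m) ℤ := Matrix.of fun i c => (b c : Fin n → ℤ) i
  let C : Matrix (Fin m) (Fin n) ℤ := Matrix.of fun c j =>
    b.repr ⟨E.mulVecLin (Pi.single j 1), LinearMap.mem_range_self _ _⟩ c
  have hBinj : Function.Injective B.mulVec := by
    intro x y e
    have key : ∀ z : Fin m → ℤ, B.mulVec z = ((∑ c, z c • b c : L) : Fin n → ℤ) := fun z => by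
      ext i
      simp [B, Matrix.mulVec, dotProduct, mul_comm]
    rw [key, key, Subtype.coe_inj] at e
    funext c
    have h := congrArg (fun v => b.repr v c) e
    simpa [Finsupp.single_apply, Finset.sum_ite_eq'] using h
  have hBC : B * C = E := by
    ext i j
    have h := b.sum_repr ⟨E.mulVecLin (Pi.single j 1), LinearMap.mem_range_self _ _⟩
    have h2 := congrFun (congrArg Subtype.val h) i
    simp only [AddSubmonoidClass.coe_finsetSum, SetLike.val_smul, Finset.sum_apply, Pi.smul_apply,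
      smul_eq_mul, Matrix.mulVecLin_apply, Matrix.mulVec_single_one] at h2
    rw [Matrix.mul_apply]
    simp only [B, C, Matrix.of_apply, Matrix.mulVecLin_apply, Matrix.mulVec_single_one]
    rw [show E i j = (E.col j) i from rfl, ← h2]
    exact Finset.sum_congr rfl fun c _ => mul_comm _ _
  have hCB : C * B = (p : ℤ) • 1 := by
    refine Matrix.ext_of_mulVec_single fun c => hBinj ?_
    obtain ⟨x, hx⟩ := LinearMap.mem_range.1 (b c).2
    have hcol : B.mulVec (Pi.single c 1) = E.mulVec x := by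
      rw [← Matrix.mulVecLin_apply E x, hx]
      ext i
      simp [B]
    rw [← Matrix.mulVec_mulVec, Matrix.mulVec_mulVec, hBC, hcol, Matrix.mulVec_mulVec, hEE,
      Matrix.smul_mulVec, ← hcol, Matrix.smul_mulVec, Matrix.one_mulVec, Matrix.mulVec_smul]
  have hm : m = r := by
    have h := Matrix.trace_mul_comm B C
    rw [hBC, hCB, htr, Matrix.trace_smul, Matrix.trace_one, Fintype.card_fin, smul_eq_mul] at h
    exact_mod_cast (Int.eq_of_mul_eq_mul_left (Nat.cast_ne_zero.2 hp) h).symm
  let Bb : Matrix (Fin n) (Fin m) (ZMod 2) := B.map (Int.cast)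
  have hsurj : ∀ x : {x : Fin n → ZMod 2 // (redTwo Z).mulVec x = x}, ∃ y, Bb.mulVec y = x.1 := by
    rintro ⟨x, hx⟩
    refine ⟨(C.map (Int.cast : ℤ → ZMod 2)).mulVec x, ?_⟩
    have hpow : ∀ i : ℕ, ((redTwo Z) ^ i).mulVec x = x := fun i => by
      induction i with
      | zero => rw [pow_zero, Matrix.one_mulVec]
      | succ i ih => rw [pow_succ, ← Matrix.mulVec_mulVec, hx, ih]
    rw [Matrix.mulVec_mulVec, show Bb * C.map (Int.cast : ℤ → ZMod 2) = redTwo E by
      rw [← hBC]; exact (Matrix.map_mul (f := Int.castRingHom (ZMod 2))).symm, hE, map_sum,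
      Matrix.sum_mulVec, Finset.sum_congr rfl fun i _ => by rw [map_pow, hpow i],
      Finset.sum_const, Finset.card_range, ← Nat.cast_smul_eq_nsmul (ZMod 2),
      show (p : ZMod 2) = 1 by rw [← ZMod.natCast_mod, hodd, Nat.cast_one], one_smul]
  choose f hf using hsurj
  have hinj : Function.Injective f := fun x y e => Subtype.ext (by rw [← hf x, e, hf y])
  refine (Nat.card_le_card_of_injective f hinj).trans (le_of_eq ?_)
  rw [Nat.card_eq_fintype_card, Fintype.card_fun, ZMod.card, Fintype.card_fin, hm]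

variable {n : ℕ}

/-- The fixed points of an element of prime order in an invariant subspace. -/
theorem card_mod_fixed (M : Matrix (Fin n) (Fin n) (ZMod 2)) {p : ℕ} [Fact p.Prime] (hM : M ^ p = 1)
    (U : Submodule (ZMod 2) (Fin n → ZMod 2)) (hU : ∀ x ∈ U, M.mulVec x ∈ U) :
    2 ^ Module.finrank (ZMod 2) U ≡
      Nat.card {x : Fin n → ZMod 2 // x ∈ U ∧ M.mulVec x = x} [MOD p] := by
  let f : Function.End U := fun x => ⟨M.mulVec x.1, hU _ x.2⟩
  have hpow : ∀ (i : ℕ) (x : U), ((f ^ i) x : U).1 = (M ^ i).mulVec x.1 := fun i => by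
    induction i with
    | zero => intro x; rw [pow_zero, pow_zero, Matrix.one_mulVec]; rfl
    | succ i ih =>
      intro x
      rw [pow_succ', pow_succ']
      show M.mulVec ((f ^ i) x).1 = _
      rw [ih, Matrix.mulVec_mulVec]
  have h := Equiv.Perm.card_fixedPoints_modEq (f := f) (p := p) (n := 1)
    (by rw [pow_one]; funext x; exact Subtype.ext (by rw [hpow, hM, Matrix.one_mulVec]; rfl))
  rw [← Nat.card_eq_fintype_card, ← Nat.card_eq_fintype_card] at h
  have hc : Nat.card U = 2 ^ Module.finrank (ZMod 2) U := by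
    rw [Nat.card_eq_fintype_card, Module.card_eq_pow_finrank (K := ZMod 2), ZMod.card]
  rw [hc] at h
  refine h.trans (congrArg (fun a => a % p) (Nat.card_congr ?_))
  exact
    { toFun := fun x => ⟨x.1.1, x.1.2, congrArg Subtype.val x.2⟩
      invFun := fun x => ⟨⟨x.1, x.2.1⟩, Subtype.ext x.2.2⟩
      left_inv := fun x => rfl
      right_inv := fun x => rfl }

/-- The vectors orthogonal to a subspace. -/
noncomputable def perp (U : Submodule (ZMod 2) (Fin n → ZMod 2)) :
    Submodule (ZMod 2) (Fin n → ZMod 2) :=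
  U.dualAnnihilator.map (dotProductEquiv (ZMod 2) (Fin n)).symm.toLinearMap

theorem mem_perp {U : Submodule (ZMod 2) (Fin n → ZMod 2)} {y : Fin n → ZMod 2} :
    y ∈ perp U ↔ ∀ x ∈ U, y ⬝ᵥ x = 0 := by
  rw [perp, Submodule.mem_map_equiv, LinearEquiv.symm_symm, Submodule.mem_dualAnnihilator]
  rfl

theorem finrank_perp (U : Submodule (ZMod 2) (Fin n → ZMod 2)) :
    Module.finrank (ZMod 2) U + Module.finrank (ZMod 2) (perp U) = n := by
  rw [perp, LinearEquiv.finrank_map_eq, Subspace.finrank_add_finrank_dualAnnihilator_eq,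
    Module.finrank_fin_fun]

/-- In the presence of a commuting matrix with `J * J = J + 1` an element of order seven has
trace zero. -/
theorem trace_eq_zero_of_golden {ι : Type*} [Fintype ι] [DecidableEq ι]
    {J Y : Matrix ι ι (ZMod 2)} (hc : J * Y = Y * J) (e : J * J = J + 1) (h7 : Y ^ 7 = 1) :
    Y.trace = 0 := by
  have step : ∀ m, (J * Y ^ m).trace = (Y ^ (2 * m)).trace + (J * Y ^ (2 * m)).trace := by
    intro m
    have h1 : ((J * Y ^ m) ^ 2).trace = (J * Y ^ m).trace := by
      rw [ZMod.trace_pow_card, zmod_two_sq]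
    rw [← h1, sq_mul_of_golden (Commute.pow_right hc m) e, ← pow_mul, Nat.mul_comm m 2,
      Matrix.trace_add]
  have hsqr : ∀ m, (Y ^ (2 * m)).trace = (Y ^ m).trace := fun m => by
    rw [Nat.mul_comm, pow_mul, ZMod.trace_pow_card, zmod_two_sq]
  have h8 : Y ^ 8 = Y := by rw [pow_succ, h7, one_mul]
  have s1 := step 1
  have s2 := step 2
  have s4 := step 4
  have t2 := hsqr 1
  have t4 := hsqr 2
  norm_num at s1 s2 s4 t2 t4
  rw [h8] at s4
  rw [t4, t2] at s2
  rw [t2, s2, s4] at s1
  revert s1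
  generalize (J * Y).trace = c
  generalize Y.trace = t
  revert c t
  decide

variable {G : Type*} [Group G]

/-- The contragredient. -/
noncomputable def dualRep {K : Type*} [CommRing K] (R : G →* Matrix (Fin n) (Fin n) K) :
    G →* Matrix (Fin n) (Fin n) K where
  toFun g := (R g⁻¹)ᵀ
  map_one' := by rw [inv_one, map_one, Matrix.transpose_one]
  map_mul' a b := by rw [_root_.mul_inv_rev, map_mul, Matrix.transpose_mul]

theorem dualRep_apply {K : Type*} [CommRing K] (R : G →* Matrix (Fin n) (Fin n) K) (g : G) :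
    dualRep R g = (R g⁻¹)ᵀ := rfl

/-- An invariant subspace. -/
def IsInv (φ : G →* Matrix (Fin n) (Fin n) (ZMod 2))
    (U : Submodule (ZMod 2) (Fin n → ZMod 2)) : Prop := ∀ g, ∀ x ∈ U, (φ g).mulVec x ∈ U

theorem isInv_perp {φ : G →* Matrix (Fin n) (Fin n) (ZMod 2)}
    {U : Submodule (ZMod 2) (Fin n → ZMod 2)} (hU : IsInv φ U) :
    IsInv (dualRep φ) (perp U) := fun g y hy => mem_perp.2 fun x hx => by
  rw [dualRep_apply, Matrix.mulVec_transpose, ← Matrix.dotProduct_mulVec]
  exact mem_perp.1 hy _ (hU g⁻¹ x hx)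

/-- The restriction to an invariant subspace in a basis. -/
theorem exists_restrict {φ : G →* Matrix (Fin n) (Fin n) (ZMod 2)}
    {U : Submodule (ZMod 2) (Fin n → ZMod 2)} (hU : IsInv φ U) {d : ℕ}
    (hd : Module.finrank (ZMod 2) U = d) :
    ∃ (ψ : G →* Matrix (Fin d) (Fin d) (ZMod 2)) (B : Matrix (Fin n) (Fin d) (ZMod 2)),
      Function.Injective B.mulVec ∧ (∀ x, x ∈ U ↔ ∃ y, B.mulVec y = x) ∧
      ∀ g, φ g * B = B * ψ g := by
  let b := (Module.finBasis (ZMod 2) U).reindex (finCongr hd)
  let ι : (Fin d → ZMod 2) →ₗ[ZMod 2] (Fin n → ZMod 2) :=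
    U.subtype.comp b.equivFun.symm.toLinearMap
  have hιinj : Function.Injective ι := U.injective_subtype.comp b.equivFun.symm.injective
  have hmem : ∀ y, ι y ∈ U := fun y => (b.equivFun.symm y).2
  let L : G →* Module.End (ZMod 2) (Fin d → ZMod 2) :=
    { toFun := fun g => (b.equivFun.toLinearMap).comp
        ((((φ g).mulVecLin).restrict fun x hx => hU g x hx).comp b.equivFun.symm.toLinearMap)
      map_one' := LinearMap.ext fun y => by
        show b.equivFun _ = y
        conv_rhs => rw [← b.equivFun.apply_symm_apply y]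
        congr 1
        apply Subtype.ext
        show (φ 1).mulVec _ = _
        rw [map_one, Matrix.one_mulVec]
        rfl
      map_mul' := fun g h => LinearMap.ext fun y => by
        show b.equivFun _ = b.equivFun _
        congr 1
        apply Subtype.ext
        show (φ (g * h)).mulVec _ = (φ g).mulVec _
        rw [map_mul, ← Matrix.mulVec_mulVec]
        congr 1
        simp only [LinearMap.comp_apply, LinearEquiv.coe_coe, LinearEquiv.symm_apply_apply]
        rfl }
  refine ⟨(LinearMap.toMatrixAlgEquiv' (R := ZMod 2)).toMulEquiv.toMonoidHom.comp L,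
    LinearMap.toMatrix' ι, ?_, fun x => ⟨fun hx => ⟨b.equivFun ⟨x, hx⟩, ?_⟩, ?_⟩, fun g => ?_⟩
  · intro x y e
    rw [LinearMap.toMatrix'_mulVec, LinearMap.toMatrix'_mulVec] at e
    exact hιinj e
  · rw [LinearMap.toMatrix'_mulVec]
    exact congrArg Subtype.val (b.equivFun.symm_apply_apply ⟨x, hx⟩)
  · rintro ⟨y, rfl⟩
    rw [LinearMap.toMatrix'_mulVec]
    exact hmem y
  · refine Matrix.ext_of_mulVec_single fun i => ?_
    rw [← Matrix.mulVec_mulVec, ← Matrix.mulVec_mulVec, LinearMap.toMatrix'_mulVec]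
    show _ = (LinearMap.toMatrix' ι).mulVec ((LinearMap.toMatrix' (L g)).mulVec _)
    rw [LinearMap.toMatrix'_mulVec, LinearMap.toMatrix'_mulVec]
    show _ = U.subtype (b.equivFun.symm (b.equivFun _))
    rw [LinearEquiv.symm_apply_apply]
    rfl

variable [Finite G] [IsSimpleGroup G]

/-- A representation trivial at one nontrivial element is trivial. -/
theorem eq_one_of_simple {d : ℕ} (φ : G →* Matrix (Fin d) (Fin d) (ZMod 2)) {g : G} (hg : g ≠ 1)
    (h : φ g = 1) : ∀ x, φ x = 1 := by
  rcases Subgroup.Normal.eq_bot_or_eq_top (inferInstance : φ.ker.Normal) with hb | ht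
  · exact absurd (Subgroup.mem_bot.1 (hb ▸ (MonoidHom.mem_ker.2 h) : g ∈ (⊥ : Subgroup G))) hg
  · exact fun x => MonoidHom.mem_ker.1 (ht ▸ Subgroup.mem_top x)

variable {k : Type*} [Field k] [CharP k 2]

/-- The hypotheses on the representation of degree 21. -/
structure Good (κ : ZMod 2 →+* k) (T : G → k) (R : G →* Matrix (Fin 21) (Fin 21) ℤ) : Prop where
  eleven : ∀ g : G, orderOf g = 11 → (R g).trace = -1
  seven : ∀ g : G, orderOf g = 7 → (R g).trace = 0
  like : IsTraceLike T
  htr : ∀ g, κ ((R g).trace : ZMod 2) = 1 + T g + T g⁻¹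

variable {κ : ZMod 2 →+* k} {T : G → k} {R : G →* Matrix (Fin 21) (Fin 21) ℤ}

/-- The reduction of an integral representation. -/
noncomputable abbrev redRep (R : G →* Matrix (Fin n) (Fin n) ℤ) :
    G →* Matrix (Fin n) (Fin n) (ZMod 2) :=
  redTwo.toMonoidHom.comp R

theorem trace_redRep (R : G →* Matrix (Fin n) (Fin n) ℤ) (g : G) :
    (redRep R g).trace = ((R g).trace : ZMod 2) :=
  (AddMonoidHom.map_trace (Int.castRingHom (ZMod 2)).toAddMonoidHom (R g)).symm

theorem Good.dual (h : Good κ T R) : Good κ T (dualRep R) where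
  eleven g hg := by
    rw [dualRep_apply, Matrix.trace_transpose]; exact h.eleven _ (by rwa [orderOf_inv])
  seven g hg := by
    rw [dualRep_apply, Matrix.trace_transpose]; exact h.seven _ (by rwa [orderOf_inv])
  like := h.like
  htr g := by
    rw [dualRep_apply, Matrix.trace_transpose, h.htr, inv_inv]
    ring

theorem redRep_dual (R : G →* Matrix (Fin n) (Fin n) ℤ) :
    redRep (dualRep R) = dualRep (redRep R) :=
  MonoidHom.ext fun g => rfl

theorem Good.card_fixed (h : Good κ T R) {p r : ℕ} (hp : p = 11 ∧ r = 1 ∨ p = 7 ∧ r = 3) {g : G}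
    (hg : orderOf g = p) :
    Nat.card {x : Fin 21 → ZMod 2 // (redRep R g).mulVec x = x} ≤ 2 ^ r := by
  have hpr : p.Prime := by rcases hp with ⟨rfl, -⟩ | ⟨rfl, -⟩ <;> norm_num
  refine card_fixed_le hpr.ne_zero (by rcases hp with ⟨rfl, -⟩ | ⟨rfl, -⟩ <;> norm_num) (R g)
    (by rw [← map_pow, ← hg, pow_orderOf_eq_one, map_one]) ?_
  obtain ⟨p', rfl⟩ : ∃ p', p = p' + 1 := ⟨p - 1, by have := hpr.pos; omega⟩
  have hpow : ∀ i < p', orderOf (g ^ (i + 1)) = p' + 1 := fun i hi => by
    rw [orderOf_pow, hg, Nat.Coprime.gcd_eq_one, Nat.div_one]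
    exact hpr.coprime_iff_not_dvd.2 (Nat.not_dvd_of_pos_of_lt (by omega) (by omega))
  rw [Matrix.trace_sum, Finset.sum_range_succ', pow_zero, Matrix.trace_one, Fintype.card_fin,
    Finset.sum_congr rfl fun i hi => by rw [← map_pow]]
  rcases hp with ⟨h11, rfl⟩ | ⟨h7, rfl⟩
  · rw [Finset.sum_congr rfl fun i hi => h.eleven _ ((hpow i (Finset.mem_range.1 hi)).trans h11)]
    obtain rfl : p' = 10 := by omega
    norm_num
  · rw [Finset.sum_congr rfl fun i hi => h.seven _ ((hpow i (Finset.mem_range.1 hi)).trans h7)]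
    obtain rfl : p' = 6 := by omega
    norm_num

/-- Two nonzero vectors fixed by an element of order eleven are equal. -/
theorem Good.fixed_unique (h : Good κ T R) {z : G} (hz : orderOf z = 11) {x y : Fin 21 → ZMod 2}
    (hx : (redRep R z).mulVec x = x) (hy : (redRep R z).mulVec y = y) (hx0 : x ≠ 0) (hy0 : y ≠ 0) :
    x = y := by
  by_contra hne
  have h1 := h.card_fixed (Or.inl ⟨rfl, rfl⟩) hz
  let f : Fin 3 → {x : Fin 21 → ZMod 2 // (redRep R z).mulVec x = x} :=
    ![⟨0, Matrix.mulVec_zero _⟩, ⟨x, hx⟩, ⟨y, hy⟩]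
  have hf : Function.Injective f := by
    intro i j e
    fin_cases i <;> fin_cases j <;> simp_all [f, eq_comm]
  have := Nat.card_le_card_of_injective f hf
  rw [Nat.card_fin] at this
  omega

theorem Good.card_fixed_inter (h : Good κ T R) {z : G} (hz : orderOf z = 11)
    (U : Submodule (ZMod 2) (Fin 21 → ZMod 2)) :
    Nat.card {x : Fin 21 → ZMod 2 // x ∈ U ∧ (redRep R z).mulVec x = x} = 1 ∨
      Nat.card {x : Fin 21 → ZMod 2 // x ∈ U ∧ (redRep R z).mulVec x = x} = 2 := by
  have h1 := h.card_fixed (Or.inl ⟨rfl, rfl⟩) hz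
  have h2 : Nat.card {x : Fin 21 → ZMod 2 // x ∈ U ∧ (redRep R z).mulVec x = x} ≤
      Nat.card {x : Fin 21 → ZMod 2 // (redRep R z).mulVec x = x} :=
    Nat.card_le_card_of_injective (fun x => ⟨x.1, x.2.2⟩) fun x y e =>
      Subtype.ext (congrArg Subtype.val e :)
  have : Nonempty {x : Fin 21 → ZMod 2 // x ∈ U ∧ (redRep R z).mulVec x = x} :=
    ⟨⟨0, U.zero_mem, Matrix.mulVec_zero _⟩⟩
  have h3 : 0 < Nat.card {x : Fin 21 → ZMod 2 // x ∈ U ∧ (redRep R z).mulVec x = x} :=
    Nat.card_pos
  omega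

/-- The dimensions of invariant subspaces. -/
theorem Good.dim_cases (h : Good κ T R) {z : G} (hz : orderOf z = 11)
    {U : Submodule (ZMod 2) (Fin 21 → ZMod 2)} (hU : IsInv (redRep R) U) :
    Module.finrank (ZMod 2) U = 0 ∨ Module.finrank (ZMod 2) U = 1 ∨
      Module.finrank (ZMod 2) U = 10 ∨ Module.finrank (ZMod 2) U = 11 ∨
      Module.finrank (ZMod 2) U = 20 ∨ Module.finrank (ZMod 2) U = 21 := by
  have : Fact (Nat.Prime 11) := ⟨by norm_num⟩
  have h1 := card_mod_fixed (redRep R z) (p := 11)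
    (by rw [← map_pow, ← hz, pow_orderOf_eq_one, map_one]) U (hU z)
  have h2 : Module.finrank (ZMod 2) U ≤ 21 :=
    (Submodule.finrank_le U).trans (le_of_eq (Module.finrank_fin_fun _))
  unfold Nat.ModEq at h1
  rcases h.card_fixed_inter hz U with e | e <;> rw [e] at h1 <;>
    interval_cases hd : Module.finrank (ZMod 2) U <;> first | omega | norm_num at h1

/-- A ten-dimensional invariant subspace gives the representation of degree ten. -/
theorem Good.ten (h : Good κ T R) {z : G} (hz : orderOf z = 11)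
    {U : Submodule (ZMod 2) (Fin 21 → ZMod 2)} (hU : IsInv (redRep R) U)
    (hd : Module.finrank (ZMod 2) U = 10) :
    ∃ φ : G →* Matrix (Fin 10) (Fin 10) (ZMod 2), φ z ≠ 1 := by
  obtain ⟨ψ, B, hB, hUB, hψ⟩ := exists_restrict hU hd
  refine ⟨ψ, fun e => ?_⟩
  have hfix : ∀ y, (redRep R z).mulVec (B.mulVec y) = B.mulVec y := fun y => by
    rw [Matrix.mulVec_mulVec, hψ, e, Matrix.mul_one]
  have h1 := h.card_fixed (Or.inl ⟨rfl, rfl⟩) hz
  have h2 := Nat.card_le_card_of_injective
    (fun y => (⟨B.mulVec y, hfix y⟩ : {x : Fin 21 → ZMod 2 // (redRep R z).mulVec x = x}))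
    fun a b e => hB (congrArg Subtype.val e)
  rw [Nat.card_eq_fintype_card, Fintype.card_fun, ZMod.card, Fintype.card_fin] at h2
  omega

/-- Vectors of the trace identity for an invariant hyperplane. -/
theorem trace_hyperplane {φ : G →* Matrix (Fin 21) (Fin 21) (ZMod 2)}
    {U : Submodule (ZMod 2) (Fin 21 → ZMod 2)} (hU : IsInv φ U)
    (hd : Module.finrank (ZMod 2) U = 20) {ψ : G →* Matrix (Fin 20) (Fin 20) (ZMod 2)}
    {B : Matrix (Fin 21) (Fin 20) (ZMod 2)} (hB : Function.Injective B.mulVec)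
    (hUB : ∀ x, x ∈ U ↔ ∃ y, B.mulVec y = x) (hψ : ∀ g, φ g * B = B * ψ g) (g : G) :
    (ψ g).trace = (φ g).trace + 1 := by
  have hp : Module.finrank (ZMod 2) (perp U) = 1 := by have := finrank_perp U; omega
  obtain ⟨a, ha0, ha⟩ := finrank_eq_one_iff'.1 hp
  have hmem : ∀ x, x ∈ U ↔ (a : Fin 21 → ZMod 2) ⬝ᵥ x = 0 := by
    intro x
    refine ⟨fun hx => mem_perp.1 a.2 x hx, fun hx => ?_⟩
    have hle : U ≤ perp (perp U) := fun u hu => mem_perp.2 fun y hy => by
      rw [dotProduct_comm]; exact mem_perp.1 hy u hu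
    have hfr : Module.finrank (ZMod 2) (perp (perp U)) = Module.finrank (ZMod 2) U := by
      have h1 := finrank_perp (perp U); omega
    rw [Submodule.eq_of_le_of_finrank_eq hle hfr.symm, mem_perp]
    intro y hy
    obtain ⟨c, hc⟩ := ha ⟨y, hy⟩
    rw [show y = c • (a : Fin 21 → ZMod 2) from (congrArg Subtype.val hc).symm,
      dotProduct_comm, smul_dotProduct, hx, smul_zero]
  obtain ⟨v, hv⟩ : ∃ v, (a : Fin 21 → ZMod 2) ⬝ᵥ v = 1 := by
    obtain ⟨i, hi⟩ := Function.ne_iff.1 (fun e : (a : Fin 21 → ZMod 2) = 0 => ha0 (Subtype.ext e))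
    refine ⟨Pi.single i 1, ?_⟩
    rw [dotProduct_single, mul_one]
    rcases (by decide : ∀ x : ZMod 2, x = 0 ∨ x = 1) ((a : Fin 21 → ZMod 2) i) with e | e
    · exact absurd e hi
    · exact e
  have hproj : ∀ x, ∃ y, B.mulVec y = x + ((a : Fin 21 → ZMod 2) ⬝ᵥ x) • v := fun x => by
    rw [← hUB, hmem, dotProduct_add, dotProduct_smul, hv, smul_eq_mul, mul_one,
      CharTwo.add_self_eq_zero]
  choose π hπ using hproj
  let P : Matrix (Fin 20) (Fin 21) (ZMod 2) := Matrix.of fun i j => π (Pi.single j 1) i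
  have hBP : B * P = 1 + Matrix.vecMulVec v (a : Fin 21 → ZMod 2) := by
    refine Matrix.ext_of_mulVec_single fun j => ?_
    rw [← Matrix.mulVec_mulVec, show P.mulVec (Pi.single j 1) = π (Pi.single j 1) by
      ext i; simp [P], hπ, Matrix.add_mulVec, Matrix.one_mulVec, Matrix.vecMulVec_mulVec]
    simp [op_smul_eq_smul]
  have hPB : P * B = 1 := by
    refine Matrix.ext_of_mulVec_single fun j => hB ?_
    rw [← Matrix.mulVec_mulVec, Matrix.mulVec_mulVec, hBP, Matrix.add_mulVec, Matrix.one_mulVec,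
      Matrix.vecMulVec_mulVec, Matrix.one_mulVec,
      (hmem (B.mulVec (Pi.single j 1))).1 ((hUB _).2 ⟨_, rfl⟩)]
    simp
  have h1 : (a : Fin 21 → ZMod 2) ⬝ᵥ (φ g).mulVec v = 1 := by
    refine ((by decide : ∀ x : ZMod 2, x = 0 ∨ x = 1) _).resolve_left fun e => ?_
    have h2 := (hmem v).1 (by
      have h3 := hU g⁻¹ _ ((hmem _).2 e)
      rwa [Matrix.mulVec_mulVec, ← map_mul, inv_mul_cancel, map_one, Matrix.one_mulVec] at h3)
    rw [hv] at h2
    exact one_ne_zero h2
  have h2 : (ψ g).trace = (φ g * (B * P)).trace := by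
    rw [← Matrix.mul_assoc, Matrix.trace_mul_comm (φ g * B) P, hψ,
      ← Matrix.mul_assoc, hPB, Matrix.one_mul]
  rw [h2, hBP, Matrix.mul_add, Matrix.mul_one, Matrix.trace_add, Matrix.mul_vecMulVec,
    Matrix.trace_vecMulVec, dotProduct_comm, h1]

/-- An element of order seven with at most four fixed vectors and trace one leaves only scalars in
the commutant. -/
theorem commutant_scalar (ψ : G →* Matrix (Fin 20) (Fin 20) (ZMod 2))
    (hirr : ∀ W : Submodule (ZMod 2) (Fin 20 → ZMod 2), (∀ g, ∀ x ∈ W, (ψ g).mulVec x ∈ W) →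
      W = ⊥ ∨ W = ⊤)
    {y : G} (hF4 : Nat.card {x : Fin 20 → ZMod 2 // (ψ y).mulVec x = x} ≤ 4)
    {x₁ : Fin 20 → ZMod 2} (hx₁ : (ψ y).mulVec x₁ = x₁) (hx₁0 : x₁ ≠ 0) (hy7 : ψ y ^ 7 = 1)
    (ht : (ψ y).trace = 1) :
    ∀ J : Matrix (Fin 20) (Fin 20) (ZMod 2), (∀ g, J * ψ g = ψ g * J) → J = 0 ∨ J = 1 := by
  have hker : ∀ J : Matrix (Fin 20) (Fin 20) (ZMod 2), (∀ g, J * ψ g = ψ g * J) →
      J.mulVec x₁ = 0 → J = 0 := by
    intro J hJ h0
    rcases hirr (LinearMap.ker J.mulVecLin) (fun g x hx => by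
      rw [LinearMap.mem_ker, Matrix.mulVecLin_apply] at hx ⊢
      rw [Matrix.mulVec_mulVec, hJ, ← Matrix.mulVec_mulVec, hx, Matrix.mulVec_zero]) with e | e
    · exact absurd (by
        have h1 : x₁ ∈ LinearMap.ker J.mulVecLin := h0
        rwa [e, Submodule.mem_bot] at h1) hx₁0
    · refine Matrix.ext_of_mulVec_single fun i => ?_
      have h1 : Pi.single i (1 : ZMod 2) ∈ LinearMap.ker J.mulVecLin := by rw [e]; trivial
      rw [Matrix.zero_mulVec]
      exact h1
  intro J hJ
  by_contra hne
  push Not at hne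
  let S : Finset (Matrix (Fin 20) (Fin 20) (ZMod 2)) := {0, 1, J, J + 1}
  have h01 : (0 : Matrix (Fin 20) (Fin 20) (ZMod 2)) ≠ 1 := by
    intro e; have := congrFun (congrFun e 0) 0; simp at this
  have hS : S.card = 4 := by
    have a1 : J + 1 ≠ 0 := fun e => hne.2 (by rwa [CharTwo.add_eq_zero] at e)
    have a2 : J + 1 ≠ 1 := fun e => hne.1 (by simpa using e)
    have a3 : J + 1 ≠ J := fun e => h01 (by simpa using e.symm)
    simp [S, h01, hne.1.symm, hne.2.symm, a1.symm, a2.symm, a3.symm]
  have hScomm : ∀ K ∈ S, ∀ g, K * ψ g = ψ g * K := by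
    intro K hK g
    simp only [S, Finset.mem_insert, Finset.mem_singleton] at hK
    rcases hK with rfl | rfl | rfl | rfl
    · simp
    · simp
    · exact hJ g
    · rw [add_mul, mul_add, hJ, one_mul, mul_one]
  have himg : ∀ K : Matrix (Fin 20) (Fin 20) (ZMod 2), (∀ g, K * ψ g = ψ g * K) →
      (ψ y).mulVec (K.mulVec x₁) = K.mulVec x₁ := fun K hK => by
    rw [Matrix.mulVec_mulVec, ← hK, ← Matrix.mulVec_mulVec, hx₁]
  have hJJ : ∀ g, J * J * ψ g = ψ g * (J * J) := fun g => by
    rw [mul_assoc, hJ, ← mul_assoc, hJ, mul_assoc]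
  by_cases hmem : J * J ∈ S
  · simp only [S, Finset.mem_insert, Finset.mem_singleton] at hmem
    rcases hmem with e | e | e | e
    · refine hne.1 (hker J hJ ?_)
      by_contra h1
      refine hne.1 ?_
      have h2 : J.mulVec (J.mulVec x₁) = 0 := by rw [Matrix.mulVec_mulVec, e, Matrix.zero_mulVec]
      rcases hirr (LinearMap.ker J.mulVecLin) (fun g x hx => by
        rw [LinearMap.mem_ker, Matrix.mulVecLin_apply] at hx ⊢
        rw [Matrix.mulVec_mulVec, hJ, ← Matrix.mulVec_mulVec, hx, Matrix.mulVec_zero]) with k | k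
      · exact absurd (by
          have h3 : J.mulVec x₁ ∈ LinearMap.ker J.mulVecLin := h2
          rwa [k, Submodule.mem_bot] at h3) h1
      · refine Matrix.ext_of_mulVec_single fun i => ?_
        have h3 : Pi.single i (1 : ZMod 2) ∈ LinearMap.ker J.mulVecLin := by rw [k]; trivial
        rw [Matrix.zero_mulVec]
        exact h3
    · -- `(J + 1)² = 0`
      have hJ1 : ∀ g, (J + 1) * ψ g = ψ g * (J + 1) := fun g => by
        rw [add_mul, mul_add, hJ, one_mul, mul_one]
      have h0 : (J + 1) * (J + 1) = 0 := by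
        rw [mul_add, add_mul, one_mul, mul_one, e,
          show (1 : Matrix (Fin 20) (Fin 20) (ZMod 2)) + J + (J + 1) = (1 + 1) + (J + J) by abel,
          CharTwo.add_self_eq_zero, CharTwo.add_self_eq_zero, add_zero]
      refine hne.2 ?_
      have hz' : J + 1 = 0 := by
        rcases hirr (LinearMap.ker (J + 1).mulVecLin) (fun g x hx => by
          rw [LinearMap.mem_ker, Matrix.mulVecLin_apply] at hx ⊢
          rw [Matrix.mulVec_mulVec, hJ1, ← Matrix.mulVec_mulVec, hx, Matrix.mulVec_zero])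
          with k | k
        · refine Matrix.ext_of_mulVec_single fun i => ?_
          have h3 : (J + 1).mulVec (Pi.single i 1) ∈ LinearMap.ker (J + 1).mulVecLin := by
            rw [LinearMap.mem_ker, Matrix.mulVecLin_apply, Matrix.mulVec_mulVec, h0,
              Matrix.zero_mulVec]
          rw [k, Submodule.mem_bot] at h3
          rw [Matrix.zero_mulVec]; exact h3
        · refine Matrix.ext_of_mulVec_single fun i => ?_
          have h3 : Pi.single i (1 : ZMod 2) ∈ LinearMap.ker (J + 1).mulVecLin := by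
            rw [k]; trivial
          rw [Matrix.zero_mulVec]
          exact h3
      rwa [CharTwo.add_eq_zero] at hz'
    · refine hne.2 ?_
      have h0 : J * (J + 1) = 0 := by rw [mul_add, mul_one, e, CharTwo.add_self_eq_zero]
      rcases hirr (LinearMap.ker J.mulVecLin) (fun g x hx => by
          rw [LinearMap.mem_ker, Matrix.mulVecLin_apply] at hx ⊢
          rw [Matrix.mulVec_mulVec, hJ, ← Matrix.mulVec_mulVec, hx, Matrix.mulVec_zero])
          with k | k
      · have hz' : J + 1 = 0 := Matrix.ext_of_mulVec_single fun i => by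
          have h3 : (J + 1).mulVec (Pi.single i 1) ∈ LinearMap.ker J.mulVecLin := by
            rw [LinearMap.mem_ker, Matrix.mulVecLin_apply, Matrix.mulVec_mulVec, h0,
              Matrix.zero_mulVec]
          rw [k, Submodule.mem_bot] at h3
          rw [Matrix.zero_mulVec]; exact h3
        rwa [CharTwo.add_eq_zero] at hz'
      · exfalso
        refine hne.1 (Matrix.ext_of_mulVec_single fun i => ?_)
        have h3 : Pi.single i (1 : ZMod 2) ∈ LinearMap.ker J.mulVecLin := by rw [k]; trivial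
        rw [Matrix.zero_mulVec]
        exact h3
    · -- a field with four elements: the trace at `y` would be zero
      exact zero_ne_one ((trace_eq_zero_of_golden (hJ y) e hy7).symm.trans ht)
  · -- five elements among four fixed vectors
    have hS5 : (insert (J * J) S).card = 5 := by rw [Finset.card_insert_of_notMem hmem, hS]
    have hall : ∀ K ∈ insert (J * J) S, ∀ g, K * ψ g = ψ g * K := by
      intro K hK
      rcases Finset.mem_insert.1 hK with rfl | hK
      · exact hJJ
      · exact hScomm K hK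
    let f : (insert (J * J) S : Finset _) → {x : Fin 20 → ZMod 2 // (ψ y).mulVec x = x} := fun K =>
      ⟨K.1.mulVec x₁, himg K.1 (hall K.1 K.2)⟩
    have hfinj : Function.Injective f := by
      rintro ⟨K, hK⟩ ⟨K', hK'⟩ e
      refine Subtype.ext (sub_eq_zero.1 (hker (K - K') (fun g => ?_) ?_))
      · rw [sub_mul, mul_sub, hall K hK g, hall K' hK' g]
      · rw [Matrix.sub_mulVec, sub_eq_zero]; exact congrArg Subtype.val e
    have := Nat.card_le_card_of_injective f hfinj
    rw [Nat.card_eq_fintype_card, Fintype.card_coe, hS5] at this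
    omega

/-- An invariant hyperplane leads to degree ten. -/
theorem Good.of_twenty (h : Good κ T R) {z y : G} (hz : orderOf z = 11) (hy : orderOf y = 7)
    {U : Submodule (ZMod 2) (Fin 21 → ZMod 2)} (hU : IsInv (redRep R) U)
    (hd : Module.finrank (ZMod 2) U = 20) :
    ∃ φ : G →* Matrix (Fin 10) (Fin 10) (ZMod 2), φ z ≠ 1 := by
  have : Fact (Nat.Prime 11) := ⟨by norm_num⟩
  have : Fact (Nat.Prime 7) := ⟨by norm_num⟩
  by_contra hno
  obtain ⟨ψ, B, hB, hUB, hψ⟩ := exists_restrict hU hd
  have hBmem : ∀ x, B.mulVec x ∈ U := fun x => (hUB _).2 ⟨x, rfl⟩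
  have hint : ∀ g x, (redRep R g).mulVec (B.mulVec x) = B.mulVec ((ψ g).mulVec x) := fun g x => by
    rw [Matrix.mulVec_mulVec, hψ, Matrix.mulVec_mulVec]
  -- no element of order eleven fixes a nonzero vector of the hyperplane
  have hz0 : ∀ x ∈ U, (redRep R z).mulVec x = x → x = 0 := by
    intro x hx hfx
    rcases h.card_fixed_inter hz U with e | e
    · have := (Nat.card_eq_one_iff_unique.1 e).1
      exact congrArg Subtype.val (Subsingleton.elim
        (⟨x, hx, hfx⟩ : {x : Fin 21 → ZMod 2 // x ∈ U ∧ (redRep R z).mulVec x = x})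
        ⟨0, U.zero_mem, Matrix.mulVec_zero _⟩)
    · exfalso
      have h1 := card_mod_fixed (redRep R z) (p := 11)
        (by rw [← map_pow, ← hz, pow_orderOf_eq_one, map_one]) U (hU z)
      rw [e, hd] at h1
      unfold Nat.ModEq at h1
      norm_num at h1
  have hirr : ∀ W : Submodule (ZMod 2) (Fin 20 → ZMod 2), (∀ g, ∀ x ∈ W, (ψ g).mulVec x ∈ W) →
      W = ⊥ ∨ W = ⊤ := by
    intro W hW
    let W' : Submodule (ZMod 2) (Fin 21 → ZMod 2) := W.map B.mulVecLin
    have hW' : IsInv (redRep R) W' := by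
      rintro g _ ⟨x, hx, rfl⟩
      exact ⟨(ψ g).mulVec x, hW g x hx, (hint g x).symm⟩
    have hfr : Module.finrank (ZMod 2) W' = Module.finrank (ZMod 2) W :=
      (Submodule.equivMapOfInjective B.mulVecLin hB W).finrank_eq.symm
    have hle : Module.finrank (ZMod 2) W ≤ 20 :=
      (Submodule.finrank_le W).trans (le_of_eq (Module.finrank_fin_fun _))
    rcases h.dim_cases hz hW' with e | e | e | e | e | e <;> rw [hfr] at e
    · exact Or.inl (Submodule.finrank_eq_zero.1 e)
    · exfalso
      obtain ⟨w, hw0, hw⟩ := finrank_eq_one_iff'.1 e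
      obtain ⟨c, hc⟩ := hw ⟨(ψ z).mulVec w, hW z _ w.2⟩
      have hc1 : (ψ z).mulVec w = (w : Fin 20 → ZMod 2) := by
        have h1 : c • (w : Fin 20 → ZMod 2) = (ψ z).mulVec w := congrArg Subtype.val hc
        rcases (by decide : ∀ x : ZMod 2, x = 0 ∨ x = 1) c with rfl | rfl
        · exfalso
          rw [zero_smul] at h1
          have h2 := congrArg (fun v => (ψ z⁻¹).mulVec v) h1.symm
          rw [Matrix.mulVec_mulVec, ← map_mul, inv_mul_cancel, map_one, Matrix.one_mulVec,
            Matrix.mulVec_zero] at h2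
          exact hw0 (Subtype.ext h2)
        · rw [one_smul] at h1; exact h1.symm
      have h2 := hz0 _ (hBmem w) (by rw [hint, hc1])
      exact hw0 (Subtype.ext (hB (h2.trans (Matrix.mulVec_zero _).symm)))
    · exact absurd (h.ten hz hW' (hfr.trans e)) hno
    · have h1 : Module.finrank (ZMod 2) (perp W') = 10 := by have := finrank_perp W'; omega
      exact absurd (h.dual.ten hz (U := perp W') (by rw [redRep_dual]; exact isInv_perp hW') h1) hno
    · exact Or.inr (Submodule.eq_top_of_finrank_eq (e.trans (Module.finrank_fin_fun _).symm))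
    · omega
  have htrψ : ∀ g, (ψ g).trace = (redRep R g).trace + 1 :=
    trace_hyperplane hU hd hB hUB hψ
  -- the fixed vectors of `y` in the hyperplane
  set F := {x : Fin 20 → ZMod 2 // (ψ y).mulVec x = x} with hF
  have hF4 : Nat.card F ≤ 4 := by
    obtain ⟨v, hv⟩ : ∃ v, v ∉ U := by
      by_contra hall
      push Not at hall
      have : U = ⊤ := eq_top_iff.2 fun x _ => hall x
      rw [this, finrank_top, Module.finrank_fin_fun] at hd
      omega
    let ev := ∑ i ∈ Finset.range 7, ((redRep R y) ^ i).mulVec v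
    have hy7 : (redRep R y) ^ 7 = 1 := by rw [← map_pow, ← hy, pow_orderOf_eq_one, map_one]
    have hevfix : (redRep R y).mulVec ev = ev := by
      simp only [ev, Matrix.mulVec_sum, Matrix.mulVec_mulVec, ← pow_succ']
      have h1 := Finset.sum_range_succ (fun i => ((redRep R y) ^ i).mulVec v) 7
      rw [Finset.sum_range_succ', pow_zero, hy7] at h1
      exact add_right_cancel h1
    have hevU : ev ∉ U := by
      intro hev
      apply hv
      have hd1 : ∀ i, ((redRep R y) ^ i).mulVec v + v ∈ U := by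
        intro i
        have hp : Module.finrank (ZMod 2) (perp U) = 1 := by have := finrank_perp U; omega
        by_contra hni
        have hi : ((redRep R y) ^ i).mulVec v ∉ U := fun hc => hv (by
          have h3 := hU ((y ^ i)⁻¹) _ hc
          rwa [← map_pow, Matrix.mulVec_mulVec, ← map_mul, inv_mul_cancel, map_one,
            Matrix.one_mulVec] at h3)
        obtain ⟨a, ha0, ha⟩ := finrank_eq_one_iff'.1 hp
        have hle : U ≤ perp (perp U) := fun u hu => mem_perp.2 fun w hw => by
          rw [dotProduct_comm]; exact mem_perp.1 hw u hu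
        have hfr : Module.finrank (ZMod 2) (perp (perp U)) = Module.finrank (ZMod 2) U := by
          have h1 := finrank_perp (perp U); omega
        have hmem : ∀ x, (a : Fin 21 → ZMod 2) ⬝ᵥ x = 0 → x ∈ U := fun x hx => by
          rw [Submodule.eq_of_le_of_finrank_eq hle hfr.symm, mem_perp]
          intro w hw
          obtain ⟨c, hc⟩ := ha ⟨w, hw⟩
          rw [show w = c • (a : Fin 21 → ZMod 2) from (congrArg Subtype.val hc).symm,
            dotProduct_comm, smul_dotProduct, hx, smul_zero]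
        have one : ∀ x, x ∉ U → (a : Fin 21 → ZMod 2) ⬝ᵥ x = 1 := fun x hx =>
          ((by decide : ∀ x : ZMod 2, x = 0 ∨ x = 1) _).resolve_left fun e => hx (hmem x e)
        exact hni (hmem _ (by rw [dotProduct_add, one _ hi, one _ hv]; rfl))
      have h2 : (∑ i ∈ Finset.range 7, (((redRep R y) ^ i).mulVec v + v)) ∈ U :=
        Submodule.sum_mem _ fun i _ => hd1 i
      rw [Finset.sum_add_distrib, Finset.sum_const, Finset.card_range,
        ← Nat.cast_smul_eq_nsmul (ZMod 2), show ((7 : ℕ) : ZMod 2) = 1 from rfl, one_smul] at h2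
      have h3 := U.sub_mem h2 hev
      rwa [add_sub_cancel_left] at h3
    have h8 := h.card_fixed (Or.inr ⟨rfl, rfl⟩) hy
    let g : F ⊕ F → {x : Fin 21 → ZMod 2 // (redRep R y).mulVec x = x} := fun s =>
      match s with
      | Sum.inl x => ⟨B.mulVec x.1, by rw [hint, x.2]⟩
      | Sum.inr x => ⟨B.mulVec x.1 + ev, by rw [Matrix.mulVec_add, hint, x.2, hevfix]⟩
    have hg : Function.Injective g := by
      rintro (a | a) (b | b) e <;> have e' := congrArg Subtype.val e <;> simp only [g] at e'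
      · exact congrArg Sum.inl (Subtype.ext (hB e'))
      · exact absurd (by
          have h3 := U.sub_mem (hBmem a.1) (hBmem b.1)
          rwa [e', add_sub_cancel_left] at h3) hevU
      · exact absurd (by
          have h3 := U.sub_mem (hBmem b.1) (hBmem a.1)
          rwa [← e', add_sub_cancel_left] at h3) hevU
      · exact congrArg Sum.inr (Subtype.ext (hB (add_right_cancel e')))
    have := Nat.card_le_card_of_injective g hg
    rw [Nat.card_sum] at this
    omega
  obtain ⟨x₁, hx₁, hx₁0⟩ : ∃ x, (ψ y).mulVec x = x ∧ x ≠ 0 := by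
    by_contra hall
    push Not at hall
    have h1 := card_mod_fixed (ψ y) (p := 7) (by rw [← map_pow, ← hy, pow_orderOf_eq_one, map_one])
      ⊤ fun _ _ => trivial
    rw [finrank_top, Module.finrank_fin_fun] at h1
    have h2 : Nat.card {x : Fin 20 → ZMod 2 //
        x ∈ (⊤ : Submodule (ZMod 2) (Fin 20 → ZMod 2)) ∧ (ψ y).mulVec x = x} = 1 := by
      rw [Nat.card_eq_one_iff_unique]
      exact ⟨⟨fun a b => Subtype.ext ((hall _ a.2.2).trans (hall _ b.2.2).symm)⟩,
        ⟨⟨0, trivial, Matrix.mulVec_zero _⟩⟩⟩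
    rw [h2] at h1
    unfold Nat.ModEq at h1
    norm_num at h1
  have hcomm : ∀ J : Matrix (Fin 20) (Fin 20) (ZMod 2), (∀ g, J * ψ g = ψ g * J) →
      J = 0 ∨ J = 1 :=
    commutant_scalar ψ hirr hF4 hx₁ hx₁0 (by rw [← map_pow, ← hy, pow_orderOf_eq_one, map_one])
      (by rw [htrψ, trace_redRep, h.seven y hy]; simp)
  refine no_trace_split κ ψ (by norm_num) (algRep_surjective ψ (by norm_num) hirr hcomm) h.like 0
    fun g => ?_
  rw [htrψ, trace_redRep, map_add, map_one, h.htr]
  rw [show (1 : k) + T g + T g⁻¹ + 1 = T g + T g⁻¹ + (1 + 1) by ring, CharTwo.add_self_eq_zero]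
  ring

/-- A composition factor of degree ten. -/
theorem Good.exists_ten (h : Good κ T R) {z y : G} (hz : orderOf z = 11) (hy : orderOf y = 7) :
    ∃ φ : G →* Matrix (Fin 10) (Fin 10) (ZMod 2), φ z ≠ 1 := by
  have : Fact (Nat.Prime 11) := ⟨by norm_num⟩
  by_contra hno
  have hirr : ∀ W : Submodule (ZMod 2) (Fin 21 → ZMod 2), IsInv (redRep R) W → W = ⊥ ∨ W = ⊤ := by
    intro W hW
    have hp := finrank_perp W
    have hpW : IsInv (redRep (dualRep R)) (perp W) := by rw [redRep_dual]; exact isInv_perp hW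
    rcases h.dim_cases hz hW with e | e | e | e | e | e
    · exact Or.inl (Submodule.finrank_eq_zero.1 e)
    · exact absurd (h.dual.of_twenty hz hy hpW (by omega)) hno
    · exact absurd (h.ten hz hW e) hno
    · exact absurd (h.dual.ten hz hpW (by omega)) hno
    · exact absurd (h.of_twenty hz hy hW e) hno
    · exact Or.inr (Submodule.eq_top_of_finrank_eq (e.trans (Module.finrank_fin_fun _).symm))
  obtain ⟨x₀, hx₀, hx₀0⟩ : ∃ x, (redRep R z).mulVec x = x ∧ x ≠ 0 := by
    by_contra hall
    push Not at hall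
    have h1 := card_mod_fixed (redRep R z) (p := 11)
      (by rw [← map_pow, ← hz, pow_orderOf_eq_one, map_one]) ⊤ fun _ _ => trivial
    rw [finrank_top, Module.finrank_fin_fun] at h1
    have h2 : Nat.card {x : Fin 21 → ZMod 2 //
        x ∈ (⊤ : Submodule (ZMod 2) (Fin 21 → ZMod 2)) ∧ (redRep R z).mulVec x = x} = 1 := by
      rw [Nat.card_eq_one_iff_unique]
      exact ⟨⟨fun a b => Subtype.ext ((hall _ a.2.2).trans (hall _ b.2.2).symm)⟩,
        ⟨⟨0, trivial, Matrix.mulVec_zero _⟩⟩⟩
    rw [h2] at h1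
    unfold Nat.ModEq at h1
    norm_num at h1
  have hzero : ∀ J : Matrix (Fin 21) (Fin 21) (ZMod 2),
      (∀ g, J * redRep R g = redRep R g * J) → J.mulVec x₀ = 0 → J = 0 := by
    intro J hJ h0
    rcases hirr (LinearMap.ker J.mulVecLin) (fun g x hx => by
      rw [LinearMap.mem_ker, Matrix.mulVecLin_apply] at hx ⊢
      rw [Matrix.mulVec_mulVec, hJ, ← Matrix.mulVec_mulVec, hx, Matrix.mulVec_zero]) with e | e
    · exact absurd (by
        have h1 : x₀ ∈ LinearMap.ker J.mulVecLin := h0
        rwa [e, Submodule.mem_bot] at h1) hx₀0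
    · refine Matrix.ext_of_mulVec_single fun i => ?_
      have h1 : Pi.single i (1 : ZMod 2) ∈ LinearMap.ker J.mulVecLin := by rw [e]; trivial
      rw [Matrix.zero_mulVec]
      exact h1
  have hcomm : ∀ J : Matrix (Fin 21) (Fin 21) (ZMod 2),
      (∀ g, J * redRep R g = redRep R g * J) → J = 0 ∨ J = 1 := by
    intro J hJ
    have h1 : (redRep R z).mulVec (J.mulVec x₀) = J.mulVec x₀ := by
      rw [Matrix.mulVec_mulVec, ← hJ, ← Matrix.mulVec_mulVec, hx₀]
    by_cases h0 : J.mulVec x₀ = 0
    · exact Or.inl (hzero J hJ h0)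
    · refine Or.inr (sub_eq_zero.1 (hzero (J - 1) (fun g => ?_) ?_))
      · rw [sub_mul, mul_sub, hJ, one_mul, mul_one]
      · rw [Matrix.sub_mulVec, Matrix.one_mulVec, h.fixed_unique hz h1 hx₀ h0 hx₀0, sub_self]
  exact no_trace_split κ (redRep R) (by norm_num)
    (algRep_surjective _ (by norm_num) hirr hcomm) h.like 1 fun g => by
      rw [trace_redRep, h.htr]

end CfsgLib.Blocks.Order443520
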