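import Cfsg.Agent.Lib.Blocks.Order443520.Chars
import Cfsg.Agent.Lib.Char.PowerTwist
import Cfsg.Agent.Lib.Perm.RationalValue

/-!
# The twelve characters by name, and the relations from the three principal blocks
-/

set_option autoImplicit false

namespace CfsgLib.Blocks.Order443520

open Cfsg CfsgLib CfsgLib.Char CfsgLib.CharIntegral CfsgLib.Blocks.PrimeSylow
open CfsgLib.Blocks.Order95040 (deg cent deg_cast deg_trivChar deg_eq_finrank)
open Local
open scoped Classical ComplexConjugate

theorem exists_list_map_eq {α β : Type*} (f : α → β) :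
    ∀ (l : List β) (m : Multiset α), m.map f = (l : Multiset β) →
      ∃ l' : List α, (l' : Multiset α) = m ∧ l'.map f = l
  | [], m, h => ⟨[], by
      rw [Multiset.coe_nil, Multiset.map_eq_zero] at h
      exact h.symm, rfl⟩
  | b :: l, m, h => by
    obtain ⟨a, ha, hab⟩ := Multiset.mem_map.1
      (show b ∈ m.map f by rw [h]; exact Multiset.mem_coe.2 List.mem_cons_self)
    obtain ⟨m', rfl⟩ := Multiset.exists_cons_of_mem ha
    rw [Multiset.map_cons, hab, ← Multiset.cons_coe, Multiset.cons_inj_right] at h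
    obtain ⟨l', hl', hm⟩ := exists_list_map_eq f l m' h
    exact ⟨a :: l', by rw [← Multiset.cons_coe, hl'], by rw [List.map_cons, hm, hab]⟩

variable {G : Type*} [Group G] [Fintype G]

/-- The characters by name, with the three local data and a central involution. -/
structure Tbl (G : Type*) [Group G] [Fintype G] [Fintype (IrrCharacter G)] where
  L5 : Local G 5
  L7 : Local G 7
  L11 : Local G 11
  e5 : L5.e = 4
  v5 : Nat.card L5.V = 1
  e7 : L7.e = 3
  v7 : Nat.card L7.V = 1
  e11 : L11.e = 5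
  v11 : Nat.card L11.V = 1
  t : G
  ht : orderOf t = 2
  hct : cent t = 384
  c385 : IrrCharacter G
  c21 : IrrCharacter G
  a45 : IrrCharacter G
  b45 : IrrCharacter G
  c55 : IrrCharacter G
  c99 : IrrCharacter G
  c154 : IrrCharacter G
  c210 : IrrCharacter G
  c231 : IrrCharacter G
  a280 : IrrCharacter G
  b280 : IrrCharacter G
  univ_eq : (Finset.univ : Finset (IrrCharacter G)).val =
    (([trivChar G, c385, c21, a45, b45, c55, c99, c154, c210, c231, a280, b280] :
      List (IrrCharacter G)) : Multiset (IrrCharacter G))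
  cells : [trivChar G, c385, c21, a45, b45, c55, c99, c154, c210, c231, a280, b280].map (cell t) =
    allCells

/-- The table exists. -/
theorem exists_tbl [IsSimpleGroup G] [Fintype (IrrCharacter G)] (hG : Nat.card G = ord) :
    Nonempty (Tbl G) := by
  have : Fact (Nat.Prime 5) := ⟨by norm_num⟩
  have : Fact (Nat.Prime 7) := ⟨by norm_num⟩
  have : Fact (Nat.Prime 11) := ⟨by norm_num⟩
  obtain ⟨L5⟩ := exists_local hG (p := 5) (Or.inl rfl)
  obtain ⟨L7⟩ := exists_local hG (p := 7) (Or.inr (Or.inl rfl))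
  obtain ⟨L11⟩ := exists_local hG (p := 11) (Or.inr (Or.inr rfl))
  obtain ⟨⟨h1, h2⟩, ⟨h3, h4⟩⟩ := shapes hG L5 L7 L11
  obtain ⟨h5, h6⟩ := eleven_shape hG L11
  obtain ⟨t, ht, hct, hcells⟩ := exists_cells hG
  obtain ⟨l, hl, hlm⟩ := exists_list_map_eq (cell t) allCells _ hcells
  have hlen : l.length = 12 := by
    have := congrArg List.length hlm
    simpa [allCells, finalCells] using this
  match l, hlen, hl, hlm with
  | [x0, c385, c21, a45, b45, c55, c99, c154, c210, c231, a280, b280], _, hl, hlm =>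
    have h0 : x0 = trivChar G := deg_one (perfect hG) (by
      have h := congrArg (fun m : List Cell => m.head?) hlm
      simp only [List.map_cons, List.head?_cons, allCells, Option.some.injEq, cell,
        Prod.mk.injEq] at h
      exact h.1)
    subst h0
    exact ⟨⟨L5, L7, L11, h1, h2, h3, h4, h5, h6, t, ht, hct, c385, c21, a45, b45, c55, c99, c154,
      c210, c231, a280, b280, hl.symm, hlm⟩⟩

namespace Tbl

variable [Fintype (IrrCharacter G)] (T : Tbl G)

theorem sum_eq {M : Type*} [AddCommMonoid M] (f : IrrCharacter G → M) :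
    ∑ χ, f χ = f (trivChar G) + (f T.c385 + (f T.c21 + (f T.a45 + (f T.b45 + (f T.c55 +
      (f T.c99 + (f T.c154 + (f T.c210 + (f T.c231 + (f T.a280 + f T.b280)))))))))) := by
  simp [Finset.sum, T.univ_eq]

theorem cases_eq (χ : IrrCharacter G) :
    χ = trivChar G ∨ χ = T.c385 ∨ χ = T.c21 ∨ χ = T.a45 ∨ χ = T.b45 ∨ χ = T.c55 ∨ χ = T.c99 ∨
      χ = T.c154 ∨ χ = T.c210 ∨ χ = T.c231 ∨ χ = T.a280 ∨ χ = T.b280 := by
  have h := Finset.mem_univ χ
  rw [← Finset.mem_val, T.univ_eq] at h
  simpa using h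

theorem nodup : [trivChar G, T.c385, T.c21, T.a45, T.b45, T.c55, T.c99, T.c154, T.c210, T.c231,
    T.a280, T.b280].Nodup := by
  have h := (Finset.univ : Finset (IrrCharacter G)).nodup
  rwa [T.univ_eq, Multiset.coe_nodup] at h

theorem ne45 : T.a45 ≠ T.b45 := by
  have h := T.nodup
  simp only [List.nodup_cons, List.mem_cons, not_or] at h
  exact h.2.2.2.1.1

theorem degs : deg T.c385 = 385 ∧ deg T.c21 = 21 ∧ deg T.a45 = 45 ∧ deg T.b45 = 45 ∧
    deg T.c55 = 55 ∧ deg T.c99 = 99 ∧ deg T.c154 = 154 ∧ deg T.c210 = 210 ∧ deg T.c231 = 231 ∧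
    deg T.a280 = 280 ∧ deg T.b280 = 280 := by
  have h := congrArg (List.map Prod.fst) T.cells
  simp only [List.map_cons, List.map_nil, allCells, finalCells, cell, List.cons.injEq, and_true]
    at h
  exact h.2

theorem vals : ival T.t T.c385 = 1 ∧ ival T.t T.c21 = 5 ∧ ival T.t T.a45 = -3 ∧
    ival T.t T.b45 = -3 ∧ ival T.t T.c55 = 7 ∧ ival T.t T.c99 = 3 ∧ ival T.t T.c154 = 10 ∧
    ival T.t T.c210 = 2 ∧ ival T.t T.c231 = 7 ∧ ival T.t T.a280 = -8 ∧ ival T.t T.b280 = -8 := by
  have h := congrArg (List.map Prod.snd) T.cells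
  simp only [List.map_cons, List.map_nil, allCells, finalCells, cell, List.cons.injEq, and_true]
    at h
  exact h.2

/-- Members are told apart by their degrees. -/
theorem eq_of_deg {χ : IrrCharacter G} :
    (deg χ = 21 → χ = T.c21) ∧ (deg χ = 55 → χ = T.c55) ∧ (deg χ = 99 → χ = T.c99) ∧
      (deg χ = 154 → χ = T.c154) ∧ (deg χ = 210 → χ = T.c210) ∧ (deg χ = 231 → χ = T.c231) ∧
      (deg χ = 385 → χ = T.c385) ∧ (deg χ = 45 → χ = T.a45 ∨ χ = T.b45) ∧
      (deg χ = 280 → χ = T.a280 ∨ χ = T.b280) := by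
  obtain ⟨d1, d2, d3, d4, d5, d6, d7, d8, d9, d10, d11⟩ := T.degs
  rcases T.cases_eq χ with rfl | rfl | rfl | rfl | rfl | rfl | rfl | rfl | rfl | rfl | rfl | rfl <;>
    simp [*, deg_trivChar]

end Tbl

variable [IsSimpleGroup G] [Fintype (IrrCharacter G)] (hG : Nat.card G = ord) (T : Tbl G)
include hG

theorem ne_triv {χ : IrrCharacter G} (h : 1 < deg χ) : χ ≠ trivChar G := fun e => by
  rw [e, deg_trivChar] at h
  exact lt_irrefl _ h

theorem nt_five : T.L5.nt = {T.c21, T.c99, T.c154, T.c231} := by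
  obtain ⟨d1, d2, d3, d4, d5, d6, d7, d8, d9, d10, d11⟩ := T.degs
  ext χ
  rw [T.L5.mem_nt_iff T.v5]
  simp only [Finset.mem_insert, Finset.mem_singleton]
  constructor
  · rintro ⟨hne, hd⟩
    rcases T.cases_eq χ with rfl | rfl | rfl | rfl | rfl | rfl | rfl | rfl | rfl | rfl | rfl | rfl <;>
      simp_all
  · rintro (rfl | rfl | rfl | rfl) <;> refine ⟨ne_triv hG (by omega), ?_⟩ <;> omega

theorem nt_seven : T.L7.nt = {T.a45, T.b45, T.c55, T.c99} := by
  obtain ⟨d1, d2, d3, d4, d5, d6, d7, d8, d9, d10, d11⟩ := T.degs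
  ext χ
  rw [T.L7.mem_nt_iff T.v7]
  simp only [Finset.mem_insert, Finset.mem_singleton]
  constructor
  · rintro ⟨hne, hd⟩
    rcases T.cases_eq χ with rfl | rfl | rfl | rfl | rfl | rfl | rfl | rfl | rfl | rfl | rfl | rfl <;>
      simp_all
  · rintro (rfl | rfl | rfl | rfl) <;> refine ⟨ne_triv hG (by omega), ?_⟩ <;> omega

theorem nt_eleven : T.L11.nt = {T.c21, T.a45, T.b45, T.c210, T.a280, T.b280} := by
  obtain ⟨d1, d2, d3, d4, d5, d6, d7, d8, d9, d10, d11⟩ := T.degs
  ext χ
  rw [T.L11.mem_nt_iff T.v11]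
  simp only [Finset.mem_insert, Finset.mem_singleton]
  constructor
  · rintro ⟨hne, hd⟩
    rcases T.cases_eq χ with rfl | rfl | rfl | rfl | rfl | rfl | rfl | rfl | rfl | rfl | rfl | rfl <;>
      simp_all
  · rintro (rfl | rfl | rfl | rfl | rfl | rfl) <;> refine ⟨ne_triv hG (by omega), ?_⟩ <;> omega

theorem seven_sets : T.L7.data.Y = {T.a45, T.b45} ∧
    T.L7.data.X.erase (trivChar G) = {T.c55, T.c99} ∧ T.L7.data.ε = 1 := by
  obtain ⟨d1, d2, d3, d4, d5, d6, d7, d8, d9, d10, d11⟩ := T.degs
  have he := T.e7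
  have hY : T.L7.data.Y = {T.a45, T.b45} := by
    ext χ
    simp only [Finset.mem_insert, Finset.mem_singleton]
    constructor
    · intro h
      have hn : χ ∈ T.L7.nt := by rw [T.L7.nt_eq]; exact Finset.mem_union_right _ h
      have hr := (T.L7.data.modY χ h)
      rw [nt_seven hG T] at hn
      simp only [Finset.mem_insert, Finset.mem_singleton] at hn
      rw [Int.modEq_iff_dvd, show ((T.L7.e : ℕ) : ℤ) = 3 by exact_mod_cast he] at hr
      rcases hn with rfl | rfl | rfl | rfl
      · exact Or.inl rfl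
      · exact Or.inr rfl
      · exfalso; rcases T.L7.data.sgnY with e | e <;> rw [e, d5] at hr <;> omega
      · exfalso; rcases T.L7.data.sgnY with e | e <;> rw [e, d6] at hr <;> omega
    · intro h
      have hn : χ ∈ T.L7.nt := by
        rw [nt_seven hG T]
        rcases h with rfl | rfl <;> simp
      rcases T.L7.residue (by norm_num) hn with h1 | h1
      · rcases h with rfl | rfl <;> omega
      · exact h1.1
  refine ⟨hY, ?_, ?_⟩
  · have h := T.L7.nt_eq
    rw [nt_seven hG T] at h
    ext χ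
    simp only [Finset.mem_insert, Finset.mem_singleton]
    constructor
    · intro hx
      have hn : χ ∈ ({T.a45, T.b45, T.c55, T.c99} : Finset (IrrCharacter G)) := by
        rw [h]; exact Finset.mem_union_left _ hx
      have hn' : χ ∉ T.L7.data.Y :=
        fun hy => Finset.disjoint_left.1 T.L7.data.disj (Finset.mem_of_mem_erase hx) hy
      rw [hY] at hn'
      simp only [Finset.mem_insert, Finset.mem_singleton] at hn hn'
      tauto
    · intro hx
      have hn : χ ∈ T.L7.nt := by
        rw [nt_seven hG T]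
        rcases hx with rfl | rfl <;> simp
      rw [T.L7.nt_eq, Finset.mem_union, hY] at hn
      refine hn.resolve_right fun hy => ?_
      simp only [Finset.mem_insert, Finset.mem_singleton] at hy
      rcases hx with rfl | rfl <;> rcases hy with e | e <;>
        have := congrArg deg e <;> omega
  · have hr := T.L7.data.modY T.a45 (by rw [hY]; simp)
    rw [Int.modEq_iff_dvd, show ((T.L7.e : ℕ) : ℤ) = 3 by exact_mod_cast he, d3] at hr
    rcases T.L7.data.sgnY with e | e <;> rw [e] at hr <;> omega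

theorem eleven_sets : T.L11.data.Y = {T.a280, T.b280} ∧
    T.L11.data.X.erase (trivChar G) = {T.c21, T.a45, T.b45, T.c210} ∧ T.L11.data.ε = 1 := by
  obtain ⟨d1, d2, d3, d4, d5, d6, d7, d8, d9, d10, d11⟩ := T.degs
  have he := T.e11
  have hY : T.L11.data.Y = {T.a280, T.b280} := by
    ext χ
    simp only [Finset.mem_insert, Finset.mem_singleton]
    constructor
    · intro h
      have hn : χ ∈ T.L11.nt := by rw [T.L11.nt_eq]; exact Finset.mem_union_right _ h
      have hr := (T.L11.data.modY χ h)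
      rw [nt_eleven hG T] at hn
      simp only [Finset.mem_insert, Finset.mem_singleton] at hn
      rw [Int.modEq_iff_dvd, show ((T.L11.e : ℕ) : ℤ) = 5 by exact_mod_cast he] at hr
      rcases hn with rfl | rfl | rfl | rfl | rfl | rfl
      · exfalso; rcases T.L11.data.sgnY with e | e <;> rw [e, d2] at hr <;> omega
      · exfalso; rcases T.L11.data.sgnY with e | e <;> rw [e, d3] at hr <;> omega
      · exfalso; rcases T.L11.data.sgnY with e | e <;> rw [e, d4] at hr <;> omega
      · exfalso; rcases T.L11.data.sgnY with e | e <;> rw [e, d8] at hr <;> omega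
      · exact Or.inl rfl
      · exact Or.inr rfl
    · intro h
      have hn : χ ∈ T.L11.nt := by
        rw [nt_eleven hG T]
        rcases h with rfl | rfl <;> simp
      rcases T.L11.residue (by norm_num) hn with h1 | h1
      · rcases h with rfl | rfl <;> omega
      · exact h1.1
  refine ⟨hY, ?_, ?_⟩
  · ext χ
    simp only [Finset.mem_insert, Finset.mem_singleton]
    constructor
    · intro hx
      have hn : χ ∈ T.L11.nt := by rw [T.L11.nt_eq]; exact Finset.mem_union_left _ hx
      have hn' : χ ∉ T.L11.data.Y :=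
        fun hy => Finset.disjoint_left.1 T.L11.data.disj (Finset.mem_of_mem_erase hx) hy
      rw [hY] at hn'
      rw [nt_eleven hG T] at hn
      simp only [Finset.mem_insert, Finset.mem_singleton] at hn hn'
      tauto
    · intro hx
      have hn : χ ∈ T.L11.nt := by
        rw [nt_eleven hG T]
        rcases hx with rfl | rfl | rfl | rfl <;> simp
      rw [T.L11.nt_eq, Finset.mem_union, hY] at hn
      refine hn.resolve_right fun hy => ?_
      simp only [Finset.mem_insert, Finset.mem_singleton] at hy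
      rcases hx with rfl | rfl | rfl | rfl <;> rcases hy with e | e <;>
        have := congrArg deg e <;> omega
  · have hr := T.L11.data.modY T.a280 (by rw [hY]; simp)
    rw [Int.modEq_iff_dvd, show ((T.L11.e : ℕ) : ℤ) = 5 by exact_mod_cast he, d10] at hr
    rcases T.L11.data.sgnY with e | e <;> rw [e] at hr <;> omega

/-- The relation of the principal 7-block. -/
theorem rel_seven {θ : IrrCharacter G} (hθ : θ = T.a45 ∨ θ = T.b45) {g : G}
    (hg : ¬ 7 ∣ orderOf g) :
    (θ : G → ℂ) g = 1 - (T.c55 : G → ℂ) g + (T.c99 : G → ℂ) g := by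
  obtain ⟨hY, hX, hε⟩ := seven_sets hG T
  obtain ⟨d1, d2, d3, d4, d5, d6, d7, d8, d9, d10, d11⟩ := T.degs
  have h := T.L7.data.rel θ (by rw [hY]; rcases hθ with rfl | rfl <;> simp) g hg
  rw [← Finset.add_sum_erase _ _ T.L7.triv, T.L7.εX_triv (by norm_num), hX, trivChar_apply,
    hε, Finset.sum_pair (fun e => by have := congrArg deg e; omega)] at h
  have m5 : T.c55 ∈ T.L7.data.X :=
    Finset.mem_of_mem_erase (a := trivChar G) (by rw [hX]; simp)
  have m9 : T.c99 ∈ T.L7.data.X :=
    Finset.mem_of_mem_erase (a := trivChar G) (by rw [hX]; simp)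
  rw [(T.L7.εX_eq (by norm_num) m5).1, (T.L7.εX_eq (by norm_num) m9).1, d5, d6,
    show sgn 7 55 = -1 by decide, show sgn 7 99 = 1 by decide] at h
  push_cast at h
  linear_combination h

/-- The relation of the principal 11-block. -/
theorem rel_eleven {θ : IrrCharacter G} (hθ : θ = T.a280 ∨ θ = T.b280) {g : G}
    (hg : ¬ 11 ∣ orderOf g) :
    (θ : G → ℂ) g = 1 - (T.c21 : G → ℂ) g + (T.a45 : G → ℂ) g + (T.b45 : G → ℂ) g +
      (T.c210 : G → ℂ) g := by
  obtain ⟨hY, hX, hε⟩ := eleven_sets hG T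
  obtain ⟨d1, d2, d3, d4, d5, d6, d7, d8, d9, d10, d11⟩ := T.degs
  have h := T.L11.data.rel θ (by rw [hY]; rcases hθ with rfl | rfl <;> simp) g hg
  have hm : ∀ χ ∈ ({T.c21, T.a45, T.b45, T.c210} : Finset (IrrCharacter G)),
      T.L11.data.εX χ = sgn 11 (deg χ) := fun χ hχ =>
    (T.L11.εX_eq (by norm_num) (Finset.mem_of_mem_erase (hX ▸ hχ))).1
  rw [← Finset.add_sum_erase _ _ T.L11.triv, T.L11.εX_triv (by norm_num), hX, trivChar_apply,
    hε, Finset.sum_congr rfl fun χ hχ => by rw [hm χ hχ],
    Finset.sum_insert (by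
      simp only [Finset.mem_insert, Finset.mem_singleton]
      rintro (e | e | e) <;> have := congrArg deg e <;> omega),
    Finset.sum_insert (by
      simp only [Finset.mem_insert, Finset.mem_singleton]
      rintro (e | e)
      · exact T.ne45 e
      · have := congrArg deg e; omega),
    Finset.sum_pair (fun e => by have := congrArg deg e; omega), d2, d3, d4, d8,
    show sgn 11 21 = -1 by decide, show sgn 11 45 = 1 by decide,
    show sgn 11 210 = 1 by decide] at h
  push_cast at h
  linear_combination h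

/-- The signed sum over a block with one exceptional member. -/
theorem five_members {χ : IrrCharacter G} (hχ : χ ∈ T.L5.nt) :
    (∀ x ∈ T.L5.P, x ≠ 1 → (χ : G → ℂ) x = (sgn 5 (deg χ) : ℂ)) := by
  intro x hx hx1
  have h1 : (χ : G → ℂ) x = (χ : G → ℂ) (x * 1) := by rw [mul_one]
  have hc := T.L5.nt_eq
  rw [hc, Finset.mem_union] at hχ
  rw [h1]
  rcases hχ with h | h
  · rw [T.L5.data.valX χ (Finset.mem_of_mem_erase h) x hx hx1 1 (one_mem _),
      (T.L5.εX_eq (by norm_num) (Finset.mem_of_mem_erase h)).1]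
  · rw [T.L5.data.valY (T.L5.data.card_Y_eq_one (by rw [T.e5]) (by norm_num)) χ h x hx hx1 1
      (one_mem _), ← (sgn_eq (p := 5) (d := deg χ) (ε := -T.L5.data.ε) (by norm_num)
        (by rcases T.L5.data.sgnY with e | e <;> simp [e]) ?_).1, Int.cast_neg]
    have h2 := T.L5.data.modY χ h
    rw [show ((T.L5.e : ℕ) : ℤ) = 4 by exact_mod_cast T.e5] at h2
    refine h2.trans (Int.modEq_iff_dvd.2 ⟨-T.L5.data.ε, ?_⟩)
    push_cast
    ring

theorem rel_five {g : G} (hg : ¬ 5 ∣ orderOf g) :
    1 + (T.c21 : G → ℂ) g - (T.c99 : G → ℂ) g - (T.c154 : G → ℂ) g + (T.c231 : G → ℂ) g = 0 := by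
  obtain ⟨d1, d2, d3, d4, d5, d6, d7, d8, d9, d10, d11⟩ := T.degs
  obtain ⟨θ, hθ⟩ := Finset.card_eq_one.1
    (T.L5.data.card_Y_eq_one (by rw [T.e5]) (by norm_num))
  have hθm : θ ∈ T.L5.data.Y := by rw [hθ]; exact Finset.mem_singleton_self _
  have h := T.L5.data.rel θ hθm g hg
  have hsg : sgn 5 (deg θ) = -T.L5.data.ε := by
    refine (sgn_eq (p := 5) (d := deg θ) (ε := -T.L5.data.ε) (by norm_num)
      (by rcases T.L5.data.sgnY with e | e <;> simp [e]) ?_).1.symm
    have h2 := T.L5.data.modY θ hθm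
    rw [show ((T.L5.e : ℕ) : ℤ) = 4 by exact_mod_cast T.e5] at h2
    refine h2.trans (Int.modEq_iff_dvd.2 ⟨-T.L5.data.ε, ?_⟩)
    push_cast
    ring
  have hall : ∑ χ ∈ T.L5.nt, (sgn 5 (deg χ) : ℂ) * (χ : G → ℂ) g = -1 := by
    rw [T.L5.nt_eq, Finset.sum_union
      (Finset.disjoint_of_subset_left (Finset.erase_subset _ _) T.L5.data.disj), hθ,
      Finset.sum_singleton, hsg, Int.cast_neg, neg_mul, h, ← Finset.add_sum_erase _ _ T.L5.triv,
      T.L5.εX_triv (by norm_num), trivChar_apply,
      Finset.sum_congr rfl fun χ hχ => by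
        rw [← (T.L5.εX_eq (by norm_num) (Finset.mem_of_mem_erase hχ)).1]]
    push_cast
    ring
  rw [nt_five hG T, Finset.sum_insert (by
      simp only [Finset.mem_insert, Finset.mem_singleton]
      rintro (e | e | e) <;> have := congrArg deg e <;> omega),
    Finset.sum_insert (by
      simp only [Finset.mem_insert, Finset.mem_singleton]
      rintro (e | e) <;> have := congrArg deg e <;> omega),
    Finset.sum_pair (fun e => by have := congrArg deg e; omega), d2, d6, d7, d9,
    show sgn 5 21 = 1 by decide, show sgn 5 99 = -1 by decide, show sgn 5 154 = -1 by decide,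
    show sgn 5 231 = 1 by decide] at hall
  push_cast at hall
  linear_combination hall

end CfsgLib.Blocks.Order443520
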