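import Cfsg.Agent.Lib.Blocks.Order443520.Lattice
import Cfsg.Agent.Lib.Blocks.Order443520.Descent

/-!
# A representation of degree ten over two elements
-/

set_option autoImplicit false

namespace CfsgLib.Blocks.Order443520

open Cfsg CfsgLib CfsgLib.Char CfsgLib.CharIntegral CfsgLib.Blocks.PrimeSylow
open CfsgLib.Blocks.Order95040 (deg cent deg_cast deg_trivChar deg_eq_finrank)
open scoped Classical ComplexConjugate

variable {G : Type*} [Group G] [Fintype G]

variable {M : Ideal AlgInt} [M.IsPrime]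

theorem rv_intCast (v : ℤ) : rv M (v : ℂ) = (v : Res M) := by
  obtain ⟨n, rfl | rfl⟩ := v.eq_nat_or_neg
  · rw [Int.cast_natCast, rv_natCast, Int.cast_natCast]
  · rw [Int.cast_neg, Int.cast_natCast,
      rv_neg (mem_localRing_of_isIntegral (by exact_mod_cast isIntegral_algebraMap (x := (n : ℤ)))),
      rv_natCast, Int.cast_neg, Int.cast_natCast]

/-- Squaring the element squares the value modulo two. -/
theorem rv_sq (hM : IsPModular 2 M) (χ : IrrCharacter G) (g : G) :
    rv M ((χ : G → ℂ) (g * g)) = rv M ((χ : G → ℂ) g) ^ 2 := by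
  have := charP_residueField hM
  have : CharP (Res M) 2 := charP_residueField hM
  obtain ⟨n, ρ, hρ, hρc⟩ := χ.2
  obtain ⟨ε, hε, -, hpow, -⟩ := exists_eigenvalues ρ g
  have hmem : ∀ i, ε i ∈ localRing M := fun i =>
    mem_localRing_of_pow_eq_one (M := M) (orderOf_pos g).ne' (hε i)
  have h1 := hpow 1
  have h2 := hpow 2
  rw [pow_one] at h1
  rw [pow_two] at h2
  rw [← hρc, h1, h2]
  simp only [pow_one]
  rw [rv_sum _ _ fun i _ => pow_mem (hmem i) 2, rv_sum _ _ fun i _ => hmem i, sum_pow_char 2]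
  exact Finset.sum_congr rfl fun i _ => by rw [pow_two, pow_two, rv_mul (hmem i) (hmem i)]

variable [IsSimpleGroup G] (hG : Nat.card G = ord)
include hG

/-- A nontrivial representation of degree ten over two elements. -/
theorem exists_phi : ∃ (φ : G →* Matrix (Fin 10) (Fin 10) (ZMod 2)) (z : G),
    orderOf z = 11 ∧ φ z ≠ 1 := by
  have := Fintype.ofFinite (IrrCharacter G)
  obtain ⟨T⟩ := exists_tbl hG
  have : Fact (Nat.Prime 11) := ⟨by norm_num⟩
  have : Fact (Nat.Prime 7) := ⟨by norm_num⟩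
  obtain ⟨z, hz⟩ := exists_prime_orderOf_dvd_card' (G := G) 11 (by rw [hG, ord]; norm_num)
  obtain ⟨y, hy⟩ := exists_prime_orderOf_dvd_card' (G := G) 7 (by rw [hG, ord]; norm_num)
  obtain ⟨M, hM⟩ := CfsgLib.ZStar.exists_isPModular Nat.prime_two
  have := hM.1
  have : M.IsPrime := by
    first
      | infer_instance
      | exact hM.2.1.isPrime
  have : CharP (Res M) 2 := charP_residueField hM
  obtain ⟨R, hR⟩ := exists_intRep hG T
  have hmem : ∀ (χ : IrrCharacter G) (g : G), (χ : G → ℂ) g ∈ localRing M :=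
    fun χ g => apply_mem_localRing χ g
  have hm1 : (1 : ℂ) ∈ localRing M := one_mem _
  set Φ : G → Res M := fun g =>
    rv M ((T.c21 : G → ℂ) g) + 1 + rv M ((T.a45 : G → ℂ) g) + rv M ((T.b45 : G → ℂ) g) with hΦ
  have hsq : ∀ g, Φ (g * g) = Φ g ^ 2 := fun g => by
    simp only [hΦ, rv_sq hM, add_pow_char, one_pow]
  have hodd : ∀ g, ¬ 2 ∣ orderOf g → Φ g = 0 := fun g hg => by
    obtain ⟨k, hk⟩ := parity hG T hg
    have h1 := congrArg (rv M) hk
    rw [rv_add (add_mem (add_mem (hmem _ _) hm1) (hmem _ _)) (hmem _ _),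
      rv_add (add_mem (hmem _ _) hm1) (hmem _ _), rv_add (hmem _ _) hm1, rv_one,
      show (2 : ℂ) * (k : ℂ) = ((2 * k : ℤ) : ℂ) by push_cast; ring, rv_intCast] at h1
    simp only [hΦ]
    rw [h1, Int.cast_mul, Int.cast_ofNat, CharTwo.two_eq_zero, zero_mul]
  have hzero : ∀ g, Φ g = 0 := fun g => by
    have hit : ∀ i, Φ (g ^ 2 ^ i) = Φ g ^ 2 ^ i := fun i => by
      induction i with
      | zero => simp
      | succ i ih => rw [pow_succ, pow_mul, pow_two, hsq, ih, ← pow_mul]
    have h2 : ¬ 2 ∣ orderOf (g ^ 2 ^ 7) := fun h => by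
      have h3 : (g ^ 2 ^ 7) ^ 3465 = 1 := by
        rw [← pow_mul, show 2 ^ 7 * 3465 = ord from rfl, ← hG, pow_card_eq_one']
      exact absurd (h.trans (orderOf_dvd_of_pow_eq_one h3)) (by norm_num)
    have h4 := hit 7
    rw [hodd _ h2] at h4
    exact (pow_eq_zero_iff (by norm_num)).1 h4.symm
  set κ := ZMod.castHom (dvd_refl 2) (Res M) with hκ
  have hgood : Good κ (fun g => rv M ((T.a45 : G → ℂ) g)) R :=
    { eleven := fun g hg => by exact_mod_cast (hR g).trans (val_of_eleven hG T hg).1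
      seven := fun g hg => by
        have h0 := vanish hG (χ := T.c21) (p := 7) (n := 1) (by norm_num) (by norm_num [ord])
          (by norm_num [ord]) (by rw [T.degs.2.1]; norm_num) (x := g) (by rw [hg])
        exact_mod_cast (hR g).trans h0
      like :=
        ⟨fun a b => congrArg (rv M) (val_of_conj (isConj_iff.2
          ⟨a⁻¹, by group⟩)), fun g => rv_sq hM T.a45 g⟩
      htr := fun g => by
        have h := hzero g
        simp only [hΦ] at h
        rw [map_intCast, ← conj_eq_inv T.a45 g, conj45 hG T g, ← rv_intCast (M := M), hR g]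
        have e : ∀ a b c : Res M, a + 1 + b + c = 0 → a = 1 + b + c := fun a b c hh => by
          linear_combination hh - CharTwo.add_self_eq_zero (1 + b + c)
        exact e _ _ _ h }
  obtain ⟨φ, hφ⟩ := hgood.exists_ten hz hy
  exact ⟨φ, z, hz, hφ⟩

end CfsgLib.Blocks.Order443520
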