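import Mathlib.Algebra.MonoidAlgebra.Basic
import Mathlib.RingTheory.Artinian.Module
import Mathlib.RingTheory.Jacobson.Semiprimary
import Mathlib.RingTheory.SimpleModule.Basic
import Mathlib.LinearAlgebra.Matrix.Charpoly.Coeff
import Mathlib.LinearAlgebra.Matrix.ToLin
import Mathlib.Tactic

/-!
# Absolutely irreducible representations over two elements and functionals with trace properties
-/

set_option autoImplicit false

namespace CfsgLib.Blocks.Order443520

open scoped Classical
open Matrix

variable {G : Type*} [Group G] {n : ℕ}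

/-- The algebra map of a representation over two elements. -/
noncomputable abbrev algRep (φ : G →* Matrix (Fin n) (Fin n) (ZMod 2)) :
    MonoidAlgebra (ZMod 2) G →ₐ[ZMod 2] Matrix (Fin n) (Fin n) (ZMod 2) :=
  MonoidAlgebra.lift (ZMod 2) (Matrix (Fin n) (Fin n) (ZMod 2)) G φ

/-- Without invariant subspaces and with scalar commutant, the algebra map is onto. -/
theorem algRep_surjective (φ : G →* Matrix (Fin n) (Fin n) (ZMod 2)) (hn : 0 < n)
    (hirr : ∀ U : Submodule (ZMod 2) (Fin n → ZMod 2), (∀ g, ∀ x ∈ U, (φ g).mulVec x ∈ U) →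
      U = ⊥ ∨ U = ⊤)
    (hcomm : ∀ J : Matrix (Fin n) (Fin n) (ZMod 2), (∀ g, J * φ g = φ g * J) → J = 0 ∨ J = 1) :
    Function.Surjective (algRep φ) := by
  intro M
  let ρ : MonoidAlgebra (ZMod 2) G →+* Module.End (ZMod 2) (Fin n → ZMod 2) :=
    ((Matrix.toLinAlgEquiv' (R := ZMod 2) (n := Fin n)).toAlgHom.comp (algRep φ)).toRingHom
  let mod : Module (MonoidAlgebra (ZMod 2) G) (Fin n → ZMod 2) := Module.compHom _ ρ
  have hsmul : ∀ (a : MonoidAlgebra (ZMod 2) G) (v : Fin n → ZMod 2),
      a • v = (algRep φ a).mulVec v := fun a v => rfl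
  have : Nontrivial (Fin n → ZMod 2) := by
    refine ⟨⟨0, fun _ => 1, fun h => ?_⟩⟩
    exact zero_ne_one (congrFun h ⟨0, hn⟩)
  have hsc : ∀ (c : ZMod 2) (v : Fin n → ZMod 2),
      (MonoidAlgebra.single (1 : G) c) • v = c • v := fun c v => by
    rw [hsmul, MonoidAlgebra.lift_single, map_one, Matrix.smul_mulVec, Matrix.one_mulVec]
  have : IsSimpleModule (MonoidAlgebra (ZMod 2) G) (Fin n → ZMod 2) := by
    rw [isSimpleModule_iff]
    refine ⟨fun U => ?_⟩
    let U' : Submodule (ZMod 2) (Fin n → ZMod 2) :=
      { carrier := U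
        add_mem' := fun ha hb => U.add_mem ha hb
        zero_mem' := U.zero_mem
        smul_mem' := fun c v hv => by
          have h := U.smul_mem (MonoidAlgebra.single (1 : G) c) hv
          rwa [hsc] at h }
    rcases hirr U' (fun g x hx => by
      have h := U.smul_mem (MonoidAlgebra.of (ZMod 2) G g) hx
      rwa [hsmul, MonoidAlgebra.lift_of] at h) with h | h
    · refine Or.inl (eq_bot_iff.2 fun x hx => ?_)
      have h1 : x ∈ U' := hx
      rw [h, Submodule.mem_bot] at h1
      simp [h1]
    · refine Or.inr (eq_top_iff.2 fun x _ => ?_)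
      have h1 : x ∈ U' := by rw [h]; trivial
      exact h1
  let f : Module.End (Module.End (MonoidAlgebra (ZMod 2) G) (Fin n → ZMod 2))
      (Fin n → ZMod 2) :=
    { toFun := fun v => M.mulVec v
      map_add' := fun v w => Matrix.mulVec_add _ _ _
      map_smul' := fun J v => by
        let JL : (Fin n → ZMod 2) →ₗ[ZMod 2] (Fin n → ZMod 2) :=
          { toFun := fun w => J w
            map_add' := fun a b => map_add J a b
            map_smul' := fun c a => by
              show J (c • a) = c • J a
              rw [← hsc, map_smul, hsc] }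
        have hJ : ∀ g, LinearMap.toMatrix' JL * φ g = φ g * LinearMap.toMatrix' JL := fun g => by
          apply Matrix.toLin'.injective
          rw [Matrix.toLin'_mul, Matrix.toLin'_mul, Matrix.toLin'_toMatrix']
          refine LinearMap.ext fun w => ?_
          have h := map_smul J (MonoidAlgebra.of (ZMod 2) G g) w
          rw [hsmul, hsmul, MonoidAlgebra.lift_of] at h
          simpa [Matrix.toLin'_apply, JL] using h
        show M.mulVec (J v) = J (M.mulVec v)
        rcases hcomm _ hJ with h | h
        · have hz : JL = 0 := LinearMap.toMatrix'.injective (by rw [h, map_zero])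
          rw [show J v = 0 from LinearMap.congr_fun hz v, Matrix.mulVec_zero,
            show J (M.mulVec v) = 0 from LinearMap.congr_fun hz _]
        · have hz : JL = LinearMap.id :=
            LinearMap.toMatrix'.injective (by rw [h, LinearMap.toMatrix'_id])
          rw [show J v = v from LinearMap.congr_fun hz v,
            show J (M.mulVec v) = M.mulVec v from LinearMap.congr_fun hz _] }
  obtain ⟨r, hr⟩ := jacobson_density f (Finset.univ.image fun i => Pi.single i (1 : ZMod 2))
  refine ⟨r, Matrix.ext_of_mulVec_single fun i => ?_⟩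
  exact (hr _ (Finset.mem_image_of_mem _ (Finset.mem_univ i))).symm

/-- An additive functional with the trace property is a multiple of the trace. -/
theorem exists_trace_coeff {k : Type*} [Semiring k] (κ : ZMod 2 →+* k) (hn : 0 < n)
    (f : Matrix (Fin n) (Fin n) (ZMod 2) →+ k) (hf : ∀ M N, f (M * N) = f (N * M)) :
    ∃ c : k, ∀ M, f M = κ M.trace * c := by
  refine ⟨f (single ⟨0, hn⟩ ⟨0, hn⟩ 1), fun M => ?_⟩
  have hoff : ∀ i j (a : ZMod 2), i ≠ j → f (single i j a) = 0 := fun i j a hij => by
    have h := hf (single i i 1) (single i j a)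
    rw [single_mul_single_same, one_mul] at h
    rw [h]
    simp [single_mul_single_of_ne, Ne.symm hij]
  have hdiag : ∀ i (a : ZMod 2), f (single i i a) = κ a * f (single ⟨0, hn⟩ ⟨0, hn⟩ 1) := by
    intro i a
    have h := hf (single i ⟨0, hn⟩ a) (single ⟨0, hn⟩ i 1)
    rw [single_mul_single_same, single_mul_single_same, mul_one, one_mul] at h
    rw [h]
    rcases (by decide : ∀ x : ZMod 2, x = 0 ∨ x = 1) a with rfl | rfl
    · simp
    · rw [map_one, one_mul]
  conv_lhs => rw [matrix_eq_sum_single M]
  rw [map_sum, Matrix.trace, map_sum, Finset.sum_mul]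
  refine Finset.sum_congr rfl fun i _ => ?_
  rw [map_sum, Finset.sum_eq_single i (fun j _ hj => hoff i j _ (Ne.symm hj))
    (fun h => absurd (Finset.mem_univ i) h), hdiag, Matrix.diag_apply]

variable {k : Type*} [Field k]

/-- The linear extension of a function on the group. -/
noncomputable def funExt (κ : ZMod 2 →+* k) (T : G → k) : MonoidAlgebra (ZMod 2) G →+ k :=
  (Finsupp.liftAddHom fun g => (AddMonoidHom.mulRight (T g)).comp κ.toAddMonoidHom).comp
    (MonoidAlgebra.coeffAddEquiv).toAddMonoidHom

theorem funExt_single (κ : ZMod 2 →+* k) (T : G → k) (g : G) (c : ZMod 2) :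
    funExt κ T (MonoidAlgebra.single g c) = κ c * T g := by
  simp [funExt]

/-- The inversion of the group algebra. -/
noncomputable def barHom : MonoidAlgebra (ZMod 2) G →+ MonoidAlgebra (ZMod 2) G :=
  AddMonoidHom.mk' (MonoidAlgebra.mapDomain fun g : G => g⁻¹) (MonoidAlgebra.mapDomain_add _)

theorem barHom_single (g : G) (c : ZMod 2) :
    barHom (MonoidAlgebra.single g c) = MonoidAlgebra.single g⁻¹ c := by
  simp [barHom]

/-- Functions with the trace properties. -/
structure IsTraceLike (T : G → k) : Prop where
  comm : ∀ a b, T (a * b) = T (b * a)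
  sq : ∀ g, T (g * g) = T g ^ 2

variable (κ : ZMod 2 →+* k) {T : G → k} (hT : IsTraceLike T)
include hT

theorem funExt_comm (x y : MonoidAlgebra (ZMod 2) G) : funExt κ T (x * y) = funExt κ T (y * x) := by
  induction x using MonoidAlgebra.induction_linear with
  | zero => simp
  | add a b ha hb => rw [add_mul, mul_add, map_add, map_add, ha, hb]
  | single g c =>
    induction y using MonoidAlgebra.induction_linear with
    | zero => simp
    | add a b ha hb => rw [add_mul, mul_add, map_add, map_add, ha, hb]
    | single h d =>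
      rw [MonoidAlgebra.single_mul_single, MonoidAlgebra.single_mul_single, funExt_single,
        funExt_single, hT.comm, mul_comm c d]

theorem funExt_sq [CharP k 2] (x : MonoidAlgebra (ZMod 2) G) :
    funExt κ T (x * x) = funExt κ T x ^ 2 := by
  induction x using MonoidAlgebra.induction_linear with
  | zero => simp
  | add a b ha hb =>
    rw [add_mul, mul_add, mul_add, map_add, map_add, map_add, map_add, add_pow_char, ha, hb,
      funExt_comm κ hT b a]
    have h2 : funExt κ T (a * b) + funExt κ T (a * b) = 0 := CharTwo.add_self_eq_zero _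
    linear_combination h2
  | single g c =>
    rw [MonoidAlgebra.single_mul_single, funExt_single, funExt_single, hT.sq, map_mul]
    ring

theorem funExt_nilpotent [CharP k 2] {x : MonoidAlgebra (ZMod 2) G} (hx : IsNilpotent x) :
    funExt κ T x = 0 := by
  obtain ⟨m, hm⟩ := hx
  have h : ∀ i, funExt κ T (x ^ 2 ^ i) = funExt κ T x ^ 2 ^ i := fun i => by
    induction i with
    | zero => simp
    | succ i ih => rw [pow_succ, pow_mul, pow_two, funExt_sq κ hT, ih, ← pow_mul]
  have h0 : funExt κ T x ^ 2 ^ m = 0 := by
    rw [← h, pow_eq_zero_of_le (le_of_lt (Nat.lt_two_pow_self)) hm, map_zero]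
  exact pow_eq_zero_iff (by positivity) |>.1 h0

omit hT

/-- No absolutely irreducible representation of dimension at least two has trace of the form
`δ + T g + T g⁻¹`. -/
theorem no_trace_split [Finite G] [CharP k 2] (φ : G →* Matrix (Fin n) (Fin n) (ZMod 2))
    (hn : 1 < n) (hsurj : Function.Surjective (algRep φ)) {T : G → k} (hT : IsTraceLike T) (δ : k)
    (htr : ∀ g, κ (φ g).trace = δ + T g + T g⁻¹) : False := by
  have hbar : ∀ x y : (MonoidAlgebra (ZMod 2) G), barHom (x * y) = barHom y * barHom x := fun x y => by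
    induction x using MonoidAlgebra.induction_linear with
    | zero => simp
    | add a b ha hb => rw [add_mul, map_add, map_add, mul_add, ha, hb]
    | single g c =>
      induction y using MonoidAlgebra.induction_linear with
      | zero => simp
      | add a b ha hb => rw [mul_add, map_add, map_add, add_mul, ha, hb]
      | single h d =>
        simp only [MonoidAlgebra.single_mul_single, barHom_single, _root_.mul_inv_rev, mul_comm c d]
  have hbb : ∀ x : (MonoidAlgebra (ZMod 2) G), barHom (barHom x) = x := fun x => by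
    induction x using MonoidAlgebra.induction_linear with
    | zero => simp
    | add a b ha hb => rw [map_add, map_add, ha, hb]
    | single g c => simp only [barHom_single, inv_inv]
  have hone : IsTraceLike (fun _ : G => (1 : k)) := ⟨fun _ _ => rfl, fun _ => (one_pow 2).symm⟩
  have hlin : ∀ x : (MonoidAlgebra (ZMod 2) G), κ (algRep φ x).trace =
      δ * funExt κ (fun _ => 1) x + funExt κ T x + funExt κ T (barHom x) := fun x => by
    induction x using MonoidAlgebra.induction_linear with
    | zero => simp
    | add a b ha hb =>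
      simp only [map_add, Matrix.trace_add, ha, hb]
      ring
    | single g c =>
      simp only [funExt_single, barHom_single, MonoidAlgebra.lift_single, Matrix.trace_smul,
        smul_eq_mul, map_mul, htr]
      ring
  have hsym : ∀ x : (MonoidAlgebra (ZMod 2) G), (algRep φ (barHom x)).trace = (algRep φ x).trace := fun x => by
    apply κ.injective
    rw [hlin, hlin, hbb]
    have h1 : funExt κ (fun _ : G => (1 : k)) (barHom x) = funExt κ (fun _ => 1) x := by
      induction x using MonoidAlgebra.induction_linear with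
      | zero => simp
      | add a b ha hb => simp only [map_add, ha, hb]
      | single g c => simp only [barHom_single, funExt_single]
    rw [h1]
    ring
  have : Finite (MonoidAlgebra (ZMod 2) G) := Finite.of_injective (fun x : (MonoidAlgebra (ZMod 2) G) => (⇑x.coeff : G → ZMod 2))
    fun x y e => MonoidAlgebra.coeffEquiv.injective (DFunLike.coe_injective e)
  have : IsArtinianRing (MonoidAlgebra (ZMod 2) G) := inferInstance
  set J := Ring.jacobson (MonoidAlgebra (ZMod 2) G) with hJ
  have hJnil : ∀ x ∈ J, IsNilpotent x := fun x hx => by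
    obtain ⟨m, hm⟩ := IsSemiprimaryRing.isNilpotent (R := (MonoidAlgebra (ZMod 2) G))
    refine ⟨m, ?_⟩
    have h := Ideal.pow_mem_pow hx m
    rw [hm] at h
    exact h
  have hJρ : ∀ x ∈ J, algRep φ x = 0 := fun x hx => by
    ext i j
    obtain ⟨a, ha⟩ := hsurj (single j i 1)
    have h : IsNilpotent (algRep φ (x * a)).trace :=
      Matrix.isNilpotent_trace_of_isNilpotent ((hJnil _ (J.mul_mem_right a hx)).map (algRep φ))
    rw [map_mul, ha, Matrix.trace_mul_single, MulOpposite.op_one, one_smul] at h
    simpa using h.eq_zero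
  let ρbar : (MonoidAlgebra (ZMod 2) G) ⧸ J →+* Matrix (Fin n) (Fin n) (ZMod 2) :=
    Ideal.Quotient.lift J (algRep φ).toRingHom hJρ
  obtain ⟨L, hL⟩ := exists_isCompl (RingHom.ker ρbar : Ideal ((MonoidAlgebra (ZMod 2) G) ⧸ J))
  obtain ⟨a₁, ha₁, l, hl, hal⟩ := Submodule.mem_sup.1
    (show (1 : (MonoidAlgebra (ZMod 2) G) ⧸ J) ∈ RingHom.ker ρbar ⊔ L by rw [hL.sup_eq_top]; trivial)
  obtain ⟨q, rfl⟩ := Ideal.Quotient.mk_surjective l
  have hq1 : algRep φ q = 1 := by
    have h := congrArg ρbar hal
    rw [map_add, map_one, (RingHom.mem_ker).1 ha₁, zero_add] at h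
    exact h
  have hq2 : ∀ x : (MonoidAlgebra (ZMod 2) G), algRep φ x = 0 → x * q ∈ J := fun x hx => by
    rw [← Ideal.Quotient.eq_zero_iff_mem]
    refine (Submodule.mem_bot (R := (MonoidAlgebra (ZMod 2) G) ⧸ J)).1 (hL.inf_eq_bot ▸ Submodule.mem_inf.2 ⟨?_, ?_⟩)
    · rw [RingHom.mem_ker]
      show algRep φ (x * q) = 0
      rw [map_mul, hx, zero_mul]
    · rw [map_mul]
      exact L.smul_mem _ hl
  have hbq : algRep φ (barHom q) = 1 := by
    ext i j
    obtain ⟨a, ha⟩ := hsurj (single j i 1)
    have h1 : (algRep φ (barHom q * a)).trace = (algRep φ a).trace := by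
      rw [← hsym, hbar, hbb, map_mul, hq1, mul_one, hsym]
    rw [map_mul, ha, Matrix.trace_mul_single, MulOpposite.op_one, one_smul] at h1
    rw [h1]
    rcases eq_or_ne i j with rfl | hij
    · rw [Matrix.trace_single_eq_same, Matrix.one_apply_eq]
    · rw [Matrix.trace_single_eq_of_ne _ _ _ hij.symm, Matrix.one_apply_ne hij]
  obtain ⟨r, hr⟩ : ∃ r : (MonoidAlgebra (ZMod 2) G), r = barHom q * q := ⟨_, rfl⟩
  have hbr : barHom r = r := by rw [hr, hbar, hbb]
  have hr1 : algRep φ r = 1 := by rw [hr, map_mul, hbq, hq1, one_mul]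
  have hr2 : ∀ x : (MonoidAlgebra (ZMod 2) G), algRep φ x = 0 → x * r ∈ J := fun x hx => by
    rw [hr, ← mul_assoc]
    exact hq2 _ (by rw [map_mul, hx, zero_mul])
  choose σ hσ using hsurj
  have key : ∀ {S : G → k}, IsTraceLike S →
      ∃ c : k, ∀ a : (MonoidAlgebra (ZMod 2) G), funExt κ S (a * r * r) = κ (algRep φ a).trace * c := by
    intro S hS
    have hker : ∀ a : (MonoidAlgebra (ZMod 2) G), algRep φ a = 0 → funExt κ S (a * r * r) = 0 := fun a ha =>
      funExt_nilpotent κ hS (hJnil _ (J.mul_mem_right r (hr2 a ha)))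
    have hwd : ∀ a b : (MonoidAlgebra (ZMod 2) G), algRep φ a = algRep φ b →
        funExt κ S (a * r * r) = funExt κ S (b * r * r) := fun a b e => by
      have h := hker (a - b) (by rw [map_sub, e, sub_self])
      rw [sub_mul, sub_mul, map_sub, sub_eq_zero] at h
      exact h
    have hswap : ∀ a b : (MonoidAlgebra (ZMod 2) G), funExt κ S (a * b * r * r) = funExt κ S (a * r * (b * r)) := by
      intro a b
      have h : a * ((b * r - r * b) * r) ∈ J :=
        J.mul_mem_left a (hr2 _ (by rw [map_sub, map_mul, map_mul, hr1, mul_one, one_mul, sub_self]))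
      have h1 := funExt_nilpotent κ hS (hJnil _ h)
      rw [sub_mul, mul_sub, map_sub, sub_eq_zero] at h1
      simpa [mul_assoc] using h1
    let f : Matrix (Fin n) (Fin n) (ZMod 2) →+ k := AddMonoidHom.mk'
      (fun M => funExt κ S (σ M * r * r)) fun M N => by
        show funExt κ S (σ (M + N) * r * r) = _
        rw [hwd (σ (M + N)) (σ M + σ N) (by rw [map_add, hσ, hσ, hσ]), add_mul, add_mul, map_add]
    obtain ⟨c, hc⟩ := exists_trace_coeff κ (show 0 < n by omega) f fun M N => by
      show funExt κ S (σ (M * N) * r * r) = funExt κ S (σ (N * M) * r * r)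
      rw [hwd (σ (M * N)) (σ M * σ N) (by rw [map_mul, hσ, hσ, hσ]),
        hwd (σ (N * M)) (σ N * σ M) (by rw [map_mul, hσ, hσ, hσ]), hswap, hswap,
        funExt_comm κ hS]
    refine ⟨c, fun a => ?_⟩
    rw [hwd a (σ (algRep φ a)) (hσ _).symm]
    exact hc _
  obtain ⟨c, hc⟩ := key hT
  obtain ⟨c₀, hc₀⟩ := key hone
  have hmul : ∀ x y : (MonoidAlgebra (ZMod 2) G), funExt κ (fun _ : G => (1 : k)) (x * y) =
      funExt κ (fun _ => 1) x * funExt κ (fun _ => 1) y := fun x y => by
    induction x using MonoidAlgebra.induction_linear with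
    | zero => simp
    | add a b ha hb => rw [add_mul, map_add, map_add, add_mul, ha, hb]
    | single g e =>
      induction y using MonoidAlgebra.induction_linear with
      | zero => simp
      | add a b ha hb => rw [mul_add, map_add, map_add, mul_add, ha, hb]
      | single h d =>
        simp only [MonoidAlgebra.single_mul_single, funExt_single, map_mul, mul_one]
  let i0 : Fin n := ⟨0, by omega⟩
  let i1 : Fin n := ⟨1, hn⟩
  have h01 : i0 ≠ i1 := fun e => by simpa [i0, i1] using e
  set a := σ (single i0 i1 1) * σ (single i1 i0 1) with ha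
  have hρa : (algRep φ a).trace = 1 := by
    rw [ha, map_mul, hσ, hσ, single_mul_single_same, mul_one, Matrix.trace_single_eq_same]
  have h0 : funExt κ (fun _ : G => (1 : k)) (a * r * r) = 0 := by
    have h := hc₀ (σ (single i0 i1 1))
    rw [hσ, Matrix.trace_single_eq_of_ne _ _ _ h01, map_zero, zero_mul, hmul, hmul] at h
    rw [ha, hmul, hmul, hmul]
    linear_combination (funExt κ (fun _ : G => (1 : k)) (σ (single i1 i0 1))) * h
  have h2 : funExt κ T (barHom (a * r * r)) = funExt κ T (a * r * r) := by
    rw [hbar, hbar, hbr, ← mul_assoc, funExt_comm κ hT (r * r) (barHom a), ← mul_assoc, hc, hc,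
      hsym]
  have h3 := hlin (a * r * r)
  rw [h0, h2, mul_zero, zero_add, CharTwo.add_self_eq_zero, map_mul, map_mul, hr1, mul_one,
    mul_one, hρa, map_one] at h3
  exact one_ne_zero h3

end CfsgLib.Blocks.Order443520
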