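import Cfsg.Agent.Lib.Blocks.Order443520.Names
import Cfsg.Agent.Lib.Blocks.Order95040.Congr

/-!
# Character values at elements of odd order

Elements of odd order have order 1, 3, 5, 7 or 11, and at them the characters of degree 21 and 45
satisfy a congruence modulo two.
-/

set_option autoImplicit false

namespace CfsgLib.Blocks.Order443520

open Cfsg CfsgLib CfsgLib.Char CfsgLib.CharIntegral CfsgLib.Blocks.PrimeSylow
open CfsgLib.Blocks.Order95040 (deg cent deg_cast deg_trivChar deg_eq_finrank)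
open Local
open scoped Classical ComplexConjugate

variable {G : Type*} [Group G] [Fintype G]

omit [Fintype G] in
theorem val_of_conj {χ : IrrCharacter G} {g a : G} (h : IsConj g a) :
    (χ : G → ℂ) g = (χ : G → ℂ) a := by
  obtain ⟨c, rfl⟩ := isConj_iff.1 h
  exact (IsIrr.isClassFunction χ.2 g c).symm

theorem exists_twist (χ : IrrCharacter G) {k : ℕ} (hk : k.Coprime (Nat.card G)) :
    ∃ ψ : IrrCharacter G, (∀ g, (ψ : G → ℂ) g = (χ : G → ℂ) (g ^ k)) ∧ deg ψ = deg χ := by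
  refine ⟨⟨_, isIrrCharacter_pow χ.2 hk⟩, fun g => rfl, ?_⟩
  have h := deg_cast (⟨_, isIrrCharacter_pow χ.2 hk⟩ : IrrCharacter G)
  simp only [one_pow, deg_cast] at h
  exact_mod_cast h.symm

/-- A character with a degree of its own is rational. -/
theorem exists_int_val {χ : IrrCharacter G} (hu : ∀ ψ : IrrCharacter G, deg ψ = deg χ → ψ = χ)
    (g : G) : ∃ v : ℤ, (χ : G → ℂ) g = (v : ℂ) :=
  Perm.RationalValue.exists_eq_int (IsIrr.isCharacter χ.2) g fun m hm => by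
    obtain ⟨ψ, hψ, hd⟩ := exists_twist χ hm
    rw [← hψ, hu ψ hd]

variable [IsSimpleGroup G] (hG : Nat.card G = ord)
include hG

theorem vanish {p n : ℕ} (hp : p.Prime) (hn : p ^ n ∣ ord) (hn' : ¬ p ^ (n + 1) ∣ ord)
    {χ : IrrCharacter G} (hd : p ^ n ∣ deg χ) {x : G} (hx : p ∣ orderOf x) :
    (χ : G → ℂ) x = 0 := by
  obtain ⟨m, ρ, hρ, hρc'⟩ := χ.2
  have hρc := hρc'.symm
  have := hρ
  rw [hρc]
  exact CfsgLib.Char.character_eq_zero_of_defect_zero
    (fun θ hθ hE => CfsgLib.Brauer.isGeneralizedCharacter_of_elementary hθ hE) ρ (p := p) (n := n)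
    hp (hG ▸ hn) (hG ▸ hn') (by rwa [Module.finrank_fin_fun, ← deg_eq_finrank hρc]) hx

omit [IsSimpleGroup G] in
theorem exists_conj_P {p : ℕ} [Fact p.Prime] (hp : p = 5 ∨ p = 7 ∨ p = 11) (L : Local G p) {g : G}
    (hg : orderOf g = p) : ∃ x ∈ L.P, x ≠ 1 ∧ IsConj g x := by
  obtain ⟨Q, hQ⟩ := Order95040.exists_sylow_mem hg
  obtain ⟨P0, hP0⟩ := (IsPGroup.of_card (G := L.P) (n := 1)
      (by rw [L.setup.card, pow_one])).exists_le_sylow
  have hP0' : (P0 : Subgroup G) = L.P := (Subgroup.eq_of_le_of_card_ge hP0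
      (le_of_eq ((card_sylow hG hp P0).trans L.setup.card.symm))).symm
  obtain ⟨c, hc'⟩ := MulAction.exists_smul_eq G Q P0
  refine ⟨c * g * c⁻¹, ?_, fun e => ?_, isConj_iff.2 ⟨c, rfl⟩⟩
  · rw [← hP0', ← hc', Sylow.coe_subgroup_smul]
    exact Subgroup.mem_pointwise_smul_iff_inv_smul_mem.2 (by simpa [mul_assoc] using hQ)
  · have h1 := (Order7920.orderOf_conj_eq' c g).trans hg
    rw [e, orderOf_one] at h1
    exact (Fact.out : p.Prime).ne_one h1.symm

variable [Fintype (IrrCharacter G)] (T : Tbl G)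

theorem int_single (g : G) :
    (∃ v : ℤ, (T.c21 : G → ℂ) g = v) ∧ (∃ v : ℤ, (T.c55 : G → ℂ) g = v) ∧
    (∃ v : ℤ, (T.c99 : G → ℂ) g = v) ∧ (∃ v : ℤ, (T.c154 : G → ℂ) g = v) ∧
    (∃ v : ℤ, (T.c210 : G → ℂ) g = v) ∧ (∃ v : ℤ, (T.c231 : G → ℂ) g = v) ∧
    (∃ v : ℤ, (T.c385 : G → ℂ) g = v) := by
  obtain ⟨d1, d2, d3, d4, d5, d6, d7, d8, d9, d10, d11⟩ := T.degs
  refine ⟨?_, ?_, ?_, ?_, ?_, ?_, ?_⟩ <;> refine exists_int_val (fun ψ h => ?_) g
  · exact T.eq_of_deg.1 (h.trans d2)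
  · exact T.eq_of_deg.2.1 (h.trans d5)
  · exact T.eq_of_deg.2.2.1 (h.trans d6)
  · exact T.eq_of_deg.2.2.2.1 (h.trans d7)
  · exact T.eq_of_deg.2.2.2.2.1 (h.trans d8)
  · exact T.eq_of_deg.2.2.2.2.2.1 (h.trans d9)
  · exact T.eq_of_deg.2.2.2.2.2.2.1 (h.trans d1)

include T in
theorem int_all {g : G} (h7 : ¬ 7 ∣ orderOf g) (h11 : ¬ 11 ∣ orderOf g) (χ : IrrCharacter G) :
    ∃ v : ℤ, (χ : G → ℂ) g = v := by
  obtain ⟨⟨u21, e21⟩, ⟨u55, e55⟩, ⟨u99, e99⟩, ⟨u154, e154⟩, ⟨u210, e210⟩, ⟨u231, e231⟩,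
    ⟨u385, e385⟩⟩ := int_single hG T g
  have h45 : ∀ θ, θ = T.a45 ∨ θ = T.b45 → (θ : G → ℂ) g = ((1 - u55 + u99 : ℤ) : ℂ) :=
    fun θ hθ => by rw [rel_seven hG T hθ h7, e55, e99]; push_cast; ring
  have h280 : ∀ θ, θ = T.a280 ∨ θ = T.b280 →
      (θ : G → ℂ) g = ((1 - u21 + 2 * (1 - u55 + u99) + u210 : ℤ) : ℂ) := fun θ hθ => by
    rw [rel_eleven hG T hθ h11, e21, e210, h45 T.a45 (Or.inl rfl), h45 T.b45 (Or.inr rfl)]
    push_cast; ring
  rcases T.cases_eq χ with rfl | rfl | rfl | rfl | rfl | rfl | rfl | rfl | rfl | rfl | rfl | rfl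
  · exact ⟨1, by rw [trivChar_apply, Int.cast_one]⟩
  · exact ⟨_, e385⟩
  · exact ⟨_, e21⟩
  · exact ⟨_, h45 _ (Or.inl rfl)⟩
  · exact ⟨_, h45 _ (Or.inr rfl)⟩
  · exact ⟨_, e55⟩
  · exact ⟨_, e99⟩
  · exact ⟨_, e154⟩
  · exact ⟨_, e210⟩
  · exact ⟨_, e231⟩
  · exact ⟨_, h280 _ (Or.inl rfl)⟩
  · exact ⟨_, h280 _ (Or.inr rfl)⟩

omit [IsSimpleGroup G] hG in
theorem conj_eq_inv (χ : IrrCharacter G) (g : G) :
    conj ((χ : G → ℂ) g) = (χ : G → ℂ) g⁻¹ := (IsIrr.map_inv χ.2 g).symm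

omit [IsSimpleGroup G] in
theorem isConj_of_vals {g h : G}
    (e : ∀ χ : IrrCharacter G, (χ : G → ℂ) h = (χ : G → ℂ) g) : IsConj g h := by
  by_contra hne
  have h1 := column_orthogonality g h
  simp only [e] at h1
  rw [if_neg hne, column_orthogonality g g, if_pos (IsConj.refl g)] at h1
  exact Nat.card_pos.ne' (Nat.cast_eq_zero.1 h1)

/-- The two characters of degree 45 are conjugate. -/
theorem conj45 (g : G) : conj ((T.a45 : G → ℂ) g) = (T.b45 : G → ℂ) g := by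
  have : Fact (Nat.Prime 7) := ⟨by norm_num⟩
  obtain ⟨d1, d2, d3, d4, d5, d6, d7, d8, d9, d10, d11⟩ := T.degs
  have hpow : ∀ y : G, y ^ (Nat.card G - 1) = y⁻¹ := fun y => by
    refine eq_inv_of_mul_eq_one_left ?_
    rw [← pow_succ, Nat.sub_add_cancel Nat.card_pos, pow_card_eq_one']
  obtain ⟨ψ, hψ, hψd⟩ := exists_twist T.a45 (k := Nat.card G - 1) (by rw [hG, ord]; norm_num)
  rcases T.eq_of_deg.2.2.2.2.2.2.2.1 (hψd.trans d3) with e | e
  swap
  · rw [conj_eq_inv, ← hpow, ← hψ, e]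
  exfalso
  obtain ⟨x, hx, hx1⟩ := T.L7.exists_mem_P hG
  have hxo := T.L7.setup.orderOf_eq hx hx1
  have ha : (T.a45 : G → ℂ) x⁻¹ = (T.a45 : G → ℂ) x := by
    rw [← hpow, ← hψ, e]
  have hV : ∀ v : T.L7.V, (v : G) = 1 := fun v => by
    have h := v.2
    simp only [Subgroup.card_eq_one.1 T.v7, Subgroup.mem_bot] at h
    exact h
  have hb : ∀ y ∈ T.L7.P, y ≠ 1 → (T.a45 : G → ℂ) y + (T.b45 : G → ℂ) y = -1 := by
    intro y hy hy1
    have h := T.L7.data.sumY y hy hy1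
    rw [(seven_sets hG T).1, (seven_sets hG T).2.2, Finset.sum_pair T.ne45, T.v7,
      Finset.sum_congr rfl fun (v : T.L7.V) _ => by rw [hV v, mul_one],
      Finset.sum_congr rfl (fun (v : T.L7.V) _ => by rw [hV v, mul_one]) (s₁ := Finset.univ)
        (f := fun v : T.L7.V => (T.b45 : G → ℂ) (y * v)),
      Finset.sum_const, Finset.sum_const, Finset.card_univ, ← Nat.card_eq_fintype_card, T.v7]
      at h
    simpa using h
  have hall : ∀ χ : IrrCharacter G, (χ : G → ℂ) x⁻¹ = (χ : G → ℂ) x := by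
    have hint : ∀ {χ : IrrCharacter G}, (∃ v : ℤ, (χ : G → ℂ) x = v) →
        (χ : G → ℂ) x⁻¹ = (χ : G → ℂ) x := fun {χ} ⟨v, hv⟩ => by
      rw [← conj_eq_inv, hv, map_intCast]
    obtain ⟨h21, h55, h99, h154, h210, h231, h385⟩ := int_single hG T x
    have h280 : ∀ θ : IrrCharacter G, deg θ = 280 → ∃ v : ℤ, (θ : G → ℂ) x = v := fun θ hθ =>
      ⟨0, by
        rw [vanish hG (p := 7) (n := 1) (by norm_num) (by norm_num [ord]) (by norm_num [ord])
          (by rw [hθ]; norm_num) (by rw [hxo]), Int.cast_zero]⟩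
    intro χ
    rcases T.cases_eq χ with rfl | rfl | rfl | rfl | rfl | rfl | rfl | rfl | rfl | rfl | rfl | rfl
    · rw [trivChar_apply, trivChar_apply]
    · exact hint h385
    · exact hint h21
    · exact ha
    · have h1 := hb x hx hx1
      have h2 := hb x⁻¹ (inv_mem hx) (inv_ne_one.2 hx1)
      rw [ha] at h2
      linear_combination h2 - h1
    · exact hint h55
    · exact hint h99
    · exact hint h154
    · exact hint h210
    · exact hint h231
    · exact hint (h280 _ d10)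
    · exact hint (h280 _ d11)
  obtain ⟨c, hc⟩ := isConj_iff.1 (isConj_of_vals hG hall)
  set N := Subgroup.normalizer (T.L7.P : Set G) with hN
  have hcN : c ∈ N :=
    (T.L7.setup.fusion hx (inv_mem hx) hx1 (one_mem _) (one_mem _)
      (by rw [mul_one, mul_one, hc])).1
  have h21 : c ^ 21 = 1 := by
    have h1 : Nat.card N = 21 := by rw [hN, T.L7.card_normalizer, T.e7, T.v7]
    exact orderOf_dvd_iff_pow_eq_one.1 (h1 ▸ Subgroup.orderOf_dvd_natCard _ hcN)
  have hsq : Commute (c ^ 2) x := by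
    have h1 : c * x⁻¹ * c⁻¹ = x := by rw [← conj_inv, hc, inv_inv]
    show c ^ 2 * x = x * c ^ 2
    calc c ^ 2 * x = c * (c * x * c⁻¹) * c := by simp [pow_two, mul_assoc]
      _ = c * x⁻¹ * c := by rw [hc]
      _ = (c * x⁻¹ * c⁻¹) * c ^ 2 := by simp [pow_two, mul_assoc]
      _ = x * c ^ 2 := by rw [h1]
  have h3 := (hsq.pow_left 11).eq
  rw [← pow_mul, show 2 * 11 = 21 + 1 from rfl, pow_succ, h21, one_mul] at h3
  rw [h3, mul_inv_cancel_right] at hc
  have h4 : x ^ 2 = 1 := by rw [pow_two]; nth_rewrite 2 [hc]; rw [mul_inv_cancel]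
  have h5 := orderOf_dvd_of_pow_eq_one h4
  rw [hxo] at h5
  norm_num at h5

omit [IsSimpleGroup G] in
theorem order_eq {p : ℕ} [Fact p.Prime] (hp : p = 5 ∨ p = 7 ∨ p = 11) (L : Local G p)
    (hV : Nat.card L.V = 1) {g : G} (hd : p ∣ orderOf g) : orderOf g = p := by
  have ho : orderOf (g ^ (orderOf g / p)) = p := orderOf_pow_orderOf_div (orderOf_pos g).ne' hd
  have h1 := L.cent_of_orderOf hG hp ho
  rw [hV, mul_one] at h1
  have h2 : orderOf g ∣ cent (g ^ (orderOf g / p)) := Subgroup.orderOf_dvd_natCard _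
    (Subgroup.mem_centralizer_singleton_iff.2 ((Commute.self_pow g _).eq))
  rw [h1] at h2
  exact ((Nat.dvd_prime (Fact.out : p.Prime)).1 h2).resolve_left fun e => by
    rw [e] at hd
    exact (Fact.out : p.Prime).ne_one (Nat.dvd_one.1 hd)

omit [IsSimpleGroup G] in
theorem card_sylow_three (P : Sylow 3 G) : Nat.card (P : Subgroup G) = 9 := by
  rw [P.card_eq_multiplicity, hG, show ord = 3 ^ 2 * 49280 from rfl,
    Nat.factorization_mul (by norm_num) (by norm_num), Finsupp.add_apply,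
    Nat.Prime.factorization_pow Nat.prime_three, Finsupp.single_eq_same,
    Nat.factorization_eq_zero_of_not_dvd (by norm_num : ¬ 3 ∣ 49280)]
  norm_num

include T in
/-- There are no elements of order nine. -/
theorem not_nine (g : G) : orderOf g ≠ 9 := by
  intro ho
  have : Fact (Nat.Prime 3) := ⟨Nat.prime_three⟩
  have h7 : ¬ 7 ∣ orderOf g := by rw [ho]; norm_num
  have h11 : ¬ 11 ∣ orderOf g := by rw [ho]; norm_num
  have hinv : ∀ χ : IrrCharacter G, (χ : G → ℂ) (g ^ 4) = (χ : G → ℂ) g := fun χ => by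
    have hord : orderOf (g ^ 4) = orderOf g :=
      Nat.Coprime.orderOf_pow (by rw [ho]; norm_num)
    obtain ⟨v, hv⟩ := int_all hG T h7 h11 χ
    obtain ⟨m, hm9, hm⟩ : ∃ m, m % 9 = 4 ∧ m.Coprime (Nat.card G) :=
      ⟨13, rfl, by rw [hG, ord]; norm_num⟩
    have e4 : g ^ 4 = g ^ m := by rw [← pow_mod_orderOf g m, ho, hm9]
    obtain ⟨ζ, hζ⟩ : ∃ ζ : ℂ, IsPrimitiveRoot ζ (Nat.card G) :=
      ⟨_, Complex.isPrimitiveRoot_exp _ Nat.card_pos.ne'⟩
    obtain ⟨σ, hσ⟩ := ComplexAut.exists_aut Nat.card_pos.ne' hζ hm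
    rw [e4, ← ComplexAut.aut_apply (IsIrr.isCharacter χ.2) hζ σ hσ g, hv, map_intCast]
  obtain ⟨c, hc⟩ := isConj_iff.1 (isConj_of_vals hG hinv)
  have hit : ∀ i : ℕ, c ^ i * g * (c ^ i)⁻¹ = g ^ (4 ^ i) := by
    intro i
    induction i with
    | zero => simp
    | succ i ih =>
      rw [pow_succ 4, mul_comm (4 ^ i) 4, pow_mul, ← hc, conj_pow, ← ih, pow_succ']
      group
  obtain ⟨a, b, hb3, hab⟩ :=
    Nat.exists_eq_pow_mul_and_not_dvd (orderOf_pos c).ne' 3 (by norm_num)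
  set d := c ^ b with hd
  have hd3 : IsPGroup 3 (Subgroup.zpowers d) := by
    refine IsPGroup.of_card (n := a) ?_
    have hb0 : 0 < b := Nat.pos_of_ne_zero fun e => hb3 (e ▸ dvd_zero 3)
    rw [Nat.card_zpowers, hd, orderOf_pow, hab, Nat.gcd_eq_right (dvd_mul_left b (3 ^ a)),
      Nat.mul_div_cancel _ hb0]
  have hg3 : IsPGroup 3 (Subgroup.zpowers g) :=
    IsPGroup.of_card (n := 2) (by rw [Nat.card_zpowers, ho]; norm_num)
  have hnorm : Subgroup.zpowers d ≤
      Subgroup.normalizer ((Subgroup.zpowers g : Subgroup G) : Set G) := by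
    rw [Subgroup.zpowers_le, Subgroup.mem_normalizer_iff_map_conj_eq, MonoidHom.map_zpowers]
    show Subgroup.zpowers (MulAut.conj d g) = _
    rw [MulAut.conj_apply, hd, hit]
    refine Subgroup.eq_of_le_of_card_ge (Subgroup.zpowers_le.2
      (Subgroup.pow_mem _ (Subgroup.mem_zpowers g) _)) (le_of_eq ?_)
    rw [Nat.card_zpowers, Nat.card_zpowers,
      Nat.Coprime.orderOf_pow (by rw [ho]; exact Nat.Coprime.pow_right _ (by norm_num))]
  obtain ⟨S, hS⟩ := (hd3.to_sup_of_normal_right' hg3 hnorm).exists_le_sylow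
  have hSg : (S : Subgroup G) = Subgroup.zpowers g :=
    (Subgroup.eq_of_le_of_card_ge (le_trans le_sup_right hS)
      (le_of_eq (by rw [card_sylow_three hG, Nat.card_zpowers, ho]))).symm
  have hdg : d ∈ Subgroup.zpowers g :=
    hSg ▸ hS (Subgroup.mem_sup_left (Subgroup.mem_zpowers d))
  obtain ⟨k, hk⟩ := Subgroup.mem_zpowers_iff.1 hdg
  have hcomm : d * g * d⁻¹ = g := by rw [← hk]; group
  rw [hd, hit] at hcomm
  have h1 : g ^ (4 ^ b % 9) = g ^ 1 := by rw [pow_one, ← ho, pow_mod_orderOf, hcomm]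
  have hlt := Nat.mod_lt b (show 0 < 3 by norm_num)
  have h4 : 4 ^ b % 9 = 4 ^ (b % 3) % 9 := by
    have h64 : (4 ^ 3) ^ (b / 3) % 9 = 1 := by rw [Nat.pow_mod]; norm_num
    conv_lhs => rw [← Nat.mod_add_div b 3, pow_add, pow_mul]
    rw [Nat.mul_mod, h64, mul_one, Nat.mod_mod]
  have hinj := pow_injOn_Iio_orderOf (x := g) (show 4 ^ b % 9 ∈ Set.Iio (orderOf g) by
    rw [ho]; exact Nat.mod_lt _ (by norm_num)) (show 1 ∈ Set.Iio (orderOf g) by
    rw [ho]; exact (by norm_num : (1 : ℕ) < 9)) h1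
  rw [h4] at hinj
  rcases (show b % 3 = 1 ∨ b % 3 = 2 by omega) with e | e <;> rw [e] at hinj <;> norm_num at hinj

include T in
/-- The orders of the elements of odd order. -/
theorem odd_order {g : G} (h2 : ¬ 2 ∣ orderOf g) :
    orderOf g = 1 ∨ orderOf g = 3 ∨ orderOf g = 5 ∨ orderOf g = 7 ∨ orderOf g = 11 := by
  have : Fact (Nat.Prime 5) := ⟨by norm_num⟩
  have : Fact (Nat.Prime 7) := ⟨by norm_num⟩
  have : Fact (Nat.Prime 11) := ⟨by norm_num⟩
  by_cases h5 : 5 ∣ orderOf g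
  · exact Or.inr (Or.inr (Or.inl (order_eq hG (Or.inl rfl) T.L5 T.v5 h5)))
  by_cases h7 : 7 ∣ orderOf g
  · exact Or.inr (Or.inr (Or.inr (Or.inl (order_eq hG (Or.inr (Or.inl rfl)) T.L7 T.v7 h7))))
  by_cases h11 : 11 ∣ orderOf g
  · exact Or.inr (Or.inr (Or.inr (Or.inr (order_eq hG (Or.inr (Or.inr rfl)) T.L11 T.v11 h11))))
  have hd : orderOf g ∣ 9 * (2 ^ 7 * 5 * 7 * 11) :=
    (orderOf_dvd_natCard g).trans (dvd_of_eq hG)
  have h9 : orderOf g ∣ 9 := by
    refine Nat.Coprime.dvd_of_dvd_mul_right ?_ hd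
    refine Nat.Coprime.mul_right (Nat.Coprime.mul_right (Nat.Coprime.mul_right ?_ ?_) ?_) ?_
    · exact ((Nat.Prime.coprime_iff_not_dvd (by norm_num)).2 h2).symm.pow_right 7
    · exact ((Nat.Prime.coprime_iff_not_dvd (by norm_num)).2 h5).symm
    · exact ((Nat.Prime.coprime_iff_not_dvd (by norm_num)).2 h7).symm
    · exact ((Nat.Prime.coprime_iff_not_dvd (by norm_num)).2 h11).symm
  have hne := not_nine hG T g
  have := Nat.le_of_dvd (by norm_num) h9
  generalize orderOf g = o at *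
  interval_cases o <;> omega

theorem val_of_five {g : G} (hg : orderOf g = 5) : (T.c21 : G → ℂ) g = 1 := by
  have : Fact (Nat.Prime 5) := ⟨by norm_num⟩
  obtain ⟨x, hx, hx1, hc⟩ := exists_conj_P hG (Or.inl rfl) T.L5 hg
  rw [val_of_conj hc, five_members hG T (χ := T.c21) (by rw [nt_five hG T]; simp) x hx hx1,
    T.degs.2.1]
  norm_num [sgn]

theorem val_of_seven {g : G} (hg : orderOf g = 7) :
    (T.a45 : G → ℂ) g + (T.b45 : G → ℂ) g = -1 := by
  have : Fact (Nat.Prime 7) := ⟨by norm_num⟩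
  obtain ⟨x, hx, hx1, hc⟩ := exists_conj_P hG (Or.inr (Or.inl rfl)) T.L7 hg
  have hV : ∀ v : T.L7.V, (v : G) = 1 := fun v => by
    have h := v.2
    simp only [Subgroup.card_eq_one.1 T.v7, Subgroup.mem_bot] at h
    exact h
  have h := T.L7.data.sumY x hx hx1
  simp only [hV, mul_one, Finset.sum_const, Finset.card_univ, ← Nat.card_eq_fintype_card, T.v7,
    one_smul, (seven_sets hG T).1, (seven_sets hG T).2.2, Finset.sum_pair T.ne45] at h
  rw [val_of_conj hc, val_of_conj hc]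
  simpa using h

theorem val_of_eleven {g : G} (hg : orderOf g = 11) :
    (T.c21 : G → ℂ) g = -1 ∧ (T.a45 : G → ℂ) g = 1 ∧ (T.b45 : G → ℂ) g = 1 := by
  have : Fact (Nat.Prime 11) := ⟨by norm_num⟩
  obtain ⟨x, hx, hx1, hc⟩ := exists_conj_P hG (Or.inr (Or.inr rfl)) T.L11 hg
  have hval : ∀ χ ∈ ({T.c21, T.a45, T.b45, T.c210} : Finset (IrrCharacter G)),
      (χ : G → ℂ) g = (sgn 11 (deg χ) : ℂ) := fun χ hχ => by
    have hX : χ ∈ T.L11.data.X := Finset.mem_of_mem_erase ((eleven_sets hG T).2.1 ▸ hχ)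
    have h1 := T.L11.data.valX χ hX x hx hx1 1 (one_mem _)
    rw [mul_one, (T.L11.εX_eq (by norm_num) hX).1] at h1
    rw [val_of_conj hc, h1]
  obtain ⟨d1, d2, d3, d4, -⟩ := T.degs
  refine ⟨?_, ?_, ?_⟩
  · rw [hval _ (by simp), d2]; norm_num [sgn]
  · rw [hval _ (by simp), d3]; norm_num [sgn]
  · rw [hval _ (by simp), d4]; norm_num [sgn]

omit [IsSimpleGroup G] in
theorem orth_int {g h : G} {a b : IrrCharacter G → ℤ}
    (ha : ∀ χ : IrrCharacter G, (χ : G → ℂ) g = (a χ : ℂ))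
    (hb : ∀ χ : IrrCharacter G, (χ : G → ℂ) h = (b χ : ℂ)) :
    (∑ χ, a χ * b χ : ℤ) = if IsConj g h then (cent g : ℤ) else 0 := by
  have h1 := column_orthogonality g h
  simp only [ha, hb, map_intCast] at h1
  apply Int.cast_injective (α := ℂ)
  push_cast
  rw [h1]

/-- The values at an element of order three, in terms of two of them. -/
theorem three_column {g : G} (hg : orderOf g = 3) :
    ∃ a k : ℤ, (T.c21 : G → ℂ) g = a ∧
      (cent g : ℤ) = 9 + 18 * k + 14 * k ^ 2 + 3 * a ^ 2 ∧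
      ival g T.c55 = 1 ∧ ival g T.a45 = 0 ∧ ival g T.b45 = 0 ∧ ival g T.c99 = 0 ∧
      ival g T.c154 = 1 + k ∧ ival g T.c210 = a + k ∧ ival g T.c231 = k - a ∧
      ival g T.c385 = -2 - 3 * k ∧ ival g T.a280 = 1 + k ∧ ival g T.b280 = 1 + k ∧
      ival g T.c21 = a := by
  obtain ⟨d1, d2, d3, d4, d5, d6, d7, d8, d9, d10, d11⟩ := T.degs
  obtain ⟨w1, w2, w3, w4, w5, w6, w7, w8, w9, w10, w11⟩ := T.vals
  have h5 : ¬ 5 ∣ orderOf g := by rw [hg]; norm_num
  have h7 : ¬ 7 ∣ orderOf g := by rw [hg]; norm_num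
  have h11 : ¬ 11 ∣ orderOf g := by rw [hg]; norm_num
  have hv : ∀ χ : IrrCharacter G, (χ : G → ℂ) g = (ival g χ : ℂ) := fun χ => by
    obtain ⟨v, hv⟩ := int_all hG T h7 h11 χ
    rw [ival_eq hv, hv]
  have hz : ∀ χ : IrrCharacter G, 9 ∣ deg χ → ival g χ = 0 := fun χ hd =>
    ival_eq (by
      rw [vanish hG (p := 3) (n := 2) Nat.prime_three (by norm_num [ord]) (by norm_num [ord])
        (by simpa using hd) (by rw [hg]), Int.cast_zero])
  have za := hz T.a45 (by rw [d3]; norm_num)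
  have zb := hz T.b45 (by rw [d4]; norm_num)
  have zc := hz T.c99 (by rw [d6]; norm_num)
  have r7 := rel_seven hG T (Or.inl rfl) h7
  have r5 := rel_five hG T h5
  have r11 := rel_eleven hG T (Or.inl rfl) h11
  have r11' := rel_eleven hG T (Or.inr rfl) h11
  simp only [hv, za, zb, zc, Int.cast_zero] at r7 r5 r11 r11'
  have e55 : ival g T.c55 = 1 := by
    have : ((ival g T.c55 : ℤ) : ℂ) = ((1 : ℤ) : ℂ) := by push_cast; linear_combination r7
    exact_mod_cast this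
  have e154 : ival g T.c154 = 1 + ival g T.c21 + ival g T.c231 := by
    have : ((ival g T.c154 : ℤ) : ℂ) = ((1 + ival g T.c21 + ival g T.c231 : ℤ) : ℂ) := by
      push_cast; linear_combination -r5
    exact_mod_cast this
  have e280 : ival g T.a280 = 1 - ival g T.c21 + ival g T.c210 := by
    have : ((ival g T.a280 : ℤ) : ℂ) = ((1 - ival g T.c21 + ival g T.c210 : ℤ) : ℂ) := by
      push_cast; linear_combination r11
    exact_mod_cast this
  have e280' : ival g T.b280 = 1 - ival g T.c21 + ival g T.c210 := by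
    have : ((ival g T.b280 : ℤ) : ℂ) = ((1 - ival g T.c21 + ival g T.c210 : ℤ) : ℂ) := by
      push_cast; linear_combination r11'
    exact_mod_cast this
  have hg1 : g ≠ 1 := fun e => by simp [e] at hg
  have o1 : ∑ χ, (deg χ : ℤ) * ival g χ = 0 := by
    have h1 := sum_degree_mul_apply_of_ne_one hg1
    simp only [deg_cast, hv] at h1
    exact_mod_cast h1
  have ot := orth_int hG (fun χ => (ival_spec hG T.ht χ).1) hv
  rw [if_neg fun h => by
    obtain ⟨c, hc⟩ := isConj_iff.1 h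
    have h1 := Order7920.orderOf_conj_eq' c T.t
    rw [hc, hg, T.ht] at h1
    norm_num at h1] at ot
  have oC := orth_int hG hv hv
  rw [if_pos (IsConj.refl g)] at oC
  have et : ival g (trivChar G) = 1 := ival_triv g
  simp only [T.sum_eq, deg_trivChar, d1, d2, d3, d4, d5, d6, d7, d8, d9, d10, d11, w1, w2, w3, w4,
    w5, w6, w7, w8, w9, w10, w11, ival_triv, za, zb, zc, e55, e154, e280, e280'] at o1 ot oC
  push_cast at o1
  set a := ival g T.c21 with ha
  set b := ival g T.c231 with hb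
  set c := ival g T.c210 with hc
  set e := ival g T.c385 with he
  have hc' : c = 2 * a + b := by linarith
  have he' : e = -3 * a - 3 * b - 2 := by linarith
  refine ⟨a, a + b, hv _, ?_, e55, za, zb, zc, ?_, ?_, ?_, ?_, ?_, ?_, rfl⟩
  · rw [← oC, hc', he']; ring
  all_goals linarith

omit [IsSimpleGroup G] in
theorem nine_dvd_cent {g : G} (hg : orderOf g = 3) : 9 ∣ cent g := by
  have : Fact (Nat.Prime 3) := ⟨Nat.prime_three⟩
  obtain ⟨P, hP⟩ := Order95040.exists_sylow_mem hg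
  have hc := card_sylow_three hG P
  refine hc ▸ Subgroup.card_dvd_of_le fun y hy => Subgroup.mem_centralizer_singleton_iff.2 ?_
  exact congrArg Subtype.val
    ((IsPGroup.commutative_of_card_eq_prime_sq (p := 3) (G := (P : Subgroup G))
      (by rw [hc]; norm_num)) ⟨y, hy⟩ ⟨g, hP⟩)

/-- The value of the character of degree 21 at an element of order three is odd. -/
theorem odd_three {g : G} (hg : orderOf g = 3) :
    ∃ a : ℤ, (T.c21 : G → ℂ) g = a ∧ a % 2 = 1 := by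
  have : Fact (Nat.Prime 3) := ⟨Nat.prime_three⟩
  have key : ∀ {g : G}, orderOf g = 3 → ∀ a k : ℤ,
      (cent g : ℤ) = 9 + 18 * k + 14 * k ^ 2 + 3 * a ^ 2 →
      3 ∣ k ∧ (a % 2 = 0 → a = 0 ∧ k = 0 ∧ cent g = 9) := by
    intro g hg a k hC
    obtain ⟨m, hm⟩ := nine_dvd_cent hG hg
    have hk : (3 : ℤ) ∣ k := by
      have h1 : (3 : ℤ) ∣ 14 * k ^ 2 := ⟨3 * m - 3 - 6 * k - a ^ 2, by rw [hm] at hC; push_cast at hC; linarith⟩
      have h2 := (Int.prime_three.dvd_mul.1 h1).resolve_left (by norm_num)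
      exact Int.prime_three.dvd_of_dvd_pow h2
    obtain ⟨j, rfl⟩ := hk
    have ha : (3 : ℤ) ∣ a := by
      have h1 : (3 : ℤ) ∣ a ^ 2 := ⟨m - 1 - 6 * j - 14 * j ^ 2, by
        rw [hm] at hC; push_cast at hC; linarith⟩
      exact Int.prime_three.dvd_of_dvd_pow h1
    refine ⟨dvd_mul_right 3 j, fun heven => ?_⟩
    obtain ⟨i, rfl⟩ := ha
    have hm' : (m : ℤ) = 1 + 6 * j + 14 * j ^ 2 + 3 * i ^ 2 := by
      rw [hm] at hC; push_cast at hC; linarith
    have hdm : m ∣ 128 := by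
      have hg1 : g ≠ 1 := fun e => by simp [e] at hg
      have n5 : ¬ 5 ∣ m := fun h => by
        have : Fact (Nat.Prime 5) := ⟨by norm_num⟩
        exact T.L5.not_dvd_cent hG (Or.inl rfl) T.v5 (by rw [hg]; norm_num) hg1
          (hm ▸ h.mul_left 9)
      have n7 : ¬ 7 ∣ m := fun h => by
        have : Fact (Nat.Prime 7) := ⟨by norm_num⟩
        exact T.L7.not_dvd_cent hG (Or.inr (Or.inl rfl)) T.v7 (by rw [hg]; norm_num) hg1
          (hm ▸ h.mul_left 9)
      have n11 : ¬ 11 ∣ m := fun h => by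
        have : Fact (Nat.Prime 11) := ⟨by norm_num⟩
        exact T.L11.not_dvd_cent hG (Or.inr (Or.inr rfl)) T.v11 (by rw [hg]; norm_num) hg1
          (hm ▸ h.mul_left 9)
      have h1 : 9 * m ∣ 9 * (128 * (5 * 7 * 11)) := hm ▸ cent_dvd hG g
      refine Nat.Coprime.dvd_of_dvd_mul_right ?_ ((Nat.mul_dvd_mul_iff_left (by norm_num)).1 h1)
      refine Nat.Coprime.mul_right (Nat.Coprime.mul_right ?_ ?_) ?_
      · exact ((Nat.Prime.coprime_iff_not_dvd (by norm_num)).2 n5).symm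
      · exact ((Nat.Prime.coprime_iff_not_dvd (by norm_num)).2 n7).symm
      · exact ((Nat.Prime.coprime_iff_not_dvd (by norm_num)).2 n11).symm
    have hi : i % 2 = 0 := by omega
    obtain ⟨i', rfl⟩ := Int.dvd_of_emod_eq_zero hi
    have hodd : m % 2 = 1 := by
      have : (m : ℤ) % 2 = 1 := by
        rw [hm', show 1 + 6 * j + 14 * j ^ 2 + 3 * (2 * i') ^ 2 =
          1 + 2 * (3 * j + 7 * j ^ 2 + 6 * i' ^ 2) by ring]
        omega
      omega
    obtain ⟨r, hr, rfl⟩ := (Nat.dvd_prime_pow Nat.prime_two).1 (show m ∣ 2 ^ 7 from hdm)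
    obtain rfl : r = 0 := by
      by_contra hr0
      have := Nat.mod_eq_zero_of_dvd (dvd_pow_self 2 hr0)
      omega
    push_cast at hm'
    have hj : j = 0 := by
      by_contra hj0
      rcases lt_or_gt_of_ne hj0 with hneg | hpos <;> nlinarith [sq_nonneg i']
    subst hj
    have hi' : i' = 0 := by nlinarith [sq_nonneg i']
    subst hi'
    exact ⟨by ring, by ring, by rw [hm]; norm_num⟩
  obtain ⟨a, k, ha, hC, h55, za, zb, zc, e154, e210, e231, e385, ea, eb, ea21⟩ :=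
    three_column hG T hg
  refine ⟨a, ha, ?_⟩
  by_contra hodd
  obtain ⟨a0, k0, hcg⟩ := (key hg a k hC).2 (by omega)
  obtain ⟨u, hu⟩ := exists_prime_orderOf_dvd_card'
    (G := Subgroup.centralizer ({T.t} : Set G)) 3 (by
      show 3 ∣ cent T.t
      rw [T.hct]; norm_num)
  have huo : orderOf (u : G) = 3 := by rw [Subgroup.orderOf_coe, hu]
  have h2u : 2 ∣ cent (u : G) := by
    have h1 : orderOf T.t ∣ cent (u : G) := Subgroup.orderOf_dvd_natCard _
      (Subgroup.mem_centralizer_singleton_iff.2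
        (Subgroup.mem_centralizer_singleton_iff.1 u.2).symm)
    rwa [T.ht] at h1
  obtain ⟨a', k', -, hC', h55', za', zb', zc', e154', e210', e231', e385', ea', eb', ea21'⟩ :=
    three_column hG T huo
  have hne : ¬ IsConj g (u : G) := fun h => by
    have hval := val_of_conj (χ := T.c21) h
    have ha' : (T.c21 : G → ℂ) u = (a : ℂ) := hval ▸ ha
    have e : a' = a := by rw [← ea21', ival_eq ha']
    have := ((key huo a' k' hC').2 (by omega)).2.2
    omega
  have hv : ∀ {y : G}, orderOf y = 3 → ∀ χ : IrrCharacter G,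
      (χ : G → ℂ) y = (ival y χ : ℂ) := fun {y} hy χ => by
    obtain ⟨v, hv⟩ := int_all hG T (g := y) (by rw [hy]; norm_num) (by rw [hy]; norm_num) χ
    rw [ival_eq hv, hv]
  have ho := orth_int hG (hv hg) (hv huo)
  rw [if_neg hne] at ho
  simp only [T.sum_eq, ival_triv, h55, za, zb, zc, e154, e210, e231, e385, ea, eb, ea21, h55',
    za', zb', zc', e154', e210', e231', e385', ea', eb', ea21', a0, k0] at ho
  obtain ⟨j, hj⟩ := (key huo a' k' hC').1
  omega

/-- The parity at elements of odd order. -/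
theorem parity {g : G} (h2 : ¬ 2 ∣ orderOf g) :
    ∃ k : ℤ, (T.c21 : G → ℂ) g + 1 + (T.a45 : G → ℂ) g + (T.b45 : G → ℂ) g = 2 * k := by
  obtain ⟨d1, d2, d3, d4, -⟩ := T.degs
  rcases odd_order hG T h2 with h | h | h | h | h
  · refine ⟨56, ?_⟩
    rw [orderOf_eq_one_iff.1 h, deg_cast, deg_cast, deg_cast, d2, d3, d4]
    norm_num
  · obtain ⟨a, ha, hodd⟩ := odd_three hG T h
    have z : ∀ χ : IrrCharacter G, deg χ = 45 → (χ : G → ℂ) g = 0 := fun χ hd =>
      vanish hG (p := 3) (n := 2) Nat.prime_three (by norm_num [ord]) (by norm_num [ord])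
        (by rw [hd]; norm_num) (by rw [h])
    refine ⟨a / 2 + 1, ?_⟩
    rw [ha, z _ d3, z _ d4]
    have : a = 2 * (a / 2) + 1 := by omega
    conv_lhs => rw [this]
    push_cast
    ring
  · have z : ∀ χ : IrrCharacter G, deg χ = 45 → (χ : G → ℂ) g = 0 := fun χ hd =>
      vanish hG (p := 5) (n := 1) Nat.prime_five (by norm_num [ord]) (by norm_num [ord])
        (by rw [hd]; norm_num) (by rw [h])
    exact ⟨1, by rw [val_of_five hG T h, z _ d3, z _ d4]; norm_num⟩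
  · refine ⟨0, ?_⟩
    rw [vanish hG (χ := T.c21) (p := 7) (n := 1) (by norm_num) (by norm_num [ord])
      (by norm_num [ord]) (by rw [d2]; norm_num) (by rw [h])]
    have h7 := val_of_seven hG T h
    push_cast
    linear_combination h7
  · obtain ⟨e1, e2, e3⟩ := val_of_eleven hG T h
    exact ⟨1, by rw [e1, e2, e3]; norm_num⟩

end CfsgLib.Blocks.Order443520
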