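import Mathlib.Data.Nat.Bitwise
import Mathlib.Data.Matrix.Basic
import Mathlib.Data.Matrix.Mul
import Mathlib.Data.ZMod.Basic
import Mathlib.Algebra.BigOperators.Fin
import Mathlib.Tactic

/-!
# Packed square matrices of degree ten over the field of two elements
-/

set_option autoImplicit false

namespace CfsgLib.Blocks.Order443520

/-- The first bit of each row. -/
def colMask : ℕ → ℕ
  | 0 => 0
  | n + 1 => 1 + 1024 * colMask n

/-- The matrix of a packed number. -/
def toMat (A : ℕ) : Matrix (Fin 10) (Fin 10) (ZMod 2) :=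
  Matrix.of fun i j => if A.testBit (10 * (i : ℕ) + j) then 1 else 0

/-- All bits. -/
def fullMask : ℕ := 1267650600228229401496703205375

/-- One summand of a packed product. -/
def mulTerm (A B k : ℕ) : ℕ := ((A >>> k) &&& 1239150146850664126585242625) * ((B >>> (10 * k)) &&& 1023)

/-- The packed product. -/
def mulP (A B : ℕ) : ℕ :=
  mulTerm A B 0 ^^^ mulTerm A B 1 ^^^ mulTerm A B 2 ^^^ mulTerm A B 3 ^^^ mulTerm A B 4 ^^^ mulTerm A B 5 ^^^ mulTerm A B 6 ^^^ mulTerm A B 7 ^^^ mulTerm A B 8 ^^^ mulTerm A B 9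

/-- Equality of the packed matrices. -/
def eqP (A B : ℕ) : Bool := Nat.beq (A &&& fullMask) (B &&& fullMask)

/-- The companion matrix of the eleventh cyclotomic polynomial. -/
def zP : ℕ := 1267031932587687660401822011394
/-- Tripling the exponents. -/
def hP : ℕ := 39620124853230590962266284033
/-- The square of `hP`. -/
def hSqP : ℕ := 19884715291917284166066503681
def oneP : ℕ := 634134936313486520338360567809
/-- The projection on the vectors fixed by `hP`. -/
def fixP : ℕ := 706316793812442709004782200833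
/-- The complementary projection. -/
def cycP : ℕ := 72801129897627735050849673216

def hFourP : ℕ := 11140326990800715716759666689
def hCubeP : ℕ := 2630627601005391300619436033

/-- The first row of a product. -/
def vecP (r B : ℕ) : ℕ := mulP r B &&& 1023

/-- The matrix intertwining `hP` and its square with given rows `0`, `1` and `2`. -/
def build (r0 r1 r2 : ℕ) : ℕ :=
  r0 ^^^ r1 <<< 10 ^^^ r2 <<< 20 ^^^ vecP r1 hSqP <<< 30 ^^^ vecP r1 hCubeP <<< 40 ^^^
    vecP r1 hP <<< 50 ^^^ vecP r2 hSqP <<< 60 ^^^ vecP r2 hFourP <<< 70 ^^^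
    vecP r2 hCubeP <<< 80 ^^^ vecP r1 hFourP <<< 90

/-- A word in three packed matrices. -/
def evalP (Z H V : ℕ) : List ℕ → ℕ
  | [] => oneP
  | 0 :: w => mulP Z (evalP Z H V w)
  | 1 :: w => mulP H (evalP Z H V w)
  | _ :: w => mulP V (evalP Z H V w)

def sqP (X : ℕ) : ℕ := mulP X X
def pow4P (X : ℕ) : ℕ := sqP (sqP X)
def pow8P (X : ℕ) : ℕ := sqP (pow4P X)
def pow16P (X : ℕ) : ℕ := sqP (pow8P X)
def pow48P (X : ℕ) : ℕ := mulP (sqP (pow16P X)) (pow16P X)
def pow5P (X : ℕ) : ℕ := mulP (pow4P X) X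
def pow7P (X : ℕ) : ℕ := mulP (pow5P X) (sqP X)
def pow11P (X : ℕ) : ℕ := mulP (pow8P X) (mulP (sqP X) X)

end CfsgLib.Blocks.Order443520
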