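import Cfsg.Agent.Lib.Blocks.Order443520.Conditions
import Mathlib.Data.Fin.VecNotation
import Mathlib.Algebra.CharP.Two

/-!
# Packed matrices and matrices
-/

set_option autoImplicit false

namespace CfsgLib.Blocks.Order443520

open Matrix

/-- A product with selected rows places copies of a row. -/
theorem testBit_select_mul {r : ℕ} (hr : r < 1024) (j : ℕ) (hj : j < 10) :
    ∀ (n a i : ℕ), ((a &&& colMask n) * r).testBit (10 * i + j) =
      (decide (i < n) && a.testBit (10 * i) && r.testBit j) := by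
  intro n
  induction n with
  | zero => intro a i; simp [colMask]
  | succ n ih =>
    intro a i
    have hsplit : a &&& colMask (n + 1) =
        2 ^ 10 * ((a >>> 10) &&& colMask n) + (a.testBit 0).toNat := by
      apply Nat.eq_of_testBit_eq
      intro t
      have hb : (a.testBit 0).toNat < 2 ^ 10 := (Bool.toNat_lt _).trans (by norm_num)
      have hm : colMask (n + 1) = 2 ^ 10 * colMask n + 1 := by rw [colMask]; ring
      rw [Nat.testBit_and, hm, Nat.testBit_two_pow_mul_add _ hb,
        Nat.testBit_two_pow_mul_add _ (show (1 : ℕ) < 2 ^ 10 by norm_num)]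
      by_cases ht : t < 10
      · rw [if_pos ht, if_pos ht]
        rcases t with _ | t
        · cases a.testBit 0 <;> rfl
        · rw [Nat.testBit_lt_two_pow (x := 1) (by simp), Bool.and_false, Nat.testBit_lt_two_pow]
          exact (Bool.toNat_lt _).trans_le (Nat.le_self_pow (Nat.succ_ne_zero t) 2)
      · rw [if_neg ht, if_neg ht, Nat.testBit_and, Nat.testBit_shiftRight]
        congr 2
        omega
    have hb : (a.testBit 0).toNat * r < 2 ^ 10 := by cases a.testBit 0 <;> simp <;> omega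
    rw [hsplit, add_mul, mul_assoc, Nat.testBit_two_pow_mul_add _ hb]
    rcases i with _ | i
    · rw [if_pos (by omega)]
      simp only [Nat.zero_add, Nat.mul_zero]
      cases a.testBit 0 <;> simp
    · rw [if_neg (by omega), show 10 * (i + 1) + j - 10 = 10 * i + j by omega, ih,
        Nat.testBit_shiftRight, show 10 + 10 * i = 10 * (i + 1) by ring]
      simp

theorem testBit_mulTerm (A B : ℕ) {i j k : ℕ} (hi : i < 10) (hj : j < 10) :
    (mulTerm A B k).testBit (10 * i + j) =
      (A.testBit (10 * i + k) && B.testBit (10 * k + j)) := by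
  have hmask : colMask 10 = 1239150146850664126585242625 := by decide
  have hr : (B >>> (10 * k)) &&& 1023 < 1024 :=
    lt_of_le_of_lt Nat.and_le_right (by norm_num)
  rw [mulTerm]
  rw [← hmask]
  rw [testBit_select_mul hr j hj, Nat.testBit_shiftRight, Nat.testBit_and, Nat.testBit_shiftRight,
    show (1023 : ℕ) = 2 ^ 10 - 1 from rfl, Nat.testBit_two_pow_sub_one]
  simp [hi, hj, Nat.add_comm]

/-- A bit as an element of the field. -/
def bitVal (b : Bool) : ZMod 2 := if b then 1 else 0

theorem toMat_apply (A : ℕ) (i j : Fin 10) :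
    toMat A i j = bitVal (A.testBit (10 * (i : ℕ) + j)) := rfl

theorem bitVal_xor (a b : Bool) : bitVal (a ^^ b) = bitVal a + bitVal b := by
  cases a <;> cases b <;> decide

theorem bitVal_and (a b : Bool) : bitVal (a && b) = bitVal a * bitVal b := by
  cases a <;> cases b <;> decide

theorem toMat_xor (A B : ℕ) : toMat (A ^^^ B) = toMat A + toMat B := by
  ext i j
  simp [toMat_apply, Matrix.add_apply, Nat.testBit_xor, bitVal_xor]

theorem toMat_mulP (A B : ℕ) : toMat (mulP A B) = toMat A * toMat B := by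
  ext i j
  simp only [toMat_apply, Matrix.mul_apply, mulP, Nat.testBit_xor, bitVal_xor,
    testBit_mulTerm A B i.2 j.2, bitVal_and, Fin.sum_univ_succ, Finset.univ_eq_empty,
    Finset.sum_empty, add_zero]
  simp [add_assoc]

theorem eqP_iff (A B : ℕ) : eqP A B = true ↔ toMat A = toMat B := by
  rw [eqP, Nat.beq_eq]
  constructor
  · intro h
    ext i j
    have h1 := congrArg (fun x => x.testBit (10 * (i : ℕ) + j)) h
    have hlt : 10 * (i : ℕ) + j < 100 := by omega
    simp only [Nat.testBit_and, show fullMask = 2 ^ 100 - 1 from rfl,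
      Nat.testBit_two_pow_sub_one, hlt, decide_true, Bool.and_true] at h1
    rw [toMat_apply, toMat_apply, h1]
  · intro h
    apply Nat.eq_of_testBit_eq
    intro t
    simp only [Nat.testBit_and, show fullMask = 2 ^ 100 - 1 from rfl, Nat.testBit_two_pow_sub_one]
    by_cases ht : t < 100
    · have h1 := congrFun (congrFun h ⟨t / 10, by omega⟩) ⟨t % 10, by omega⟩
      simp only [toMat_apply, Nat.div_add_mod] at h1
      cases ha : A.testBit t <;> cases hb : B.testBit t <;> simp [ha, hb, bitVal] at h1 ⊢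
    · simp [ht]

theorem toMat_eq {A B : ℕ} (h : eqP A B = true) : toMat A = toMat B := (eqP_iff A B).1 h

theorem toMat_ne {A B : ℕ} (h : eqP A B = false) : toMat A ≠ toMat B := fun e => by
  rw [← eqP_iff, h] at e
  exact Bool.false_ne_true e

theorem toMat_oneP : toMat oneP = 1 := by decide +kernel

/-- A word in three elements of a monoid. -/
def evalW {M : Type*} [Monoid M] (z h v : M) : List ℕ → M
  | [] => 1
  | 0 :: w => z * evalW z h v w
  | 1 :: w => h * evalW z h v w
  | _ :: w => v * evalW z h v w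

theorem toMat_evalP (Z H V : ℕ) :
    ∀ w, toMat (evalP Z H V w) = evalW (toMat Z) (toMat H) (toMat V) w
  | [] => toMat_oneP
  | 0 :: w => by rw [evalP, evalW, toMat_mulP, toMat_evalP]
  | 1 :: w => by rw [evalP, evalW, toMat_mulP, toMat_evalP]
  | (n + 2) :: w => by rw [evalP, evalW, toMat_mulP, toMat_evalP] <;> omega

theorem map_evalW {M N : Type*} [Monoid M] [Monoid N] (f : M →* N) (z h v : M) :
    ∀ w, f (evalW z h v w) = evalW (f z) (f h) (f v) w
  | [] => map_one f
  | 0 :: w => by rw [evalW, evalW, map_mul, map_evalW]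
  | 1 :: w => by rw [evalW, evalW, map_mul, map_evalW]
  | (n + 2) :: w => by rw [evalW, evalW, map_mul, map_evalW] <;> omega

theorem evalW_mem {M : Type*} [Monoid M] {S : Submonoid M} {z h v : M} (hz : z ∈ S) (hh : h ∈ S)
    (hv : v ∈ S) : ∀ w, evalW z h v w ∈ S
  | [] => S.one_mem
  | 0 :: w => by rw [evalW]; exact S.mul_mem hz (evalW_mem hz hh hv w)
  | 1 :: w => by rw [evalW]; exact S.mul_mem hh (evalW_mem hz hh hv w)
  | (n + 2) :: w => by rw [evalW] <;> first | exact S.mul_mem hv (evalW_mem hz hh hv w) | omega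

theorem exists_packed (M : Matrix (Fin 10) (Fin 10) (ZMod 2)) : ∃ A, toMat A = M := by
  refine ⟨Nat.ofBits fun t : Fin 100 =>
    decide (M ⟨t.1 / 10, by omega⟩ ⟨t.1 % 10, by omega⟩ = 1), ?_⟩
  ext i j
  have hlt : 10 * (i : ℕ) + j < 100 := by omega
  rw [toMat_apply, Nat.testBit_ofBits_lt _ _ hlt]
  have h1 : (⟨(10 * (i : ℕ) + j) / 10, by omega⟩ : Fin 10) = i := Fin.ext (by simp; omega)
  have h2 : (⟨(10 * (i : ℕ) + j) % 10, by omega⟩ : Fin 10) = j := Fin.ext (by simp)
  simp only [h1, h2, bitVal]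
  generalize M i j = a
  revert a
  decide

/-- A row as a number. -/
def rowNat (v : Fin 10 → ZMod 2) : ℕ := Nat.ofBits fun j : Fin 10 => decide (v j = 1)

theorem rowNat_lt (v : Fin 10 → ZMod 2) : rowNat v < 1024 := Nat.ofBits_lt_two_pow _

theorem bitVal_rowNat (v : Fin 10 → ZMod 2) (j : Fin 10) :
    bitVal ((rowNat v).testBit j) = v j := by
  rw [rowNat, Nat.testBit_ofBits_lt _ _ j.2]
  simp only [bitVal]
  generalize v j = a
  revert a
  decide

theorem toMat_pow48P (X : ℕ) : toMat (pow48P X) = toMat X ^ 48 := by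
  simp only [pow48P, pow16P, pow8P, pow4P, sqP, toMat_mulP, ← pow_two, ← pow_succ, ← pow_mul,
    ← pow_add]
  norm_num

theorem toMat_pow4P (X : ℕ) : toMat (pow4P X) = toMat X ^ 4 := by
  simp only [pow4P, sqP, toMat_mulP, ← pow_two, ← pow_mul]
  norm_num

theorem toMat_pow5P (X : ℕ) : toMat (pow5P X) = toMat X ^ 5 := by
  rw [pow5P, toMat_mulP, toMat_pow4P, ← pow_succ]

theorem toMat_pow7P (X : ℕ) : toMat (pow7P X) = toMat X ^ 7 := by
  rw [pow7P, toMat_mulP, toMat_pow5P, sqP, toMat_mulP, ← pow_two, ← pow_add]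

theorem toMat_pow11P (X : ℕ) : toMat (pow11P X) = toMat X ^ 11 := by
  simp only [pow11P, pow8P, pow4P, sqP, toMat_mulP, ← pow_two, ← pow_succ, ← pow_mul, ← pow_add]
  norm_num

/-- A number as a row. -/
def rowVec (r : ℕ) : Fin 10 → ZMod 2 := fun j => bitVal (r.testBit j)

theorem rowVec_rowNat (v : Fin 10 → ZMod 2) : rowVec (rowNat v) = v :=
  funext (bitVal_rowNat v)

theorem rowVec_xor (a b : ℕ) : rowVec (a ^^^ b) = rowVec a + rowVec b :=
  funext fun j => by simp [rowVec, Nat.testBit_xor, bitVal_xor]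

theorem rowVec_injOn {a b : ℕ} (ha : a < 1024) (hb : b < 1024) (h : rowVec a = rowVec b) :
    a = b := by
  refine Nat.eq_of_testBit_eq fun t => ?_
  by_cases ht : t < 10
  · have h1 := congrFun h ⟨t, ht⟩
    revert h1
    simp only [rowVec]
    cases a.testBit t <;> cases b.testBit t <;> simp [bitVal]
  · have hle : 2 ^ 10 ≤ 2 ^ t := Nat.pow_le_pow_right (by norm_num) (Nat.le_of_not_lt ht)
    rw [Nat.testBit_lt_two_pow (ha.trans_le hle), Nat.testBit_lt_two_pow (hb.trans_le hle)]

theorem toMat_zero_row (A : ℕ) : toMat A 0 = rowVec A := funext fun j => by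
  simp [toMat_apply, rowVec]

theorem vecP_lt (r B : ℕ) : vecP r B < 1024 :=
  lt_of_le_of_lt Nat.and_le_right (by norm_num)

theorem rowVec_vecP (r B : ℕ) : rowVec (vecP r B) = rowVec r ᵥ* toMat B := by
  have h : rowVec (vecP r B) = rowVec (mulP r B) := funext fun j => by
    simp only [rowVec, vecP, Nat.testBit_and]
    rw [show (1023 : ℕ) = 2 ^ 10 - 1 from rfl, Nat.testBit_two_pow_sub_one, decide_eq_true j.2,
      Bool.and_true]
  rw [h, ← toMat_zero_row, toMat_mulP, Matrix.mul_apply_eq_vecMul, toMat_zero_row]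

theorem testBit_place {x : ℕ} (hx : x < 1024) (k : ℕ) (i j : Fin 10) :
    (x <<< (10 * k)).testBit (10 * (i : ℕ) + j) = (decide ((i : ℕ) = k) && x.testBit j) := by
  rw [Nat.testBit_shiftLeft]
  rcases lt_trichotomy (i : ℕ) k with h | h | h
  · simp [h.ne, show ¬ 10 * k ≤ 10 * (i : ℕ) + j by omega]
  · simp [h]
  · have : x.testBit (10 * (i : ℕ) + j - 10 * k) = false := Nat.testBit_lt_two_pow
      (hx.trans_le (Nat.pow_le_pow_right (n := 2) (i := 10) (by norm_num) (by omega)))
    simp [h.ne', this]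

theorem toMat_build {r0 r1 r2 : ℕ} (h0 : r0 < 1024) (h1 : r1 < 1024) (h2 : r2 < 1024)
    (i : Fin 10) : toMat (build r0 r1 r2) i =
      ![rowVec r0, rowVec r1, rowVec r2, rowVec r1 ᵥ* toMat hSqP, rowVec r1 ᵥ* toMat hCubeP,
        rowVec r1 ᵥ* toMat hP, rowVec r2 ᵥ* toMat hSqP, rowVec r2 ᵥ* toMat hFourP,
        rowVec r2 ᵥ* toMat hCubeP, rowVec r1 ᵥ* toMat hFourP] i := by
  simp only [← rowVec_vecP]
  funext j
  have e : build r0 r1 r2 = r0 <<< (10 * 0) ^^^ r1 <<< (10 * 1) ^^^ r2 <<< (10 * 2) ^^^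
      vecP r1 hSqP <<< (10 * 3) ^^^ vecP r1 hCubeP <<< (10 * 4) ^^^ vecP r1 hP <<< (10 * 5) ^^^
      vecP r2 hSqP <<< (10 * 6) ^^^ vecP r2 hFourP <<< (10 * 7) ^^^
      vecP r2 hCubeP <<< (10 * 8) ^^^ vecP r1 hFourP <<< (10 * 9) := by
    rw [Nat.mul_zero, Nat.shiftLeft_zero]
    rfl
  rw [toMat_apply, e]
  simp only [Nat.testBit_xor]
  simp only [testBit_place h0, testBit_place h1, testBit_place h2, testBit_place (vecP_lt _ _)]
  fin_cases i <;> simp [rowVec]

end CfsgLib.Blocks.Order443520
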