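import Cfsg.Agent.Lib.Blocks.Order443520.Tools
import Cfsg.Agent.Lib.Blocks.PrimeSylow.Principal
import Cfsg.Agent.Lib.ZStar.PrincipalBlock

/-!
# The principal block at a Sylow subgroup of prime order, with sums over the translates of `V`
-/

set_option autoImplicit false

namespace CfsgLib.Blocks.Order443520

open Cfsg CfsgLib CfsgLib.Char CfsgLib.CharIntegral CfsgLib.Blocks.PrimeSylow
open CfsgLib.Blocks.Order95040 (deg cent deg_cast deg_trivChar)
open scoped Classical ComplexConjugate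

variable {G : Type*} [Group G] [Fintype G] {p : ℕ} {P V : Subgroup G}

/-- The principal block, with the trivial character among the `e` non-exceptional members. -/
structure BlockData (p : ℕ) (P V : Subgroup G) (e : ℕ) where
  X : Finset (IrrCharacter G)
  Y : Finset (IrrCharacter G)
  εX : IrrCharacter G → ℤ
  ε : ℤ
  dvd_e : e ∣ p - 1
  disj : Disjoint X Y
  cardX : X.card = e
  cardY : Y.card * e = p - 1
  sgnX : ∀ χ ∈ X, εX χ = 1 ∨ εX χ = -1
  sgnY : ε = 1 ∨ ε = -1
  modX : ∀ χ ∈ X, (deg χ : ℤ) ≡ εX χ [ZMOD p]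
  modY : ∀ θ ∈ Y, (deg θ : ℤ) ≡ ε * e [ZMOD p]
  valX : ∀ χ ∈ X, ∀ x ∈ P, x ≠ 1 → ∀ v ∈ V, (χ : G → ℂ) (x * v) = (εX χ : ℂ)
  valY : Y.card = 1 → ∀ θ ∈ Y, ∀ x ∈ P, x ≠ 1 → ∀ v ∈ V, (θ : G → ℂ) (x * v) = -(ε : ℂ)
  sameY : ∀ θ ∈ Y, ∀ θ' ∈ Y, ∀ g : G, ¬ p ∣ orderOf g → (θ : G → ℂ) g = (θ' : G → ℂ) g
  rel : ∀ θ ∈ Y, ∀ g : G, ¬ p ∣ orderOf g →
    (ε : ℂ) * (θ : G → ℂ) g = ∑ χ ∈ X, (εX χ : ℂ) * (χ : G → ℂ) g
  sumY : ∀ x ∈ P, x ≠ 1 →
    ∑ θ ∈ Y, ∑ v : V, (θ : G → ℂ) (x * v) = -((Nat.card V : ℂ) * (ε : ℂ))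
  off : ∀ χ : IrrCharacter G, χ ∉ X ∪ Y → ∀ x ∈ P, x ≠ 1 → ∑ v : V, (χ : G → ℂ) (x * v) = 0
  all : Nat.card V = 1 → ∀ χ : IrrCharacter G, ¬ p ∣ deg χ ↔ χ ∈ X ∪ Y

namespace BlockData

variable {e : ℕ}

theorem deg_rel (D : BlockData p P V e) [hp : Fact p.Prime] {θ : IrrCharacter G} (hθ : θ ∈ D.Y) :
    D.ε * (deg θ : ℤ) = ∑ χ ∈ D.X, D.εX χ * deg χ := by
  have h1 := D.rel θ hθ 1 (by rw [orderOf_one]; exact hp.out.not_dvd_one)
  simp only [deg_cast] at h1
  exact_mod_cast h1

theorem card_Y_eq_one (D : BlockData p P V e) (he : e = p - 1) (hp : 2 ≤ p) : D.Y.card = 1 := by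
  have h : D.Y.card * (p - 1) = p - 1 := by
    have h0 := D.cardY
    rwa [show D.Y.card * e = D.Y.card * (p - 1) from congrArg (D.Y.card * ·) he] at h0
  exact Nat.eq_of_mul_eq_mul_right (show 0 < p - 1 by omega) (h.trans (one_mul _).symm)

/-- With the trivial character among the non-exceptional members the inertial index is not one. -/
theorem e_ne_one (D : BlockData p P V e) [Fact p.Prime] (hperf : commutator G = ⊤)
    (ht : trivChar G ∈ D.X) (hp : 2 ≤ p) : e ≠ 1 := by
  intro he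
  obtain ⟨θ, hθ⟩ : D.Y.Nonempty := by
    rw [← Finset.card_pos]
    have := D.cardY
    have h2 : D.Y.card * e = D.Y.card := (congrArg (D.Y.card * ·) he).trans (mul_one _)
    omega
  have hX : D.X = {trivChar G} := (Finset.eq_of_subset_of_card_le
    (Finset.singleton_subset_iff.2 ht) (by rw [D.cardX, he, Finset.card_singleton])).symm
  have h1 := D.deg_rel hθ
  rw [hX, Finset.sum_singleton, deg_trivChar] at h1
  have h3 : deg θ = 1 := by
    have h4 := congrArg Int.natAbs h1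
    rcases D.sgnX _ ht with h6 | h6 <;> rcases D.sgnY with h7 | h7 <;>
      simp [h6, h7] at h4 <;> omega
  exact Finset.disjoint_left.1 D.disj ht (deg_one hperf h3 ▸ hθ)

/-- If the block has `p` members, each may serve as the exceptional one. -/
theorem exists_swap (D : BlockData p P V e) (he : e = p - 1) (hp : 2 ≤ p) {x₀ : IrrCharacter G}
    (hx₀ : x₀ ∈ D.X) :
    ∃ D' : BlockData p P V e, D'.X ∪ D'.Y = D.X ∪ D.Y ∧ D'.Y = {x₀} := by
  obtain ⟨θ, hY⟩ := Finset.card_eq_one.1 (D.card_Y_eq_one he hp)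
  have hθ : θ ∈ D.Y := by rw [hY]; exact Finset.mem_singleton_self θ
  have hθX : θ ∉ D.X := fun h => Finset.disjoint_left.1 D.disj h hθ
  have hne : x₀ ≠ θ := fun h => hθX (h ▸ hx₀)
  have hU : insert θ (D.X.erase x₀) ∪ {x₀} = D.X ∪ D.Y := by
    ext χ
    simp only [hY, Finset.mem_union, Finset.mem_insert, Finset.mem_erase, Finset.mem_singleton]
    constructor
    · rintro ((rfl | ⟨-, h⟩) | rfl)
      · exact Or.inr rfl
      · exact Or.inl h
      · exact Or.inl hx₀
    · rintro (h | rfl)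
      · by_cases hc : χ = x₀
        · exact Or.inr hc
        · exact Or.inl (Or.inr ⟨hc, h⟩)
      · exact Or.inl (Or.inl rfl)
  set ε' : IrrCharacter G → ℤ := Function.update D.εX θ (-D.ε) with hε'
  have hold : ∀ χ ∈ D.X, ε' χ = D.εX χ := fun χ hχ =>
    Function.update_of_ne (fun h : χ = θ => hθX (h ▸ hχ)) _ _
  have hnew : ε' θ = -D.ε := Function.update_self _ _ _
  have hmem : ∀ χ ∈ insert θ (D.X.erase x₀), χ = θ ∨ χ ∈ D.X := fun χ hχ =>
    (Finset.mem_insert.1 hχ).imp id Finset.mem_of_mem_erase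
  have he' : (e : ℤ) ≡ -1 [ZMOD p] := by
    rw [he, Int.modEq_iff_dvd]
    refine ⟨-1, ?_⟩
    rw [Nat.cast_sub (show 1 ≤ p by omega)]
    push_cast
    ring
  refine ⟨⟨insert θ (D.X.erase x₀), {x₀}, ε', -D.εX x₀, D.dvd_e, ?_, ?_, ?_, fun χ hχ => ?_, ?_,
    fun χ hχ => ?_, fun χ hχ => ?_, fun χ hχ x hx hx1 v hv => ?_, fun _ χ hχ x hx hx1 v hv => ?_,
    fun a ha b hb g _ => ?_, fun χ hχ g hg => ?_, fun x hx hx1 => ?_, fun χ hχ => ?_,
    fun hc χ => ?_⟩, hU, rfl⟩
  · simp [hne]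
  · rw [Finset.card_insert_of_notMem fun h => hθX (Finset.mem_of_mem_erase h),
      Finset.card_erase_of_mem hx₀, D.cardX]
    omega
  · rw [Finset.card_singleton, one_mul, he]
  · rcases hmem χ hχ with rfl | h
    · rw [hnew]; rcases D.sgnY with h | h <;> simp [h]
    · rw [hold χ h]; exact D.sgnX χ h
  · rcases D.sgnX x₀ hx₀ with h | h <;> simp [h]
  · rcases hmem χ hχ with rfl | h
    · rw [hnew]
      exact (D.modY χ hθ).trans ((he'.mul_left _).trans (by rw [mul_neg_one]))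
    · rw [hold χ h]; exact D.modX χ h
  · rw [Finset.mem_singleton.1 hχ]
    refine (D.modX x₀ hx₀).trans ?_
    have h := he'.mul_left (-D.εX x₀)
    rw [neg_mul_neg, mul_one] at h
    exact h.symm
  · rcases hmem χ hχ with rfl | h
    · rw [hnew, D.valY (D.card_Y_eq_one he hp) χ hθ x hx hx1 v hv]; push_cast; ring
    · rw [hold χ h]; exact D.valX χ h x hx hx1 v hv
  · rw [Finset.mem_singleton.1 hχ, D.valX x₀ hx₀ x hx hx1 v hv]; push_cast; ring
  · rw [Finset.mem_singleton.1 ha, Finset.mem_singleton.1 hb]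
  · rw [Finset.mem_singleton.1 hχ, Finset.sum_insert (fun h => hθX (Finset.mem_of_mem_erase h)),
      hnew, Finset.sum_congr rfl fun a ha => by rw [hold a (Finset.mem_of_mem_erase ha)]]
    have h1 := D.rel θ hθ g hg
    rw [← Finset.add_sum_erase _ _ hx₀] at h1
    push_cast
    linear_combination h1
  · rw [Finset.sum_singleton, Finset.sum_congr rfl fun (v : V) _ => D.valX x₀ hx₀ x hx hx1 v v.2,
      Finset.sum_const, Finset.card_univ, nsmul_eq_mul, ← Nat.card_eq_fintype_card]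
    push_cast
    ring
  · exact D.off χ (hU ▸ hχ)
  · rw [hU]; exact D.all hc χ

end BlockData

open PrimeSylow in
/-- The data exist, with the trivial character among the non-exceptional members. -/
theorem exists_blockData [hp : Fact p.Prime] (h : Setup p P V) (hp3 : 3 ≤ p)
    (hperf : commutator G = ⊤) :
    ∃ (e : ℕ) (D : BlockData p P V e),
      Nat.card (Subgroup.normalizer (P : Set G)) = e * (p * Nat.card V) ∧ trivChar G ∈ D.X := by
  have := Fintype.ofFinite (IrrCharacter G)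
  have := Fintype.ofFinite P
  have : Fintype (NBar P) := Fintype.ofFinite _
  have := Fintype.ofFinite (IrrCharacter V)
  obtain ⟨M, hM⟩ := CfsgLib.ZStar.exists_isPModular (p := p) hp.out
  have : M.IsPrime := hM.2.1.isPrime
  set e := (Subgroup.centralizer (P : Set G)).relIndex (Subgroup.normalizer (P : Set G)) with he
  obtain ⟨-, X, Y, hB, hdisj, hX, hY, εX, ε, hXp, hε, hYmod, hsame, hrel⟩ :=
    h.exists_principal hM he.symm
  have hedvd : e ∣ p - 1 :=
    h.inertialIndex_trivChar.trans he.symm ▸ (h.exists_over (trivChar V)).1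
  have hN : Nat.card (Subgroup.normalizer (P : Set G)) = e * (p * Nat.card V) := by
    have h1 := Subgroup.relIndex_mul_relIndex ⊥ (Subgroup.centralizer (P : Set G))
      (Subgroup.normalizer (P : Set G)) bot_le (Blocks.centralizer_le_normalizer' P)
    rw [Subgroup.relIndex_bot_left, Subgroup.relIndex_bot_left, ← he, h.card_centralizer] at h1
    rw [← h1, mul_comm]
  have hB' : principalBlock M G = blockSet M P ((trivChar V : IrrCharacter V) : V → ℂ) :=
    blockSet_eq isPBlock_principalBlock trivChar_mem_principalBlock (h.trivChar_mem_blockSet hM)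
  have horb : ∀ η : IrrCharacter V, η ∈ orbitV P (trivChar V : IrrCharacter V) → η = trivChar V := by
    rintro η ⟨n, hn, e'⟩
    exact Subtype.ext (e'.trans (h.cjFun_trivChar hn))
  have hconst : ∀ χ : IrrCharacter G, χ ∈ principalBlock M G → ∀ x ∈ P, x ≠ 1 → ∀ v : V,
      (χ : G → ℂ) (x * v) =
        dval (χ : G → ℂ) x ((trivChar V : IrrCharacter V) : V → ℂ) := by
    intro χ hχ x hx hx1 v
    rw [h.apply_eq_sum (IsIrr.isClassFunction χ.2) hx v, Finset.sum_eq_single (trivChar V),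
      trivChar_apply, mul_one]
    · intro η _ hne
      rw [h.dval_eq_zero_of_not_orbit hM (hB' ▸ hχ) (fun hm => hne (horb η hm)) hx hx1, zero_mul]
    · exact fun hi => absurd (Finset.mem_univ _) hi
  have hoff : ∀ χ : IrrCharacter G, χ ∉ principalBlock M G → ∀ x ∈ P, x ≠ 1 →
      ∑ v : V, (χ : G → ℂ) (x * v) = 0 := by
    intro χ hχ x hx hx1
    have h0 : dval (χ : G → ℂ) x ((trivChar V : IrrCharacter V) : V → ℂ) = 0 :=
      by_contradiction fun hne => hχ (hB'.symm ▸ h.mem_blockSet_of_dval hM hx hx1 χ (trivChar V) hne)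
    simp only [dval, classInner, trivChar_apply, map_one, mul_one] at h0
    exact (mul_eq_zero.1 h0).resolve_left (inv_ne_zero (Nat.cast_ne_zero.2 Nat.card_pos.ne'))
  set Xf := X.toFinset
  set Yf := Y.toFinset
  have hmem : ∀ χ, χ ∈ Xf ∪ Yf ↔ χ ∈ principalBlock M G := fun χ => by
    rw [Finset.mem_union, Set.mem_toFinset, Set.mem_toFinset, ← Set.mem_union, ← hB]
  have hdisjf : Disjoint Xf Yf := Set.disjoint_toFinset.2 hdisj
  have hYc : Yf.card * e = p - 1 := by
    rw [← Set.ncard_eq_toFinset_card', ← Nat.card_coe_set_eq, hY, Nat.div_mul_cancel hedvd]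
  have hrelf : ∀ θ ∈ Yf, ∀ g : G, ¬ p ∣ orderOf g →
      (ε : ℂ) * (θ : G → ℂ) g = ∑ χ ∈ Xf, (εX χ : ℂ) * (χ : G → ℂ) g := fun θ hθ g hg => by
    have h1 := hrel θ (Set.mem_toFinset.1 hθ) g hg
    rwa [finsum_mem_eq_toFinset_sum] at h1
  have hvalX : ∀ χ ∈ Xf, ∀ x ∈ P, x ≠ 1 → ∀ v ∈ V, (χ : G → ℂ) (x * v) = (εX χ : ℂ) :=
    fun χ hχ x hx hx1 v hv =>
      (hXp χ (Set.mem_toFinset.1 hχ)).2.2 x hx hx1 v (h.V_le hv) (h.not_dvd_orderOf hv)
  have hp1 : ¬ p ∣ orderOf (1 : G) := by rw [orderOf_one]; exact hp.out.not_dvd_one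
  have hsumY : ∀ x ∈ P, x ≠ 1 →
      ∑ θ ∈ Yf, ∑ v : V, (θ : G → ℂ) (x * v) = -((Nat.card V : ℂ) * (ε : ℂ)) := by
    intro x hx hx1
    obtain ⟨θ, hθ⟩ : Yf.Nonempty := by
      rw [← Finset.card_pos]
      by_contra h0
      rw [Nat.eq_zero_of_not_pos h0, zero_mul] at hYc
      omega
    have hall : ∑ χ : IrrCharacter G, (χ : G → ℂ) 1 * ∑ v : V, (χ : G → ℂ) (x * v) = 0 := by
      simp only [Finset.mul_sum]
      rw [Finset.sum_comm]
      refine Finset.sum_eq_zero fun v _ => sum_degree_mul_apply_of_ne_one fun e1 => ?_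
      have := h.mul_inj hx (one_mem P) v.2 (one_mem V) (e1.trans (one_mul 1).symm)
      exact hx1 this.1
    rw [← Finset.sum_subset (Finset.subset_univ (Xf ∪ Yf)) (fun χ _ hχ => by
      rw [hoff χ (fun hc => hχ ((hmem χ).2 hc)) x hx hx1, mul_zero]), Finset.sum_union hdisjf,
      Finset.sum_congr rfl fun χ hχ => by
        rw [Finset.sum_congr rfl fun (v : V) _ => hvalX χ hχ x hx hx1 v v.2, Finset.sum_const,
          Finset.card_univ, nsmul_eq_mul, ← Nat.card_eq_fintype_card],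
      Finset.sum_congr rfl (fun a ha => by
        rw [hsame a (Set.mem_toFinset.1 ha) θ (Set.mem_toFinset.1 hθ) 1 hp1]) (s₁ := Yf),
      ← Finset.mul_sum] at hall
    have h1 := hrelf θ hθ 1 hp1
    have hd : (θ : G → ℂ) 1 ≠ 0 := IsIrr.apply_one_ne_zero θ.2
    refine mul_left_cancel₀ hd ?_
    have h2 : ∑ χ ∈ Xf, (χ : G → ℂ) 1 * ((Nat.card V : ℂ) * (εX χ : ℂ)) =
        (Nat.card V : ℂ) * ((ε : ℂ) * (θ : G → ℂ) 1) := by
      rw [h1, Finset.mul_sum]
      exact Finset.sum_congr rfl fun χ _ => by ring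
    rw [h2] at hall
    linear_combination hall
  let D : BlockData p P V e :=
    { X := Xf
      Y := Yf
      εX := εX
      ε := ε
      dvd_e := hedvd
      disj := hdisjf
      cardX := by rw [← hX, Nat.card_coe_set_eq, Set.ncard_eq_toFinset_card']
      cardY := hYc
      sgnX := fun χ hχ => (hXp χ (Set.mem_toFinset.1 hχ)).1
      sgnY := hε
      modX := fun χ hχ => (hXp χ (Set.mem_toFinset.1 hχ)).2.1
      modY := fun θ hθ => hYmod θ (Set.mem_toFinset.1 hθ)
      valX := hvalX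
      valY := fun h1 θ hθ x hx hx1 v hv => by
        obtain ⟨θ', hθ'⟩ := Finset.card_eq_one.1 h1
        obtain rfl : θ = θ' := Finset.mem_singleton.1 (hθ' ▸ hθ)
        have hc := hconst θ ((hmem θ).1 (Finset.mem_union_right _ hθ)) x hx hx1
        have h2 := hsumY x hx hx1
        rw [hθ', Finset.sum_singleton, Finset.sum_congr rfl fun w _ => hc w, Finset.sum_const,
          Finset.card_univ, nsmul_eq_mul, ← Nat.card_eq_fintype_card, ← mul_neg] at h2
        rw [hc ⟨v, hv⟩]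
        exact mul_left_cancel₀ (Nat.cast_ne_zero.2 Nat.card_pos.ne') h2
      sameY := fun θ hθ θ' hθ' => hsame θ (Set.mem_toFinset.1 hθ) θ' (Set.mem_toFinset.1 hθ')
      rel := hrelf
      sumY := hsumY
      off := fun χ hχ => hoff χ fun hc => hχ ((hmem χ).2 hc)
      all := fun hc χ => by
        rw [hmem, hB']
        refine ⟨fun hd => ?_, fun hd => h.not_dvd_of_mem hM hd⟩
        obtain ⟨η, hη⟩ := h.exists_mem_blockSet hM hd
        have : η = trivChar V := by
          refine irr_ext fun v => ?_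
          obtain rfl : v = 1 := by
            have := Subgroup.card_eq_one.1 hc
            exact Subtype.ext (Subgroup.mem_bot.1 (this ▸ v.2))
          rw [trivChar_apply, apply_one_eq_charDegree]
          have h1 := charDegree_dvd_card η
          rw [hc, Nat.dvd_one] at h1
          rw [h1, Nat.cast_one]
        rwa [this] at hη }
  by_cases ht : trivChar G ∈ Xf
  · exact ⟨e, D, hN, ht⟩
  have htY : trivChar G ∈ Yf :=
    (Finset.mem_union.1 ((hmem _).2 trivChar_mem_principalBlock)).resolve_left ht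
  have hep : e = p - 1 := by
    have h1 := hYmod _ (Set.mem_toFinset.1 htY)
    rw [show charDegree ((trivChar G : IrrCharacter G) : G → ℂ) = 1 from deg_trivChar] at h1
    have hle := Nat.le_of_dvd (by omega) hedvd
    have hk := Int.modEq_iff_dvd.1 h1
    have hpos : 0 < e := Nat.pos_of_dvd_of_pos hedvd (by omega)
    rcases hε with rfl | rfl
    · have he1 : e = 1 := by
        have h0 : (1 : ℤ) * (e : ℤ) - ((1 : ℕ) : ℤ) = 0 :=
          Int.eq_zero_of_dvd_of_nonneg_of_lt (by omega) (by omega) hk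
        omega
      have hX1 : Xf.card = 1 := D.cardX.trans he1
      obtain ⟨χ₀, hχ₀⟩ := Finset.card_eq_one.1 hX1
      have h2 := D.deg_rel (θ := trivChar G) htY
      rw [show D.X = {χ₀} from hχ₀, Finset.sum_singleton, deg_trivChar] at h2
      have h3 : deg χ₀ = 1 := by
        have h4 := congrArg Int.natAbs h2
        have h5 : χ₀ ∈ Xf := by rw [hχ₀]; exact Finset.mem_singleton_self _
        rcases D.sgnX χ₀ h5 with h6 | h6 <;> simp [h6, show D.ε = 1 from rfl] at h4 <;> omega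
      have h5 : χ₀ ∈ Xf := by rw [hχ₀]; exact Finset.mem_singleton_self _
      exact absurd (deg_one hperf h3 ▸ h5) ht
    · have h2 : (p : ℤ) ∣ (e : ℤ) + 1 := by
        have h3 := dvd_neg.2 hk
        rwa [show -((-1 : ℤ) * (e : ℤ) - ((1 : ℕ) : ℤ)) = (e : ℤ) + 1 by push_cast; ring] at h3
      have h4 := Int.le_of_dvd (by omega) h2
      omega
  obtain ⟨x₀, hx₀⟩ : Xf.Nonempty := by
    rw [← Finset.card_pos, D.cardX, hep]
    omega
  obtain ⟨D', hU, hY'⟩ := D.exists_swap hep (by omega) hx₀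
  refine ⟨e, D', hN, (Finset.mem_union.1 (hU ▸ Finset.mem_union_right _ htY :
    trivChar G ∈ D'.X ∪ D'.Y)).resolve_right fun hc => ?_⟩
  rw [hY', Finset.mem_singleton] at hc
  exact ht (hc ▸ hx₀)

end CfsgLib.Blocks.Order443520
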