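import Cfsg.Agent.Lib.Blocks.Order443520.Conditions

/-!
# The fixed vectors and the component on the fixed space
-/

set_option autoImplicit false
set_option maxRecDepth 100000

namespace CfsgLib.Blocks.Order443520

theorem fixedRows_fixP : fixedRows fixP = fixRows := by decide +kernel

theorem fixedRows_cycP : fixedRows cycP = cycRows := by decide +kernel

theorem coverA_all :
    (fixRows.all fun a0 => fixRows.all fun a1 => fixRows.all (coverA a0 a1)) = true := by
  decide +kernel

end CfsgLib.Blocks.Order443520
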