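import Cfsg.Agent.Lib.Blocks.Order443520.BitsLemmas
import Cfsg.Agent.Lib.Blocks.Order443520.CoverBase
import Cfsg.Agent.Lib.Blocks.Order443520.Cover.Part0
import Cfsg.Agent.Lib.Blocks.Order443520.Cover.Part1
import Cfsg.Agent.Lib.Blocks.Order443520.Cover.Part2
import Cfsg.Agent.Lib.Blocks.Order443520.Cover.Part3
import Cfsg.Agent.Lib.Blocks.Order443520.Cover.Part4
import Cfsg.Agent.Lib.Blocks.Order443520.Cover.Part5
import Cfsg.Agent.Lib.Blocks.Order443520.Cover.Part6
import Cfsg.Agent.Lib.Blocks.Order443520.Cover.Part7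

/-!
# The candidates for the element of order four
-/

set_option autoImplicit false
set_option maxRecDepth 10000

namespace CfsgLib.Blocks.Order443520

open Matrix

theorem checkB_all : ∀ b1 ∈ cycRows, ∀ b2 ∈ cycRows, checkB b1 b2 = true := by
  intro b1 h1 b2 h2
  obtain ⟨n, hn, rfl⟩ := List.mem_iff_getElem.1 h1
  have hlen : cycRows.length = 256 := rfl
  have hk : ∀ k < 32, checkRow k = true := by
    intro k hk
    match k, hk with
    | 0, _ => exact checkRow_0
    | 1, _ => exact checkRow_1
    | 2, _ => exact checkRow_2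
    | 3, _ => exact checkRow_3
    | 4, _ => exact checkRow_4
    | 5, _ => exact checkRow_5
    | 6, _ => exact checkRow_6
    | 7, _ => exact checkRow_7
    | 8, _ => exact checkRow_8
    | 9, _ => exact checkRow_9
    | 10, _ => exact checkRow_10
    | 11, _ => exact checkRow_11
    | 12, _ => exact checkRow_12
    | 13, _ => exact checkRow_13
    | 14, _ => exact checkRow_14
    | 15, _ => exact checkRow_15
    | 16, _ => exact checkRow_16
    | 17, _ => exact checkRow_17
    | 18, _ => exact checkRow_18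
    | 19, _ => exact checkRow_19
    | 20, _ => exact checkRow_20
    | 21, _ => exact checkRow_21
    | 22, _ => exact checkRow_22
    | 23, _ => exact checkRow_23
    | 24, _ => exact checkRow_24
    | 25, _ => exact checkRow_25
    | 26, _ => exact checkRow_26
    | 27, _ => exact checkRow_27
    | 28, _ => exact checkRow_28
    | 29, _ => exact checkRow_29
    | 30, _ => exact checkRow_30
    | 31, _ => exact checkRow_31
    | (n + 32), h => omega
  have h := hk (n / 8) (by omega)
  rw [checkRow, List.all_eq_true] at h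
  have hmem : cycRows[n] ∈ (cycRows.drop (8 * (n / 8))).take 8 := by
    refine List.mem_iff_getElem.2 ⟨n - 8 * (n / 8), by simp; omega, ?_⟩
    rw [List.getElem_take, List.getElem_drop]
    congr 1
    omega
  exact List.all_eq_true.1 (h _ hmem) b2 h2

/-- A vector fixed by a packed idempotent is listed. -/
theorem mem_fixedRows {F : ℕ} {v : Fin 10 → ZMod 2} (h : v ᵥ* toMat F = v) :
    rowNat v ∈ fixedRows F := by
  rw [fixedRows, List.mem_filter, List.mem_range, Nat.beq_eq]
  exact ⟨rowNat_lt v, rowVec_injOn (vecP_lt _ _) (rowNat_lt v)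
    (by rw [rowVec_vecP, rowVec_rowNat, h])⟩

/-- A matrix intertwining `hP` and its square is determined by three rows. -/
theorem eq_build {Y : Matrix (Fin 10) (Fin 10) (ZMod 2)} (hY : toMat hP * Y = Y * toMat hSqP) :
    Y = toMat (build (rowNat (Y 0)) (rowNat (Y 1)) (rowNat (Y 2))) := by
  have hrow : ∀ i j : Fin 10, toMat hP i = Pi.single j 1 → Y j = Y i ᵥ* toMat hSqP := by
    intro i j hij
    have h1 := congrFun hY i
    rw [Matrix.mul_apply_eq_vecMul, Matrix.mul_apply_eq_vecMul, hij, Matrix.single_one_vecMul]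
      at h1
    exact h1
  have hp : ∀ a b c : ℕ, eqP (mulP a b) c = true → toMat a * toMat b = toMat c := fun a b c e => by
    rw [← toMat_mulP]
    exact toMat_eq e
  have r3 := hrow 1 3 (by decide +kernel)
  have r9 := hrow 3 9 (by decide +kernel)
  have r5 := hrow 9 5 (by decide +kernel)
  have r4 := hrow 5 4 (by decide +kernel)
  have r6 := hrow 2 6 (by decide +kernel)
  have r7 := hrow 6 7 (by decide +kernel)
  have r2 := hrow 8 2 (by decide +kernel)
  have e9 : Y 9 = Y 1 ᵥ* toMat hFourP := by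
    rw [r9, r3, Matrix.vecMul_vecMul, hp hSqP hSqP hFourP (by decide +kernel)]
  have e5 : Y 5 = Y 1 ᵥ* toMat hP := by
    rw [r5, e9, Matrix.vecMul_vecMul, hp hFourP hSqP hP (by decide +kernel)]
  have e4 : Y 4 = Y 1 ᵥ* toMat hCubeP := by
    rw [r4, e5, Matrix.vecMul_vecMul, hp hP hSqP hCubeP (by decide +kernel)]
  have e7 : Y 7 = Y 2 ᵥ* toMat hFourP := by
    rw [r7, r6, Matrix.vecMul_vecMul, hp hSqP hSqP hFourP (by decide +kernel)]
  have e8 : Y 8 = Y 2 ᵥ* toMat hCubeP := by
    rw [r2, Matrix.vecMul_vecMul, hp hSqP hCubeP oneP (by decide +kernel), toMat_oneP,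
      Matrix.vecMul_one]
  funext i
  rw [toMat_build (rowNat_lt _) (rowNat_lt _) (rowNat_lt _)]
  simp only [rowVec_rowNat]
  fin_cases i <;> first | rfl | exact r3 | exact r6 | exact e9 | exact e5 | exact e4 | exact e7 | exact e8

theorem pow_four_idem_mul {M : Type*} [Monoid M] {e y : M} (he : e * e = e)
    (hc : Commute e y) : (e * y) ^ 4 = e * y ^ 4 := by
  have h : (e * y) ^ 4 = e * e * e * e * y ^ 4 := by
    rw [hc.mul_pow]
    simp only [pow_succ, pow_zero, one_mul]
  rw [h, he, he, he]

/-- An element of order four mapping `hP` to its square is a survivor or gives an element of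
forbidden order. -/
theorem exists_candidate {Y : Matrix (Fin 10) (Fin 10) (ZMod 2)}
    (hY : toMat hP * Y = Y * toMat hSqP) (h4 : Y ^ 4 = 1) :
    ∃ P, toMat P = Y ∧ checkV P = true := by
  obtain ⟨H, hH⟩ : ∃ H, toMat hP = H := ⟨_, rfl⟩
  obtain ⟨F, hF⟩ : ∃ F, toMat fixP = F := ⟨_, rfl⟩
  obtain ⟨C, hC⟩ : ∃ C, toMat cycP = C := ⟨_, rfl⟩
  have hH2 : toMat hSqP = H * H := by
    rw [← hH, ← toMat_mulP]; exact toMat_eq (by decide +kernel)
  rw [hH, hH2] at hY
  have hFH : F = 1 + H + H * H + H * H * H + H * H * (H * H) := by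
    rw [← hF, ← hH, ← toMat_oneP, ← toMat_mulP, ← toMat_mulP, ← toMat_mulP, ← toMat_xor,
      ← toMat_xor, ← toMat_xor, ← toMat_xor]
    exact toMat_eq (by decide +kernel)
  have hFF : F * F = F := by rw [← hF, ← toMat_mulP]; exact toMat_eq (by decide +kernel)
  have hCC : C * C = C := by rw [← hC, ← toMat_mulP]; exact toMat_eq (by decide +kernel)
  have hsum : F + C = 1 := by
    rw [← hF, ← hC, ← toMat_oneP, ← toMat_xor]; exact toMat_eq (by decide +kernel)
  have hHF : Commute H F := by
    rw [← hH, ← hF]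
    show _ * _ = _ * _
    rw [← toMat_mulP, ← toMat_mulP]
    exact toMat_eq (by decide +kernel)
  have hH5 : H * H * H * H * H = 1 := by
    rw [← hH, ← toMat_oneP]
    simp only [← toMat_mulP]
    exact toMat_eq (by decide +kernel)
  have e2 : H * H * Y = Y * (H * H * H * H) := by
    rw [mul_assoc, hY, ← mul_assoc, hY]; simp only [mul_assoc]
  have e3 : H * H * H * Y = Y * H := by
    rw [mul_assoc, hY, ← mul_assoc, e2,
      show Y * (H * H * H * H) * (H * H) = Y * (H * H * H * H * H * H) by simp only [mul_assoc],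
      hH5, one_mul]
  have e4 : H * H * (H * H) * Y = Y * (H * H * H) := by
    rw [mul_assoc, e2, ← mul_assoc, e2,
      show Y * (H * H * H * H) * (H * H * H * H) = Y * (H * H * H * H * H * (H * H * H)) by
        simp only [mul_assoc], hH5, one_mul]
  have hFY : Commute F Y := by
    show F * Y = Y * F
    rw [hFH]
    simp only [add_mul, mul_add, one_mul, mul_one, hY, e2, e3, e4]
    simp only [mul_assoc]
    abel
  have hCF : C = 1 - F := by rw [← hsum, add_sub_cancel_left]
  have hCY : Commute C Y := by rw [hCF]; exact (Commute.one_left Y).sub_left hFY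
  have hHC : Commute H C := by rw [hCF]; exact (Commute.one_right H).sub_right hHF
  have hrel : ∀ E, Commute H E → H * (E * Y) = E * Y * toMat hSqP := fun E hE => by
    rw [← mul_assoc, hE.eq, mul_assoc, hY, hH2, mul_assoc]
  obtain ⟨A, hA⟩ : ∃ A, F * Y = A := ⟨_, rfl⟩
  obtain ⟨B, hB⟩ : ∃ B, C * Y = B := ⟨_, rfl⟩
  have hAb := eq_build (Y := A) (by rw [← hA, hH]; exact hrel F hHF)
  have hBb := eq_build (Y := B) (by rw [← hB, hH]; exact hrel C hHC)
  have hrowA : ∀ i, rowNat (A i) ∈ fixRows := fun i => by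
    rw [← fixedRows_fixP]
    refine mem_fixedRows ?_
    rw [← Matrix.mul_apply_eq_vecMul, hF, ← hA, mul_assoc, ← hFY.eq, ← mul_assoc, hFF]
  have hrowB : ∀ i, rowNat (B i) ∈ cycRows := fun i => by
    rw [← fixedRows_cycP]
    refine mem_fixedRows ?_
    rw [← Matrix.mul_apply_eq_vecMul, hC, ← hB, mul_assoc, ← hCY.eq, ← mul_assoc, hCC]
  have hB0 : rowNat (B 0) = 0 := by
    have hC0 : C 0 = 0 := by rw [← hC]; decide +kernel
    have e : B 0 = 0 := by rw [← hB, Matrix.mul_apply_eq_vecMul, hC0, Matrix.zero_vecMul]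
    rw [e]; decide +kernel
  rw [hB0] at hBb
  have hmA : (rowNat (A 0), rowNat (A 1), rowNat (A 2)) ∈ listA := by
    have h := List.all_eq_true.1 (List.all_eq_true.1 (List.all_eq_true.1 coverA_all _ (hrowA 0)) _
      (hrowA 1)) _ (hrowA 2)
    rw [coverA, Bool.or_eq_true, List.contains_iff_mem] at h
    refine h.resolve_left fun h' => ?_
    rw [Bool.not_eq_true'] at h'
    exact toMat_ne h' (by
      rw [toMat_pow4P, ← hAb, hF, ← hA, pow_four_idem_mul hFF hFY, h4, mul_one])
  have h := checkB_all _ (hrowB 1) _ (hrowB 2)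
  rw [checkB, Bool.or_eq_true] at h
  have h' := List.all_eq_true.1 (h.resolve_left fun h' => by
    rw [Bool.not_eq_true'] at h'
    exact toMat_ne h' (by
      rw [toMat_pow4P, ← hBb, hC, ← hB, pow_four_idem_mul hCC hCY, h4, mul_one])) _ hmA
  refine ⟨_, ?_, h'⟩
  have hY' : Y = A + B := by
    rw [← hA, ← hB, ← add_mul, hsum, one_mul]
  conv_rhs => rw [hY', hAb, hBb]
  have hlt : ∀ a b : Fin 10 → ZMod 2, rowNat a ^^^ rowNat b < 1024 := fun a b =>
    Nat.xor_lt_two_pow (n := 10) (rowNat_lt a) (rowNat_lt b)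
  funext i
  show _ = toMat _ i + toMat _ i
  rw [toMat_build (rowNat_lt _) (hlt _ _) (hlt _ _),
    toMat_build (rowNat_lt _) (rowNat_lt _) (rowNat_lt _),
    toMat_build (by norm_num : (0 : ℕ) < 1024) (rowNat_lt _) (rowNat_lt _)]
  simp only [rowVec_xor, Matrix.add_vecMul]
  have h0 : rowVec 0 = 0 := funext fun j => by simp [rowVec, bitVal]
  fin_cases i <;> simp [h0]

end CfsgLib.Blocks.Order443520
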