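import Cfsg.Agent.Lib.Blocks.Order443520.Shape

/-!
# The degrees and the values at a central involution

There are twelve irreducible characters.
-/

set_option autoImplicit false

namespace CfsgLib.Blocks.Order443520

open Cfsg CfsgLib CfsgLib.Char CfsgLib.CharIntegral CfsgLib.Blocks.PrimeSylow
open CfsgLib.Blocks.Order95040 (deg cent deg_cast deg_trivChar deg_eq_finrank)
open scoped Classical ComplexConjugate

open Local

variable {G : Type*} [Group G] [Fintype G]

/-- All the degrees with the values at a central involution. -/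
def allCells : List Cell := (1, 1) :: (385, 1) :: finalCells

variable [IsSimpleGroup G] (hG : Nat.card G = ord)
include hG

theorem cent_involution_cases {t : G} (ht : orderOf t = 2) (h128 : 128 ∣ cent t)
    (L5 : Local G 5) (L7 : Local G 7) (L11 : Local G 11) :
    cent t = 128 ∨ cent t = 384 ∨ cent t = 1152 := by
  have : Fact (Nat.Prime 5) := ⟨by norm_num⟩
  have : Fact (Nat.Prime 7) := ⟨by norm_num⟩
  obtain ⟨⟨-, h5⟩, ⟨-, h7⟩⟩ := shapes hG L5 L7 L11
  have ht1 : t ≠ 1 := fun e => by simp [e] at ht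
  have n5 : ¬ 5 ∣ cent t := L5.not_dvd_cent hG (Or.inl rfl) h5 (by rw [ht]; norm_num) ht1
  have n7 : ¬ 7 ∣ cent t :=
    L7.not_dvd_cent hG (Or.inr (Or.inl rfl)) h7 (by rw [ht]; norm_num) ht1
  have n11 : ¬ 11 ∣ cent t := fun h => cent_mod_eleven hG L11 ht (Nat.mod_eq_zero_of_dvd h)
  obtain ⟨k, hk⟩ := h128
  have hd : cent t ∣ 1152 * (5 * 7 * 11) := cent_dvd hG t
  have hco : (cent t).Coprime (5 * 7 * 11) := by
    refine Nat.Coprime.mul_right (Nat.Coprime.mul_right ?_ ?_) ?_
    · exact ((Nat.Prime.coprime_iff_not_dvd (by norm_num)).2 n5).symm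
    · exact ((Nat.Prime.coprime_iff_not_dvd (by norm_num)).2 n7).symm
    · exact ((Nat.Prime.coprime_iff_not_dvd (by norm_num)).2 n11).symm
  have h9 : k ∣ 9 := by
    have := hco.dvd_of_dvd_mul_right hd
    rw [hk, show 1152 = 128 * 9 from rfl] at this
    exact (Nat.mul_dvd_mul_iff_left (by norm_num : 0 < 128)).1 this
  have h3 : k = 1 ∨ k = 3 ∨ k = 9 := by
    have := Nat.le_of_dvd (by norm_num) h9
    interval_cases k <;> revert h9 <;> norm_num
  rcases h3 with rfl | rfl | rfl <;> omega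

omit [IsSimpleGroup G] in
/-- An involution central in a Sylow 2-subgroup. -/
theorem exists_central_involution : ∃ t : G, orderOf t = 2 ∧ 128 ∣ cent t := by
  have : Fact (Nat.Prime 2) := ⟨Nat.prime_two⟩
  obtain ⟨S⟩ : Nonempty (Sylow 2 G) := inferInstance
  have hS : Nat.card (S : Subgroup G) = 128 := by
    rw [S.card_eq_multiplicity, hG, show ord = 2 ^ 7 * 3465 from rfl,
      Nat.factorization_mul (by norm_num) (by norm_num), Finsupp.add_apply,
      Nat.Prime.factorization_pow Nat.prime_two, Finsupp.single_eq_same,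
      Nat.factorization_eq_zero_of_not_dvd (by norm_num : ¬ 2 ∣ 3465)]
    norm_num
  have : Nontrivial (S : Subgroup G) := Finite.one_lt_card_iff_nontrivial.1 (by rw [hS]; norm_num)
  have := S.isPGroup'.center_nontrivial
  obtain ⟨z, hz⟩ := exists_prime_orderOf_dvd_card' (G := Subgroup.center (S : Subgroup G)) 2 (by
    obtain ⟨b, hb⟩ := (S.isPGroup'.to_subgroup (Subgroup.center _)).exists_card_eq
    rw [hb]
    refine dvd_pow_self 2 fun hb0 => ?_
    have h1 : 1 < Nat.card (Subgroup.center (S : Subgroup G)) :=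
      Finite.one_lt_card_iff_nontrivial.2 this
    rw [hb, hb0] at h1
    omega)
  refine ⟨((z : (S : Subgroup G)) : G), by simp only [Subgroup.orderOf_coe, hz], ?_⟩
  refine hS ▸ Subgroup.card_dvd_of_le fun y hy => Subgroup.mem_centralizer_singleton_iff.2 ?_
  exact congrArg Subtype.val (Subgroup.mem_center_iff.1 z.2 ⟨y, hy⟩)

/-- The degrees and the values at a central involution. -/
theorem exists_cells [Fintype (IrrCharacter G)] :
    ∃ t : G, orderOf t = 2 ∧ cent t = 384 ∧
      (Finset.univ : Finset (IrrCharacter G)).val.map (cell t) = (allCells : Multiset Cell) := by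
  have : Fact (Nat.Prime 5) := ⟨by norm_num⟩
  have : Fact (Nat.Prime 7) := ⟨by norm_num⟩
  have : Fact (Nat.Prime 11) := ⟨by norm_num⟩
  obtain ⟨L5⟩ := exists_local hG (p := 5) (Or.inl rfl)
  obtain ⟨L7⟩ := exists_local hG (p := 7) (Or.inr (Or.inl rfl))
  obtain ⟨L11⟩ := exists_local hG (p := 11) (Or.inr (Or.inr rfl))
  obtain ⟨⟨he5, hV5⟩, ⟨he7, hV7⟩⟩ := shapes hG L5 L7 L11
  obtain ⟨he11, hV11⟩ := eleven_shape hG L11
  obtain ⟨t, ht, h128⟩ := exists_central_involution hG
  have hC := cent_involution_cases hG ht h128 L5 L7 L11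
  obtain ⟨b, hb, hbm⟩ := L7.exists_col hG (Or.inr (Or.inl rfl)) ht (cong := false)
    (fun h => absurd h (by simp)) (init := []) (by simp) (O := ∅) (Finset.disjoint_empty_left _)
  rw [he7, hV7] at hb
  simp only [colsI, List.length_nil, zero_le, decide_true, List.all_nil, Bool.and_true,
    if_true, Finset.sum_empty, Nat.sub_zero] at hb
  obtain ⟨a, ha, ham, hUm, hT⟩ := L11.exists_eleven hG he11 hV11 ht
    (fun h => L7.ne_triv_of_mem_nt h rfl) hbm
  obtain ⟨ct, hct, hctm, hsub5, hguard⟩ := L5.third_five hG he5 hV5 ht hT hUm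
  have hfin : finalChk (cent t) = true :=
    List.all_eq_true.1 final_table _ (by simpa using hC)
  simp only [finalChk, List.all_eq_true] at hfin
  have h1 := hfin b hb a ha
  have s1 : subL (offP 7 a) b = true := subL_of_le (by
    rw [coe_offP 7 ham, hbm]
    refine Multiset.map_le_map (Finset.val_le_iff.2 fun χ hχ => ?_)
    obtain ⟨h1, h2⟩ := Finset.mem_filter.1 hχ
    exact (L7.mem_nt_iff hV7).2 ⟨L11.ne_triv_of_mem_nt h1, h2⟩)
  simp only [s1, Bool.not_true, Bool.false_or, hguard, List.all_eq_true] at h1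
  have h2 := h1 ct hct
  have s2 : subL (offP 11 ct) a = true := subL_of_le (by
    rw [coe_offP 11 hctm, ham]
    refine Multiset.map_le_map (Finset.val_le_iff.2 fun χ hχ => ?_)
    obtain ⟨h1, h2⟩ := Finset.mem_filter.1 hχ
    exact (L11.mem_nt_iff hV11).2 ⟨L5.ne_triv_of_mem_nt h1, h2⟩)
  have s3 : subL (offP 7 ct) b = true := subL_of_le (by
    rw [coe_offP 7 hctm, hbm]
    refine Multiset.map_le_map (Finset.val_le_iff.2 fun χ hχ => ?_)
    obtain ⟨h1, h2⟩ := Finset.mem_filter.1 hχ
    exact (L7.mem_nt_iff hV7).2 ⟨L5.ne_triv_of_mem_nt h1, h2⟩)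
  simp only [hsub5, s2, s3, Bool.not_true, Bool.false_or, Bool.and_eq_true, beq_iff_eq,
    List.isPerm_iff] at h2
  obtain ⟨hCt, hperm⟩ := h2
  refine ⟨t, ht, hCt, ?_⟩
  set R := (L5.nt.filter fun χ => 7 ∣ deg χ).filter fun χ => 11 ∣ deg χ with hR
  set U := L11.nt ∪ L7.nt.filter fun χ => 11 ∣ deg χ with hU
  set K := U ∪ R with hK
  have hUR : Disjoint U R := Finset.disjoint_left.2 fun χ h1 h2 => by
    obtain ⟨h2, h11⟩ := Finset.mem_filter.1 h2
    obtain ⟨-, h7⟩ := Finset.mem_filter.1 h2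
    rcases Finset.mem_union.1 h1 with h | h
    · exact ((L11.mem_nt_iff hV11).1 h).2 h11
    · exact ((L7.mem_nt_iff hV7).1 (Finset.mem_filter.1 h).1).2 h7
  have hKc : K.val.map (cell t) = (finalCells : Multiset Cell) := by
    rw [hK, ← Finset.disjUnion_eq_union _ _ hUR, Finset.disjUnion_val, Multiset.map_add,
      ← hUm, hR, ← coe_onP 11 (coe_onP 7 hctm), Multiset.coe_add]
    exact Multiset.coe_eq_coe.2 hperm
  have hK1 : trivChar G ∉ K := fun h => by
    rcases Finset.mem_union.1 h with h | h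
    · exact hT h
    · exact L5.ne_triv_of_mem_nt (Finset.mem_filter.1 (Finset.mem_filter.1 h).1).1 rfl
  set O := (Finset.univ.erase (trivChar G)) \ K with hO
  have hO385 : ∀ χ ∈ O, deg χ = 385 := fun χ hχ => by
    obtain ⟨h1, h2⟩ := Finset.mem_sdiff.1 hχ
    have hne := Finset.ne_of_mem_erase h1
    have h11 : 11 ∣ deg χ := by
      by_contra h
      exact h2 (Finset.mem_union_left _ (Finset.mem_union_left _
        ((L11.mem_nt_iff hV11).2 ⟨hne, h⟩)))
    have h7 : 7 ∣ deg χ := by
      by_contra h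
      exact h2 (Finset.mem_union_left _ (Finset.mem_union_right _
        (Finset.mem_filter.2 ⟨(L7.mem_nt_iff hV7).2 ⟨hne, h⟩, h11⟩)))
    have h5 : 5 ∣ deg χ := by
      by_contra h
      exact h2 (Finset.mem_union_right _ (Finset.mem_filter.2
        ⟨Finset.mem_filter.2 ⟨(L5.mem_nt_iff hV5).2 ⟨hne, h⟩, h7⟩, h11⟩))
    have hm := deg_mem hG hne
    rw [degList, List.mem_filter, List.mem_range, Bool.and_eq_true, decide_eq_true_eq] at hm
    omega
  have hsplit : (Finset.univ : Finset (IrrCharacter G)).val =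
      trivChar G ::ₘ (O.val + K.val) := by
    have hsub : K ⊆ Finset.univ.erase (trivChar G) := fun χ hχ =>
      Finset.mem_erase.2 ⟨fun e => hK1 (e ▸ hχ), Finset.mem_univ χ⟩
    rw [← Finset.disjUnion_val _ _ (Finset.sdiff_disjoint), Finset.disjUnion_eq_union,
      Finset.sdiff_union_of_subset hsub, Finset.erase_val,
      Multiset.cons_erase (Finset.mem_univ_val _)]
  have hsum : ∀ {M : Type} [AddCommMonoid M] (f : IrrCharacter G → M),
      ∑ χ, f χ = f (trivChar G) + (∑ χ ∈ O, f χ + ∑ χ ∈ K, f χ) := fun {M} _ f => by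
    simp only [Finset.sum, hsplit, Multiset.map_cons, Multiset.sum_cons, Multiset.map_add,
      Multiset.sum_add]
  have hKd : ∑ χ ∈ K, deg χ * deg χ = 295294 := by
    rw [Finset.sum, show K.val.map (fun χ => deg χ * deg χ) =
      (K.val.map (cell t)).map fun c : Cell => c.1 * c.1 by rw [Multiset.map_map]; rfl, hKc]
    rfl
  have hKv : ∑ χ ∈ K, (deg χ : ℤ) * ival t χ = -386 := by
    rw [Finset.sum, show K.val.map (fun χ => (deg χ : ℤ) * ival t χ) =
      (K.val.map (cell t)).map fun c : Cell => (c.1 : ℤ) * c.2 by rw [Multiset.map_map]; rfl, hKc]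
    rfl
  have hsq : ∑ χ : IrrCharacter G, deg χ * deg χ = ord := by
    have h1 := sum_sq_degree (G := G)
    rw [hG] at h1
    simp only [deg_cast, sq] at h1
    exact_mod_cast h1
  rw [hsum, deg_trivChar, hKd, Finset.sum_congr rfl fun χ hχ => by rw [hO385 χ hχ],
    Finset.sum_const, smul_eq_mul] at hsq
  obtain ⟨χ₁, hχ₁⟩ := Finset.card_eq_one.1 (show O.card = 1 by unfold ord at hsq; omega)
  have ht1 : t ≠ 1 := fun e => by simp [e] at ht
  have horth : ∑ χ : IrrCharacter G, (deg χ : ℤ) * ival t χ = 0 := by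
    have h1 := sum_degree_mul_apply_of_ne_one ht1
    simp only [deg_cast, fun χ => (ival_spec hG ht χ).1] at h1
    exact_mod_cast h1
  have hd1 := hO385 χ₁ (by rw [hχ₁]; exact Finset.mem_singleton_self _)
  rw [hsum, deg_trivChar, ival_triv, hKv, hχ₁, Finset.sum_singleton, hd1] at horth
  rw [hsplit, Multiset.map_cons, Multiset.map_add, hKc, hχ₁, Finset.singleton_val,
    Multiset.map_singleton, cell, cell, deg_trivChar, ival_triv, hd1,
    show ival t χ₁ = 1 by push_cast at horth; omega]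
  rfl

end CfsgLib.Blocks.Order443520
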