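import Cfsg.Agent.Lib.Blocks.Order443520.Search
import Mathlib.Data.Nat.Prime.Pow

/-!
# The checks on columns, order 443520
-/

set_option autoImplicit false

namespace CfsgLib.Blocks.Order443520

/-- The divisors of the order. -/
def divs : List ℕ :=
  (List.range 8).flatMap fun a => (List.range 3).flatMap fun b => (List.range 2).flatMap fun c =>
    (List.range 2).flatMap fun d => (List.range 2).map fun e =>
      2 ^ a * 3 ^ b * 5 ^ c * 7 ^ d * 11 ^ e

theorem mem_divs {n : ℕ} (h : n ∣ ord) : n ∈ divs := by
  have e : ord = 2 ^ 7 * 3 ^ 2 * 5 * 7 * 11 := rfl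
  rw [e] at h
  obtain ⟨m₁, k, h₁, hk, rfl⟩ := Nat.dvd_mul.1 h
  obtain ⟨m₂, d, h₂, hd, rfl⟩ := Nat.dvd_mul.1 h₁
  obtain ⟨m₃, c, h₃, hc, rfl⟩ := Nat.dvd_mul.1 h₂
  obtain ⟨a, b, ha, hb, rfl⟩ := Nat.dvd_mul.1 h₃
  obtain ⟨i, hi, rfl⟩ := (Nat.dvd_prime_pow Nat.prime_two).1 ha
  obtain ⟨j, hj, rfl⟩ := (Nat.dvd_prime_pow Nat.prime_three).1 hb
  simp only [divs, List.mem_flatMap, List.mem_map, List.mem_range]
  have key : ∀ {q m : ℕ}, q.Prime → m ∣ q → ∃ k < 2, q ^ k = m := fun {q m} hq hm => by
    rcases (Nat.dvd_prime hq).1 hm with rfl | rfl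
    · exact ⟨0, by omega, pow_zero _⟩
    · exact ⟨1, by omega, pow_one _⟩
  obtain ⟨u, hu, rfl⟩ := key Nat.prime_five hc
  obtain ⟨v, hv, rfl⟩ := key (by norm_num : (7 : ℕ).Prime) hd
  obtain ⟨w, hw, rfl⟩ := key (by norm_num : (11 : ℕ).Prime) hk
  exact ⟨i, by omega, j, by omega, u, hu, v, hv, w, hw, rfl⟩

/-- The possible centralizer orders of involutions. -/
def centList : List ℕ := divs.filter fun C => C % 2 == 0 && C != ord

theorem mem_centList {C : ℕ} (h : C ∣ ord) (h2 : 2 ∣ C) (hne : C ≠ ord) : C ∈ centList := by
  refine List.mem_filter.2 ⟨mem_divs h, ?_⟩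
  simp only [Bool.and_eq_true, beq_iff_eq, bne_iff_ne]
  exact ⟨Nat.mod_eq_zero_of_dvd h2, hne⟩

/-- The possible shapes `(e, c)` of the normalizer of a Sylow `p`-subgroup. -/
def candList (p : ℕ) : List (ℕ × ℕ) :=
  ((List.range p).filter fun e => decide (1 < e) && (p - 1) % e == 0).flatMap fun e =>
    (divs.filter fun c => ord / p % (e * c) == 0 && ord / p / (e * c) % p == 1 &&
      ord / p / (e * c) != 1 && c % p != 0).map fun c => (e, c)

/-- The two-part of a number dividing the order. -/
def twoPart (c : ℕ) : ℕ :=
  2 ^ (((List.range 8).filter fun k => c % 2 ^ (k + 1) == 0).length)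

/-- The condition on the centralizer of a central two-element of the centralizer of a Sylow
`p`-subgroup. -/
def sylok (C p e c : ℕ) : Bool :=
  C % (p * twoPart c) == 0 &&
    (List.range (min C (e * p * c) / (p * twoPart c) + 1)).any fun i =>
      0 < i && e * p * c % (i * (p * twoPart c)) == 0 && C % (i * (p * twoPart c)) == 0 &&
        C / (i * (p * twoPart c)) % p == 1

/-- The sum of the squares of the values. -/
def nsq (l : List Cell) : ℕ := (l.map fun t => t.2.natAbs * t.2.natAbs).sum

/-- The sum of the squares of the degrees. -/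
def dsq (l : List Cell) : ℕ := (l.map fun t => t.1 * t.1).sum

/-- Containment as multisets. -/
def subL (r a : List Cell) : Bool := r.all fun k => decide (r.count k ≤ a.count k)

/-- The cell is a possible non-exceptional cell. -/
def inTypes (p c C : ℕ) (cong : Bool) (t : Cell) : Bool :=
  decide (1 < t.1) && decide (t.1 < 666) && ord % t.1 == 0 && okd p c t.1 &&
    (valsAt p C cong t.1).contains t.2

/-- The columns extending `init`, none when this is not a list of possible cells. -/
def colsI (p e c C : ℕ) (cong : Bool) (init : List Cell) (bud bud2 : ℕ) : List (List Cell) :=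
  if decide (init.length ≤ e - 1) && init.all (inTypes p c C cong) then
    cols p e c C cong init bud bud2 else []

/-- The members of degree prime to `p`. -/
def offP (p : ℕ) (l : List Cell) : List Cell := l.filter fun k => k.1 % p != 0

/-- The members of degree divisible by `p`. -/
def onP (p : ℕ) (l : List Cell) : List Cell := l.filter fun k => k.1 % p == 0

/-- The members of degree congruent to `±1`. -/
def pmP (p : ℕ) (l : List Cell) : List Cell := l.filter fun k => k.1 % p == 1 || k.1 % p == p - 1

/-- The columns of the principal 11-block compatible with given members `b`. -/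
def elevenCols (C : ℕ) (b : List Cell) : List (List Cell) :=
  if (offP 11 b).all fun k => [1, 10, 5, 6].contains (k.1 % 11) then
    (colsI 11 5 1 C false (pmP 11 (offP 11 b)) (C - nsq (onP 11 b)) (ord - dsq (onP 11 b))).filter
      (subL (offP 11 b))
  else []

/-- No column of the principal 5-block fits the given members. -/
def thirdFive (C : ℕ) (U : List Cell) : Bool :=
  !((offP 5 U).all (fun k => k.1 % 5 == 1 || k.1 % 5 == 4) && decide ((offP 5 U).length ≤ 4)) ||
    (colsI 5 4 1 C false ((offP 5 U).take 3) (C - nsq (onP 5 U)) (ord - dsq (onP 5 U))).all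
      fun ct => !subL (offP 5 U) ct

/-- No column of the principal 7-block fits the given members. -/
def thirdSeven (C : ℕ) (U : List Cell) : Bool :=
  !((offP 7 U).all fun k => [1, 6, 3, 4].contains (k.1 % 7)) ||
    (colsI 7 3 1 C false (pmP 7 (offP 7 U)) (C - nsq (onP 7 U)) (ord - dsq (onP 7 U))).all
      fun ct => !subL (offP 7 U) ct

/-- The check at a central involution of the centralizer of a Sylow `p`-subgroup, `p` five or
seven. -/
def pairChk (p e c C : ℕ) (pat : List (List ℕ)) : Bool :=
  C % 11 == 0 || !sylok C p e c ||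
    (cols p e c C true [] C ord).all fun b => (elevenCols C b).all fun a =>
      (pat.any fun P => (a.map Prod.fst).isPerm P) &&
        if p == 5 then C % 7 == 0 || thirdSeven C (a ++ onP 11 b)
        else C % 5 == 0 || thirdFive C (a ++ onP 11 b)

/-- No column at a central involution of the centralizer of a Sylow `p`-subgroup. -/
def noneChk (p e c C : ℕ) : Bool := !sylok C p e c || (cols p e c C true [] C ord).isEmpty

/-- The possible pairs of degrees in a block with `e = 2`. -/
def pairDegs (p c : ℕ) : List (ℕ × ℕ) :=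
  (degList.filter (okd p c)).filterMap fun d =>
    let S : ℤ := 1 + sgn p d * (d : ℤ)
    if decide (1 < S.natAbs) && ord % S.natAbs == 0 &&
        ((S.natAbs : ℤ) - (if 0 ≤ S then (1 : ℤ) else -1) * 2) % (p : ℤ) == 0 then
      some (d, S.natAbs) else none

/-- The nontrivial characters at a central involution, a degree and the value. -/
def finalCells : List Cell :=
  [(21, 5), (45, -3), (45, -3), (55, 7), (99, 3), (154, 10), (210, 2), (231, 7), (280, -8),
    (280, -8)]

/-- The check of the three blocks at a central involution. -/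
def finalChk (C : ℕ) : Bool :=
  (cols 7 3 1 C false [] C ord).all fun b => (elevenCols C b).all fun a =>
    !subL (offP 7 a) b ||
      (let U := a ++ onP 11 b
       !((offP 5 U).all (fun k => k.1 % 5 == 1 || k.1 % 5 == 4) &&
          decide ((offP 5 U).length ≤ 4)) ||
        (colsI 5 4 1 C false ((offP 5 U).take 3) (C - nsq (onP 5 U)) (ord - dsq (onP 5 U))).all
          fun ct => !subL (offP 5 U) ct || !subL (offP 11 ct) a || !subL (offP 7 ct) b ||
            (C == 384 && (U ++ onP 11 (onP 7 ct)).isPerm finalCells))

/-- The degree patterns of the principal 11-block compatible with five. -/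
def patFive : List (List ℕ) := [[6, 6, 21, 21, 21, 56],
  [21, 21, 32, 32, 105, 105],
  [21, 21, 45, 56, 60, 60],
  [21, 21, 56, 105, 105, 120],
  [21, 21, 105, 105, 320, 384],
  [21, 56, 120, 126, 126, 210],
  [21, 60, 60, 144, 320, 384]]

/-- The degree patterns of the principal 11-block compatible with seven. -/
def patSeven : List (List ℕ) := [[5, 5, 12, 32, 120, 144],
  [5, 5, 12, 56, 56, 120],
  [10, 12, 12, 105, 105, 120],
  [10, 12, 45, 72, 72, 120],
  [10, 21, 45, 105, 105, 120],
  [10, 45, 60, 60, 120, 144],
  [21, 120, 210, 210, 280, 280]]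

end CfsgLib.Blocks.Order443520
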