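import Cfsg.Agent.Lib.Blocks.Order443520.Local

/-!
# The columns of the principal blocks at an involution are found by the search
-/

set_option autoImplicit false

namespace CfsgLib.Blocks.Order443520

open Cfsg CfsgLib CfsgLib.Char CfsgLib.CharIntegral CfsgLib.Blocks.PrimeSylow
open CfsgLib.Blocks.Order95040 (deg cent deg_cast deg_trivChar deg_eq_finrank)
open scoped Classical ComplexConjugate

variable {G : Type*} [Group G] [Fintype G]

theorem le_valueBound {C m : ℕ} (hm : m < 212) (h : m * m < C) : m < valueBound C := by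
  have hs : List.range (m + 1) ⊆
      (List.range 212).filter fun k => decide (k * k < C) := fun k hk => by
    rw [List.mem_range] at hk
    exact List.mem_filter.2 ⟨List.mem_range.2 (by omega), decide_eq_true
      (lt_of_le_of_lt (Nat.mul_le_mul (show k ≤ m by omega) (show k ≤ m by omega)) h)⟩
  have h1 := (List.nodup_range.subperm hs).length_le
  rw [List.length_range] at h1
  exact h1

theorem mem_valuesFor {d m : ℕ} {v : ℤ} (h1 : v.natAbs < d) (h2 : v.natAbs ≤ m) :
    v ∈ valuesFor d m := by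
  unfold valuesFor
  exact List.mem_map.2 ⟨(v + (min d m : ℕ)).toNat, List.mem_range.2 (by omega), by omega⟩

theorem mem_degList {d : ℕ} (h1 : 1 < d) (h2 : d ∣ ord) (h3 : d * d ≤ ord) : d ∈ degList := by
  refine List.mem_filter.2 ⟨List.mem_range.2 ?_, ?_⟩
  · by_contra hlt
    have := Nat.mul_le_mul (show 666 ≤ d by omega) (show 666 ≤ d by omega)
    unfold ord at h3
    omega
  · rw [Bool.and_eq_true, decide_eq_true_eq, beq_iff_eq]
    exact ⟨h1, Nat.mod_eq_zero_of_dvd h2⟩

theorem sgn_eq {p d : ℕ} (hp : 3 ≤ p) {ε : ℤ} (hε : ε = 1 ∨ ε = -1)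
    (hm : (d : ℤ) ≡ ε [ZMOD p]) :
    ε = sgn p d ∧ (d % p = 1 ∨ d % p = p - 1) := by
  unfold Int.ModEq at hm
  rw [← Int.natCast_mod] at hm
  rcases hε with rfl | rfl
  · rw [Int.emod_eq_of_lt (a := (1 : ℤ)) (by omega) (by omega)] at hm
    have : d % p = 1 := by exact_mod_cast hm
    simp [sgn, this]
  · have e : ((-1 : ℤ) % (p : ℤ)) = (p : ℤ) - 1 := by
      rw [← Int.add_emod_right (-1 : ℤ), Int.emod_eq_of_lt (by omega) (by omega)]
      ring
    rw [e] at hm
    have h1 : d % p = p - 1 := by omega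
    have h2 : d % p ≠ 1 := by omega
    exact ⟨by simp [sgn, h2], Or.inr h1⟩

theorem inTypes_of_mem {p c C : ℕ} {cong : Bool} {t : Cell} (h : t ∈ types p c C cong) :
    inTypes p c C cong t = true := by
  obtain ⟨h1, h2, h3⟩ := mem_types.1 h
  rw [degList, List.mem_filter, List.mem_range, Bool.and_eq_true, decide_eq_true_eq,
    beq_iff_eq] at h1
  simp only [inTypes, Bool.and_eq_true, decide_eq_true_eq, beq_iff_eq, List.contains_iff_mem]
  exact ⟨⟨⟨⟨h1.2.1, h1.1⟩, h1.2.2⟩, h2⟩, h3⟩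

namespace Local

variable {p : ℕ}

/-- The nontrivial members. -/
noncomputable def nt (L : Local G p) : Finset (IrrCharacter G) :=
  (L.data.X ∪ L.data.Y).erase (trivChar G)

theorem triv_notMem_Y (L : Local G p) : trivChar G ∉ L.data.Y := fun h =>
  Finset.disjoint_left.1 L.data.disj L.triv h

theorem ne_triv_of_mem_nt (L : Local G p) {χ : IrrCharacter G} (h : χ ∈ L.nt) : χ ≠ trivChar G :=
  Finset.ne_of_mem_erase h

theorem nt_eq (L : Local G p) : L.nt = L.data.X.erase (trivChar G) ∪ L.data.Y := by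
  rw [nt, Finset.erase_union_distrib, Finset.erase_eq_of_notMem L.triv_notMem_Y]

theorem card_nt (L : Local G p) : L.nt.card + 1 = L.e + L.data.Y.card := by
  rw [nt, Finset.card_erase_of_mem (Finset.mem_union_left _ L.triv),
    Finset.card_union_of_disjoint L.data.disj, L.data.cardX]
  have : 0 < L.e := L.data.cardX ▸ Finset.card_pos.2 ⟨_, L.triv⟩
  omega

theorem cardY_eq (L : Local G p) (hp : 3 ≤ p) : L.data.Y.card = (p - 1) / L.e := by
  have h := L.data.cardY
  have h0 : 0 < L.e := Nat.pos_of_dvd_of_pos L.data.dvd_e (by omega)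
  rw [← h, Nat.mul_div_cancel _ h0]

theorem εX_triv (L : Local G p) (hp : 3 ≤ p) : L.data.εX (trivChar G) = 1 := by
  have h := sgn_eq (d := deg (trivChar G)) hp (L.data.sgnX _ L.triv) (L.data.modX _ L.triv)
  rw [deg_trivChar] at h
  rw [h.1]
  simp [sgn, Nat.mod_eq_of_lt (show 1 < p by omega)]

theorem εX_eq (L : Local G p) (hp : 3 ≤ p) {χ : IrrCharacter G} (hχ : χ ∈ L.data.X) :
    L.data.εX χ = sgn p (deg χ) ∧ (deg χ % p = 1 ∨ deg χ % p = p - 1) :=
  sgn_eq hp (L.data.sgnX χ hχ) (L.data.modX χ hχ)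

variable [IsSimpleGroup G] (hG : Nat.card G = ord)
include hG

omit [IsSimpleGroup G] in
theorem exists_mem_P (L : Local G p) : ∃ x ∈ L.P, x ≠ (1 : G) := by
  refine L.P.bot_or_exists_ne_one.resolve_left fun hb => ?_
  have := L.setup.card
  rw [hb, Subgroup.card_bot] at this
  exact L.setup.prime.ne_one this.symm

/-- A character constant on `x V` has degree dividing the index, and congruent value at `v`. -/
theorem of_const [Fact p.Prime] (hp : p = 5 ∨ p = 7 ∨ p = 11) (L : Local G p)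
    {χ : IrrCharacter G} (hne : χ ≠ trivChar G) {c : ℤ} (hc : c = 1 ∨ c = -1)
    (hv : ∀ x ∈ L.P, x ≠ 1 → ∀ v ∈ L.V, (χ : G → ℂ) (x * v) = (c : ℂ)) :
    ord / (p * Nat.card L.V) % deg χ = 0 ∧ (Nat.card L.V = 1 ∨ p ≤ deg χ) ∧
      ∀ s ∈ L.V, orderOf s = 2 → (ival s χ - (deg χ : ℤ)) % (p : ℤ) = 0 := by
  obtain ⟨x, hx, hx1⟩ := L.exists_mem_P hG
  have hpr : p.Prime := Fact.out
  obtain ⟨n, ρ, hρ, hρc'⟩ := χ.2
  have hρc := hρc'.symm
  have hfr : Module.finrank ℂ (Fin n → ℂ) = deg χ := by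
    rw [Module.finrank_fin_fun, deg_eq_finrank hρc]
  have mult : ∀ (r : ℕ), r.Prime → p ≠ r → ∀ v ∈ L.V, v ^ r = 1 →
      ∃ (μ : Fin (Module.finrank ℂ (Fin n → ℂ)) → ℂ)
        (b : Module.Basis (Fin (Module.finrank ℂ (Fin n → ℂ))) ℂ (Fin n → ℂ)),
        (∀ i, ρ v (b i) = μ i • b i) ∧ (∀ i, μ i ^ r = 1) ∧ ρ.character v = ∑ i, μ i ∧
        ∀ ζ : ℂ, ζ ≠ 1 → p ∣ (Finset.univ.filter fun i => μ i = ζ).card := fun r hr hpr' v hv' hvr =>
    Order7920.dvd_multiplicity ρ hpr hr hpr' (L.setup.pow_eq_one hx) hx1 hvr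
      (L.setup.commute hx hv') (c := (c : ℂ)) fun i j hi => by
        rw [← hρc]
        exact hv _ (Subgroup.pow_mem _ hx i) hi _ (Subgroup.pow_mem _ hv' j)
  refine ⟨?_, ?_, fun s hs hs2 => ?_⟩
  · have hcent : cent x = p * Nat.card L.V := by
      show Nat.card (Subgroup.centralizer ({x} : Set G)) = _
      rw [L.setup.centralizer_singleton hx hx1, L.setup.card_centralizer]
    have h1 : (χ : G → ℂ) x = (c : ℂ) := by
      have := hv x hx hx1 1 (one_mem _)
      rwa [mul_one] at this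
    have h2 := dvd_index_mul χ h1
    rw [hcent, hG] at h2
    refine Nat.mod_eq_zero_of_dvd (Int.natCast_dvd_natCast.1 ?_)
    rcases hc with rfl | rfl
    · rwa [mul_one] at h2
    · rwa [mul_neg_one, dvd_neg] at h2
  · by_contra hcon
    rw [not_or, not_le] at hcon
    obtain ⟨r, hr, hrd⟩ := Nat.exists_prime_and_dvd hcon.1
    have := Fact.mk hr
    obtain ⟨v, hvo⟩ := exists_prime_orderOf_dvd_card' (G := L.V) r hrd
    have hvo' : orderOf (v : G) = r := by rw [Subgroup.orderOf_coe, hvo]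
    have hpr' : p ≠ r := fun e => L.setup.not_dvd_orderOf v.2 (by rw [hvo', e])
    obtain ⟨μ, b, hb, -, -, hdvd⟩ := mult r hr hpr' v v.2 (hvo' ▸ pow_orderOf_eq_one (v : G))
    have hone : ∀ i, μ i = 1 := fun i => by
      by_contra hne1
      have h1 := Nat.le_of_dvd (Finset.card_pos.2
        ⟨i, (Finset.mem_filter.2 ⟨Finset.mem_univ i, rfl⟩ :
          i ∈ Finset.univ.filter fun j => μ j = μ i)⟩) (hdvd _ hne1)
      have h2 := (Finset.univ.filter fun j => μ j = μ i).card_le_univ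
      rw [Fintype.card_fin] at h2
      omega
    have hρv : ρ (v : G) = 1 := b.ext fun i => by rw [hb i, hone i, one_smul]; rfl
    have h1 : (v : G) = 1 := faithful (perfect hG) hne (by
      rw [hρc, Representation.character, Representation.character, hρv, map_one ρ])
    rw [h1, orderOf_one] at hvo'
    exact hr.ne_one hvo'.symm
  · obtain ⟨μ, b, -, hμ2, hμv, hdvd⟩ := mult 2 Nat.prime_two
      (by rcases hp with rfl | rfl | rfl <;> norm_num) s hs (hs2 ▸ pow_orderOf_eq_one s)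
    set S := Finset.univ.filter fun i => μ i = (-1 : ℂ) with hS
    obtain ⟨k, hk⟩ := hdvd (-1) (by norm_num)
    rw [← hS] at hk
    have hval : (χ : G → ℂ) s = (((deg χ : ℤ) - 2 * S.card : ℤ) : ℂ) := by
      rw [hρc, hμv]
      have h2e : ∀ i, μ i = 1 + (if i ∈ S then (-2 : ℂ) else 0) := fun i => by
        split_ifs with hi
        · rw [(Finset.mem_filter.1 hi).2]; norm_num
        · rcases sq_eq_one_iff.1 (hμ2 i) with e1 | e1
          · rw [e1, add_zero]
          · exact absurd (Finset.mem_filter.2 ⟨Finset.mem_univ i, e1⟩) hi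
      rw [Finset.sum_congr rfl fun i _ => h2e i, Finset.sum_add_distrib, Finset.sum_ite_mem,
        Finset.univ_inter, Finset.sum_const, Finset.sum_const, Finset.card_univ, Fintype.card_fin,
        nsmul_eq_mul, nsmul_eq_mul, mul_one,
        show ((Module.finrank ℂ (Fin n → ℂ) : ℕ) : ℂ) = (deg χ : ℂ) by rw [hfr]]
      push_cast
      ring
    rw [ival_eq hval, hk]
    push_cast
    exact Int.emod_eq_zero_of_dvd ⟨-(2 * (k : ℤ)), by ring⟩

theorem ival_spec {s : G} (hs : orderOf s = 2) (χ : IrrCharacter G) :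
    (χ : G → ℂ) s = (ival s χ : ℂ) ∧ ((deg χ : ℤ) - ival s χ) % 4 = 0 ∧
      (χ ≠ trivChar G → (ival s χ).natAbs < deg χ) := by
  obtain ⟨v, h1, h2, h3⟩ := value_involution (perfect hG) hs χ
  rw [ival_eq h1]
  exact ⟨h1, h2, h3⟩

omit [IsSimpleGroup G] hG in
theorem ival_triv (s : G) : ival s (trivChar G) = 1 :=
  ival_eq (by rw [trivChar_apply, Int.cast_one])

theorem sum_sq_le {s : G} (hs : orderOf s = 2) {S : Finset (IrrCharacter G)}
    (hS : trivChar G ∉ S) :
    1 + ∑ χ ∈ S, (ival s χ).natAbs * (ival s χ).natAbs ≤ cent s ∧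
      1 + ∑ χ ∈ S, deg χ * deg χ ≤ ord := by
  have h1 := Order95040.sum_sq_le_cent (g := s) (insert (trivChar G) S) (ival s)
    fun χ _ => (ival_spec hG hs χ).1
  have h2 := Order95040.sum_sq_deg_le (insert (trivChar G) S)
  rw [Finset.sum_insert hS, ival_triv] at h1
  rw [Finset.sum_insert hS, deg_trivChar, hG] at h2
  exact ⟨by simpa using h1, by simpa using h2⟩

theorem okv_cell {s : G} (hs : orderOf s = 2) {χ : IrrCharacter G} (hne : χ ≠ trivChar G) :
    okv (cent s) (deg χ) (ival s χ) = true ∧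
      (ival s χ).natAbs ≤ valueBound (cent s) := by
  obtain ⟨hv, h4, hlt⟩ := ival_spec hG hs χ
  have hsq := (sum_sq_le hG hs (S := {χ}) (by simpa using hne.symm)).1
  rw [Finset.sum_singleton] at hsq
  have hle := cent_le hG (g := s) fun e => by simp [e] at hs
  have h212 : (ival s χ).natAbs < 212 := by
    by_contra hge
    have := Nat.mul_le_mul (show 212 ≤ (ival s χ).natAbs by omega)
      (show 212 ≤ (ival s χ).natAbs by omega)
    omega
  refine ⟨?_, (le_valueBound h212 (by omega)).le⟩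
  simp only [okv, Bool.and_eq_true, beq_iff_eq, decide_eq_true_eq]
  refine ⟨⟨⟨h4, hlt hne⟩, by omega⟩, Int.emod_eq_zero_of_dvd ?_⟩
  have := dvd_index_mul χ hv
  rwa [hG] at this

theorem deg_mem {χ : IrrCharacter G} (hne : χ ≠ trivChar G) : deg χ ∈ degList :=
  mem_degList (one_lt_deg (perfect hG) hne) (hG ▸ deg_dvd_card χ) (hG ▸ deg_sq_le χ)

theorem cell_mem_types [Fact p.Prime] (hp : p = 5 ∨ p = 7 ∨ p = 11) (L : Local G p) {s : G}
    (hs : orderOf s = 2) {cong : Bool} (hcong : cong = true → s ∈ L.V) {χ : IrrCharacter G}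
    (hχ : χ ∈ L.data.X.erase (trivChar G)) :
    cell s χ ∈ types p (Nat.card L.V) (cent s) cong := by
  obtain ⟨hne, hX⟩ := Finset.mem_erase.1 hχ
  have hp3 : 3 ≤ p := by rcases hp with rfl | rfl | rfl <;> norm_num
  obtain ⟨hsg, hres⟩ := L.εX_eq hp3 hX
  obtain ⟨h1, h2, h3⟩ := L.of_const hG hp hne (L.data.sgnX χ hX) (L.data.valX χ hX)
  refine mem_types.2 ⟨deg_mem hG hne, ?_, ?_⟩
  · simp only [okd, cell, Bool.and_eq_true, Bool.or_eq_true, beq_iff_eq, decide_eq_true_eq]
    exact ⟨⟨hres, h1⟩, h2.imp id decide_eq_true⟩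
  · refine List.mem_filter.2 ⟨mem_valuesFor ((ival_spec hG hs χ).2.2 hne)
      (okv_cell hG hs hne).2, ?_⟩
    simp only [cell, Bool.and_eq_true, Bool.or_eq_true, beq_iff_eq, Bool.not_eq_true']
    refine ⟨(okv_cell hG hs hne).1, ?_⟩
    cases cong
    · exact Or.inl rfl
    · refine Or.inr (Int.emod_eq_zero_of_dvd ?_)
      have e1 := Int.dvd_of_emod_eq_zero (h3 s (hcong rfl) hs)
      have e2 := Int.modEq_iff_dvd.1 (L.data.modX χ hX)
      rw [hsg] at e2
      have e3 := dvd_sub e1 e2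
      rwa [show ival s χ - (deg χ : ℤ) - (sgn p (deg χ) - (deg χ : ℤ)) =
        ival s χ - sgn p (deg χ) by ring] at e3

theorem sameY_val [Fact p.Prime] (hp : p = 5 ∨ p = 7 ∨ p = 11) (L : Local G p) {s : G}
    (hs : orderOf s = 2) {θ θ' : IrrCharacter G} (hθ : θ ∈ L.data.Y) (hθ' : θ' ∈ L.data.Y) :
    cell s θ' = cell s θ := by
  have hsp : ¬ p ∣ orderOf s := by rw [hs]; rcases hp with rfl | rfl | rfl <;> norm_num
  have h1 : ¬ p ∣ orderOf (1 : G) := by rw [orderOf_one]; exact (Fact.out : p.Prime).not_dvd_one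
  have e1 := L.data.sameY θ' hθ' θ hθ s hsp
  rw [(ival_spec hG hs θ').1, (ival_spec hG hs θ).1] at e1
  have e2 := L.data.sameY θ' hθ' θ hθ 1 h1
  rw [deg_cast, deg_cast] at e2
  exact Prod.ext (by exact_mod_cast e2) (by exact_mod_cast e1)

/-- The nontrivial members form a column. -/
theorem isCol [Fact p.Prime] (hp : p = 5 ∨ p = 7 ∨ p = 11) (L : Local G p) {s : G}
    (hs : orderOf s = 2) {cong : Bool} (hcong : cong = true → s ∈ L.V) {θ : IrrCharacter G}
    (hθ : θ ∈ L.data.Y) :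
    IsCol p L.e (Nat.card L.V) (cent s) cong ((L.data.X.erase (trivChar G)).val.map (cell s))
        (cell s θ) L.data.ε ∧
      colCells p L.e ((L.data.X.erase (trivChar G)).val.map (cell s)) (cell s θ) =
        L.nt.val.map (cell s) := by
  have hp3 : 3 ≤ p := by rcases hp with rfl | rfl | rfl <;> norm_num
  have hθne : θ ≠ trivChar G := fun e => L.triv_notMem_Y (e ▸ hθ)
  have hsp : ¬ p ∣ orderOf s := by rw [hs]; rcases hp with rfl | rfl | rfl <;> norm_num
  have := Fintype.ofFinite (IrrCharacter G)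
  refine ⟨⟨?_, fun t ht => ?_, L.data.sgnY, one_lt_deg (perfect hG) hθne,
    Nat.mod_eq_zero_of_dvd (hG ▸ deg_dvd_card θ), ?_, (okv_cell hG hs hθne).1, ?_, ?_, ?_, ?_⟩, ?_⟩
  · rw [Multiset.card_map, ← Finset.card_def, Finset.card_erase_of_mem L.triv, L.data.cardX]
  · obtain ⟨χ, hχ, rfl⟩ := Multiset.mem_map.1 ht
    exact L.cell_mem_types hG hp hs hcong hχ
  · exact Int.emod_eq_zero_of_dvd (Int.modEq_iff_dvd.1 (L.data.modY θ hθ).symm)
  · show L.data.ε * (deg θ : ℤ) = _
    rw [L.data.deg_rel hθ, ← Finset.add_sum_erase _ _ L.triv, L.εX_triv hp3, deg_trivChar,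
      Multiset.map_map]
    refine congrArg₂ (· + ·) (by norm_num) (Finset.sum_congr rfl fun χ hχ => ?_)
    simp only [Function.comp, cell]
    rw [(L.εX_eq hp3 (Finset.mem_of_mem_erase hχ)).1]
  · show L.data.ε * ival s θ = _
    have h1 := L.data.rel θ hθ s hsp
    simp only [fun χ => (ival_spec hG hs χ).1] at h1
    have h2 : L.data.ε * ival s θ = ∑ χ ∈ L.data.X, L.data.εX χ * ival s χ := by exact_mod_cast h1
    rw [h2, ← Finset.add_sum_erase _ _ L.triv, L.εX_triv hp3, ival_triv, one_mul, Multiset.map_map]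
    refine congrArg (1 + ·) (Finset.sum_congr rfl fun χ hχ => ?_)
    simp only [Function.comp, cell]
    rw [(L.εX_eq hp3 (Finset.mem_of_mem_erase hχ)).1]
  · intro h1
    have hY1 : L.data.Y.card = 1 := (L.cardY_eq hp3).trans h1
    have hv : ∀ x ∈ L.P, x ≠ 1 → ∀ v ∈ L.V, (θ : G → ℂ) (x * v) = ((-L.data.ε : ℤ) : ℂ) :=
      fun x hx hx1 v hv => by rw [L.data.valY hY1 θ hθ x hx hx1 v hv, Int.cast_neg]
    obtain ⟨a1, a2, a3⟩ := L.of_const hG hp hθne
      (by rcases L.data.sgnY with h | h <;> simp [h]) hv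
    refine ⟨a1, a2, fun hc => Int.emod_eq_zero_of_dvd ?_⟩
    have e1 := Int.dvd_of_emod_eq_zero (a3 s (hcong hc) hs)
    have e2 := Int.modEq_iff_dvd.1 (L.data.modY θ hθ)
    have hed : (p : ℤ) ∣ (L.e : ℤ) + 1 := by
      have he : L.e = p - 1 := by
        have h2 := L.data.cardY
        rwa [hY1, one_mul] at h2
      exact ⟨1, by omega⟩
    have e3 := dvd_sub e1 (dvd_sub e2 (hed.mul_left L.data.ε))
    rwa [show ival s θ - (deg θ : ℤ) - (L.data.ε * (L.e : ℤ) - (deg θ : ℤ) -
      L.data.ε * ((L.e : ℤ) + 1)) = ival s θ + L.data.ε by ring] at e3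
  · obtain ⟨j, hj, hj0, he⟩ := pairs_equation L.setup hp3 L.data L.card_normalizer hs hθ
    refine ⟨j, hj, fun h => hj0 (Nat.odd_iff.2 h), ?_⟩
    rw [hG, index_eq hG] at he
    rw [Multiset.map_map]
    have key : ∀ χ : IrrCharacter G, ((ord / deg χ : ℕ) : ℂ) = (ord : ℂ) / (χ : G → ℂ) 1 :=
      fun χ => by
        rw [deg_cast, Nat.cast_div (hG ▸ deg_dvd_card χ)
          (Nat.cast_ne_zero.2 (charDegree_pos χ).ne')]
    refine @Int.cast_injective ℂ _ _ _ _ ?_
    show ((_ : ℤ) : ℂ) = _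
    have hsum : (((L.data.X.erase (trivChar G)).val.map
        ((fun t : Cell => sgn p t.1 * (t.2 * t.2) * ((ord / t.1 : ℕ) : ℤ)) ∘ cell s)).sum : ℤ) =
        ∑ χ ∈ L.data.X.erase (trivChar G),
          sgn p (deg χ) * (ival s χ * ival s χ) * ((ord / deg χ : ℕ) : ℤ) := rfl
    rw [hsum]
    simp only [cell, Int.cast_mul, Int.cast_add, Int.cast_sub, Int.cast_sum, Int.cast_natCast]
    have hne : (θ : G → ℂ) 1 ≠ 0 := IsIrr.apply_one_ne_zero θ.2
    have hS : (ord : ℂ) * ∑ χ ∈ L.data.X,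
        (L.data.εX χ : ℂ) * ((χ : G → ℂ) s ^ 2 / (χ : G → ℂ) 1) =
        (ord : ℂ) + ∑ χ ∈ L.data.X.erase (trivChar G),
          (sgn p (deg χ) : ℂ) * ((ival s χ : ℂ) * (ival s χ : ℂ)) *
            ((ord / deg χ : ℕ) : ℂ) := by
      rw [Finset.mul_sum, ← Finset.add_sum_erase _ _ L.triv, L.εX_triv hp3, trivChar_apply,
        trivChar_apply]
      refine congrArg₂ (· + ·) (by norm_num) (Finset.sum_congr rfl fun χ hχ => ?_)
      rw [(L.εX_eq hp3 (Finset.mem_of_mem_erase hχ)).1, key χ, (ival_spec hG hs χ).1]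
      ring
    rw [key θ]
    rw [(ival_spec hG hs θ).1] at he
    push_cast at he
    linear_combination (-(ord : ℂ)) * he -
      (((ord / cent s : ℕ) : ℂ) ^ 2 * (Nat.card L.V : ℂ)) * hS
  · rw [colCells, L.nt_eq, ← L.cardY_eq hp3]
    rw [← Finset.disjUnion_eq_union _ _
      (Finset.disjoint_of_subset_left (Finset.erase_subset _ _) L.data.disj),
      Finset.disjUnion_val, Multiset.map_add]
    congr 1
    exact (Multiset.eq_replicate.2 ⟨by rw [Multiset.card_map]; rfl, fun t ht => by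
      obtain ⟨θ', hθ', rfl⟩ := Multiset.mem_map.1 ht
      exact L.sameY_val hG hp hs hθ hθ'⟩).symm

/-- The column is found, within the budgets left by other characters. -/
theorem exists_col [Fact p.Prime] (hp : p = 5 ∨ p = 7 ∨ p = 11) (L : Local G p) {s : G}
    (hs : orderOf s = 2) {cong : Bool} (hcong : cong = true → s ∈ L.V) {init : List Cell}
    (hinit : (init : Multiset Cell) ≤ (L.data.X.erase (trivChar G)).val.map (cell s))
    {O : Finset (IrrCharacter G)} (hO : Disjoint O (L.data.X ∪ L.data.Y)) :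
    ∃ l ∈ colsI p L.e (Nat.card L.V) (cent s) cong init
        (cent s - ∑ χ ∈ O, (ival s χ).natAbs * (ival s χ).natAbs)
        (ord - ∑ χ ∈ O, deg χ * deg χ),
      (l : Multiset Cell) = L.nt.val.map (cell s) := by
  obtain ⟨θ, hθ⟩ : L.data.Y.Nonempty := by
    rw [← Finset.card_pos]
    have h := L.data.cardY
    have := L.setup.prime.two_le
    by_contra h0
    rw [Nat.eq_zero_of_not_pos h0, zero_mul] at h
    omega
  obtain ⟨hcol, hcells⟩ := L.isCol hG hp hs hcong hθ
  have hd : Disjoint L.nt O := (hO.mono_right (Finset.erase_subset _ _)).symm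
  have ht : trivChar G ∉ L.nt ∪ O := fun h => by
    rcases Finset.mem_union.1 h with h | h
    · exact L.ne_triv_of_mem_nt h rfl
    · exact Finset.disjoint_left.1 hO h (Finset.mem_union_left _ L.triv)
  obtain ⟨b1, b2⟩ := sum_sq_le hG hs ht
  rw [Finset.sum_union hd] at b1 b2
  have hg : (decide (init.length ≤ L.e - 1) &&
      init.all (inTypes p (Nat.card L.V) (cent s) cong)) = true := by
    rw [Bool.and_eq_true, decide_eq_true_eq, List.all_eq_true]
    refine ⟨?_, fun t ht => inTypes_of_mem ?_⟩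
    · have h1 := Multiset.card_le_card hinit
      rwa [Multiset.coe_card, hcol.card] at h1
    · exact hcol.mem t (Multiset.mem_of_le hinit (Multiset.mem_coe.2 ht))
  rw [colsI, if_pos hg]
  obtain ⟨l, hl, hlm⟩ := cols_sound hcol hinit
    (bud := cent s - ∑ χ ∈ O, (ival s χ).natAbs * (ival s χ).natAbs)
    (bud2 := ord - ∑ χ ∈ O, deg χ * deg χ)
    (by rw [hcells, Multiset.map_map]; simp only [Finset.sum] at b1 ⊢
        simp only [Function.comp_def, cell]; omega)
    (by rw [hcells, Multiset.map_map]; simp only [Finset.sum] at b2 ⊢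
        simp only [Function.comp_def, cell]; omega)
  exact ⟨l, hl, hlm.trans hcells⟩

end Local

end CfsgLib.Blocks.Order443520
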