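import Cfsg.Agent.Lib.Blocks.Order443520.Degree
import Cfsg.Agent.Lib.Blocks.Order443520.BitsLemmas
import Mathlib.GroupTheory.Perm.Cycle.Type

/-!
# Standard coordinates for the representation of degree ten

The element of order eleven has the companion matrix of the cyclotomic polynomial, the element of
order five triples the exponents.
-/

set_option autoImplicit false

namespace CfsgLib.Blocks.Order443520

open Cfsg CfsgLib CfsgLib.Char CfsgLib.CharIntegral CfsgLib.Blocks.PrimeSylow Matrix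
open CfsgLib.Blocks.Order95040 (deg cent)
open scoped Classical

theorem conj_pow_inv {G : Type*} [Group G] (a g : G) (i : ℕ) :
    (g⁻¹ * a * g) ^ i = g⁻¹ * a ^ i * g := by
  simpa using (conj_pow (a := g⁻¹) (b := a) (i := i))

theorem two_pow_eleven {d : ℕ} (hd : d ≤ 10) (h : 2 ^ d % 11 = 1) : d = 0 ∨ d = 10 := by
  have key : ∀ d < 11, 2 ^ d % 11 = 1 → d = 0 ∨ d = 10 := by decide
  exact key d (by omega) h

/-- The number of vectors of an invariant subspace fixed by a matrix of prime power order. -/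
theorem card_fixed_modEq {p : ℕ} [Fact p.Prime] {Z : Matrix (Fin 10) (Fin 10) (ZMod 2)}
    (hZ : Z ^ p = 1) (T : Submodule (ZMod 2) (Fin 10 → ZMod 2)) (hT : ∀ x ∈ T, x ᵥ* Z ∈ T)
    (h0 : ∀ x ∈ T, x ᵥ* Z = x → x = 0) : 2 ^ Module.finrank (ZMod 2) T % p = 1 := by
  let f : Function.End T := fun x => ⟨x.1 ᵥ* Z, hT _ x.2⟩
  have hpow : ∀ k, ∀ x : T, ((f ^ k) x).1 = x.1 ᵥ* Z ^ k := by
    intro k
    induction k with
    | zero => intro x; rw [pow_zero Z, Matrix.vecMul_one]; rfl
    | succ k ih =>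
      intro x
      rw [pow_succ' f, pow_succ, ← Matrix.vecMul_vecMul, ← ih x]
      rfl
  have hf : f ^ p ^ 1 = 1 := by
    funext x
    exact Subtype.ext (by rw [hpow, pow_one, hZ, Matrix.vecMul_one]; rfl)
  have h := Equiv.Perm.card_fixedPoints_modEq hf
  have hone : Fintype.card (Function.fixedPoints f) = 1 := by
    rw [Fintype.card_eq_one_iff]
    refine ⟨⟨0, Subtype.ext (Matrix.zero_vecMul Z)⟩, fun y => Subtype.ext (Subtype.ext ?_)⟩
    exact h0 _ y.1.2 (congrArg Subtype.val y.2)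
  rw [hone, ← Nat.card_eq_fintype_card, Module.natCard_eq_pow_finrank (K := ZMod 2),
    Nat.card_zmod, Nat.ModEq, Nat.one_mod_eq_one.2 (Fact.out : p.Prime).ne_one] at h
  exact h

/-- The coordinates of the basis vector with given exponent. -/
def cyc (k : ℕ) : Fin 10 → ZMod 2 :=
  if h : k % 11 < 10 then Pi.single ⟨k % 11, h⟩ 1 else fun _ => 1

theorem toMat_zP : toMat zP = Matrix.of fun i : Fin 10 => cyc ((i : ℕ) + 1) := by decide +kernel

theorem toMat_hP : toMat hP = Matrix.of fun i : Fin 10 => cyc (3 * (i : ℕ)) := by decide +kernel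

/-- Coordinates in which the two elements have the standard matrices. -/
theorem exists_coords {G : Type*} [Group G] (φ : G →* Matrix (Fin 10) (Fin 10) (ZMod 2))
    {z h : G} (hz : z ^ 11 = 1) (hh : h ^ 5 = 1) (hhz : h⁻¹ * z * h = z ^ 3) (hz1 : φ z ≠ 1) :
    ∃ ψ : G →* Matrix (Fin 10) (Fin 10) (ZMod 2), ψ z = toMat zP ∧ ψ h = toMat hP := by
  have : Fact (Nat.Prime 5) := ⟨Nat.prime_five⟩
  have : Fact (Nat.Prime 11) := ⟨by norm_num⟩
  obtain ⟨Z, hZdef⟩ : ∃ Z, φ z = Z := ⟨_, rfl⟩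
  obtain ⟨H, hHdef⟩ : ∃ H, φ h = H := ⟨_, rfl⟩
  rw [hZdef] at hz1
  have hZ : Z ^ 11 = 1 := by rw [← hZdef, ← map_pow, hz, map_one]
  have hH : H ^ 5 = 1 := by rw [← hHdef, ← map_pow, hh, map_one]
  have hmod : ∀ k, Z ^ k = Z ^ (k % 11) := fun k => pow_eq_pow_mod k hZ
  have hcomm : ∀ i : ℕ, Z ^ i * H = H * Z ^ (3 * i) := fun i => by
    rw [← hZdef, ← hHdef, ← map_pow, ← map_pow, ← map_mul, ← map_mul, pow_mul, ← hhz]
    congr 1
    rw [conj_pow_inv]; group
  obtain ⟨F, hF⟩ : ∃ F, LinearMap.ker (Z.vecMulLinear - LinearMap.id) = F := ⟨_, rfl⟩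
  have hmemF : ∀ x, x ∈ F ↔ x ᵥ* Z = x := fun x => by
    simp [← hF, LinearMap.mem_ker, sub_eq_zero]
  have hfree : ∀ x, x ᵥ* Z = x → x = 0 := by
    intro x hx
    let f : Function.End (Fin 10 → ZMod 2) := fun x => x ᵥ* Z
    have hpow : ∀ k, ∀ x, (f ^ k) x = x ᵥ* Z ^ k := by
      intro k
      induction k with
      | zero => intro x; rw [pow_zero Z, Matrix.vecMul_one]; rfl
      | succ k ih =>
        intro x
        rw [pow_succ' f, pow_succ, ← Matrix.vecMul_vecMul, ← ih x]
        rfl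
    have hf : f ^ 11 ^ 1 = 1 := by
      funext x
      rw [hpow, pow_one, hZ, Matrix.vecMul_one]; rfl
    have h := Equiv.Perm.card_fixedPoints_modEq hf
    have e : Fintype.card (Function.fixedPoints f) = 2 ^ Module.finrank (ZMod 2) F := by
      rw [← Nat.card_eq_fintype_card]
      refine (Nat.card_congr (β := F) (Equiv.subtypeEquivRight
        fun x => ((hmemF x).trans Iff.rfl).symm)).trans ?_
      rw [Module.natCard_eq_pow_finrank (K := ZMod 2), Nat.card_zmod]
    rw [e, Fintype.card_fun, ZMod.card, Fintype.card_fin, Nat.ModEq,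
      show 2 ^ 10 % 11 = 1 from rfl] at h
    have hle := Submodule.finrank_le F
    rw [Module.finrank_fin_fun] at hle
    rcases two_pow_eleven hle h.symm with h0 | h0
    · have hxF := (hmemF x).2 hx
      rwa [Submodule.finrank_eq_zero.1 h0, Submodule.mem_bot] at hxF
    · exfalso
      refine hz1 (Matrix.ext_of_single_vecMul fun i => ?_)
      rw [Matrix.vecMul_one, ← hmemF, Submodule.eq_top_of_finrank_eq (S := F)
        (by rw [h0, Module.finrank_fin_fun])]
      trivial
  obtain ⟨v, hv0, hvH⟩ : ∃ v, v ≠ 0 ∧ v ᵥ* H = v := by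
    by_contra hno
    push Not at hno
    have := card_fixed_modEq hH ⊤ (fun _ _ => trivial)
      fun x _ hx => by_contra fun hx0 => hno x hx0 hx
    rw [finrank_top, Module.finrank_fin_fun] at this
    norm_num at this
  obtain ⟨w, hw⟩ : ∃ w : ℕ → Fin 10 → ZMod 2, ∀ k, w k = v ᵥ* Z ^ k :=
    ⟨fun k => v ᵥ* Z ^ k, fun k => rfl⟩
  have hw0 : w 0 = v := by rw [hw, pow_zero, Matrix.vecMul_one]
  have hwZ : ∀ k, w k ᵥ* Z = w (k + 1) := fun k => by
    rw [hw, hw, pow_succ, Matrix.vecMul_vecMul]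
  have hwmod : ∀ k, w k = w (k % 11) := fun k => by rw [hw, hw, ← hmod]
  have hsum : ∑ i : Fin 11, w (i : ℕ) = 0 := by
    refine hfree _ ?_
    rw [Matrix.sum_vecMul]
    refine Finset.sum_bij' (fun i _ => i + 1) (fun i _ => i - 1) (by simp) (by simp) (by simp)
      (by simp) fun i _ => ?_
    rw [hwZ, hwmod ((i : ℕ) + 1)]
    congr 1
  have hlast : w 10 = ∑ i : Fin 10, w (i : ℕ) := by
    rw [Fin.sum_univ_castSucc] at hsum
    exact ((neg_eq_of_add_eq_zero_left hsum).symm.trans (funext fun k => by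
      rw [Pi.neg_apply, CharTwo.neg_eq]; rfl)).symm
  let P : Matrix (Fin 10) (Fin 10) (ZMod 2) := Matrix.of fun i => w (i : ℕ)
  have hcycP : ∀ k, cyc k ᵥ* P = w k := by
    intro k
    rw [hwmod k, cyc]
    split_ifs with h
    · rw [Matrix.single_one_vecMul]; rfl
    · rw [show k % 11 = 10 by omega, hlast]
      funext j
      simp [Matrix.vecMul, dotProduct, P]
  have hspan : Submodule.span (ZMod 2) (Set.range fun i : Fin 10 => w (i : ℕ)) = ⊤ := by
    set U := Submodule.span (ZMod 2) (Set.range fun i : Fin 10 => w (i : ℕ)) with hU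
    have hmem : ∀ k, w k ∈ U := by
      intro k
      rw [hwmod]
      by_cases h : k % 11 < 10
      · exact Submodule.subset_span ⟨⟨k % 11, h⟩, rfl⟩
      · rw [show k % 11 = 10 by omega, hlast]
        exact Submodule.sum_mem _ fun i _ => Submodule.subset_span ⟨i, rfl⟩
    have hUZ : ∀ x ∈ U, x ᵥ* Z ∈ U := by
      intro x hx
      induction hx using Submodule.span_induction with
      | mem y hy => obtain ⟨i, rfl⟩ := hy; rw [hwZ]; exact hmem _
      | zero => simp
      | add a b _ _ ha hb => rw [Matrix.add_vecMul]; exact U.add_mem ha hb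
      | smul c a _ ha => rw [Matrix.smul_vecMul]; exact U.smul_mem c ha
    have hle := Submodule.finrank_le U
    rw [Module.finrank_fin_fun] at hle
    rcases two_pow_eleven hle (card_fixed_modEq hZ U hUZ fun x _ => hfree x) with h0 | h0
    · exfalso
      refine hv0 ?_
      rw [← hw0, ← Submodule.mem_bot (R := ZMod 2), ← Submodule.finrank_eq_zero.1 h0]
      exact hmem 0
    · exact Submodule.eq_top_of_finrank_eq (by rw [h0, Module.finrank_fin_fun])
  have hP : IsUnit P := by
    rw [← Matrix.linearIndependent_rows_iff_isUnit]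
    refine linearIndependent_of_top_le_span_of_card_eq_finrank (le_of_eq hspan.symm) ?_
    rw [Module.finrank_fin_fun, Fintype.card_fin]
  obtain ⟨Q, hQ⟩ := hP
  let ψ : G →* Matrix (Fin 10) (Fin 10) (ZMod 2) :=
    { toFun := fun g => P * φ g * (↑Q⁻¹ : Matrix (Fin 10) (Fin 10) (ZMod 2))
      map_one' := by rw [map_one, mul_one, ← hQ, Units.mul_inv]
      map_mul' := fun a b => by
        rw [map_mul, ← hQ]
        simp only [mul_assoc, Units.inv_mul_cancel_left] }
  have hrow : ∀ (f : ℕ → ℕ) (A : Matrix (Fin 10) (Fin 10) (ZMod 2)),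
      (∀ i : Fin 10, w (i : ℕ) ᵥ* A = w (f i)) →
      P * A * (↑Q⁻¹ : Matrix (Fin 10) (Fin 10) (ZMod 2)) =
        Matrix.of fun i : Fin 10 => cyc (f i) := by
    intro f A hA
    rw [Units.mul_inv_eq_iff_eq_mul, hQ]
    funext i
    rw [Matrix.mul_apply_eq_vecMul, Matrix.mul_apply_eq_vecMul,
      show P i = w (i : ℕ) from rfl, hA i]
    exact (hcycP _).symm
  refine ⟨ψ, ?_, ?_⟩
  · show P * φ z * _ = _
    rw [hZdef, toMat_zP]
    exact hrow (fun i => i + 1) Z fun i => hwZ _
  · show P * φ h * _ = _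
    rw [hHdef, toMat_hP]
    refine hrow (fun i => 3 * i) H fun i => ?_
    rw [hw, hw, Matrix.vecMul_vecMul, hcomm, ← Matrix.vecMul_vecMul, hvH]

/-- Counting the images of a map with small fibres. -/
theorem mul_le_card_image {α β : Type*} [Fintype α] [DecidableEq β] (f : α → β) {c : ℕ}
    (hc : ∀ b, (Finset.univ.filter fun a => f a = b).card ≤ c) :
    Fintype.card α ≤ c * (Finset.univ.image f).card :=
  Finset.card_le_mul_card_image _ c fun b _ => hc b

variable {G : Type*} [Group G] [Fintype G] [IsSimpleGroup G] (hG : Nat.card G = ord)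
include hG

omit [IsSimpleGroup G] in
/-- An element of the normalizer of a cyclic Sylow subgroup acting with a given exponent. -/
theorem exists_normalizing {p : ℕ} [Fact p.Prime] (hp : p = 5 ∨ p = 7 ∨ p = 11) (L : Local G p)
    (hV : Nat.card L.V = 1) {x : G} (hx : orderOf x = p) {k : ℕ} (hk : k < p)
    (hS : ((Finset.range p).filter fun m => m ^ L.e % p = 1).card ≤ L.e)
    (hkmem : k ^ L.e % p = 1) : ∃ n : G, n⁻¹ * x * n = x ^ k := by
  obtain ⟨x0, hx0, hx01, hc⟩ := exists_conj_P hG hp L hx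
  obtain ⟨c, hc⟩ := isConj_iff.1 hc
  suffices h : ∃ n : G, n⁻¹ * x0 * n = x0 ^ k by
    obtain ⟨n, hn⟩ := h
    refine ⟨c⁻¹ * n * c, ?_⟩
    rw [← mul_left_cancel_iff (a := c), ← mul_right_cancel_iff (a := c⁻¹), ← conj_pow, hc, ← hn,
      ← hc]
    group
  set N := Subgroup.normalizer (L.P : Set G) with hN
  have hxo := L.setup.orderOf_eq hx0 hx01
  have hNc : Nat.card N = L.e * p := by rw [hN, L.card_normalizer, hV, mul_one]
  have hzp : Subgroup.zpowers x0 = L.P := Subgroup.eq_of_le_of_card_ge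
    (Subgroup.zpowers_le.2 hx0) (by rw [Nat.card_zpowers, hxo, L.setup.card])
  have hex : ∀ n : N, ∃ m, m < p ∧ x0 ^ m = (n : G)⁻¹ * x0 * n := fun n => by
    have h : (n : G)⁻¹ * x0 * n ∈ L.P := by
      simpa using (Subgroup.mem_normalizer_iff.1 (inv_mem n.2) x0).1 hx0
    rw [← hzp, ← mem_powers_iff_mem_zpowers] at h
    obtain ⟨m, hm⟩ := h
    exact ⟨m % p, Nat.mod_lt _ (Fact.out : p.Prime).pos, by rw [← hxo, pow_mod_orderOf]; exact hm⟩
  choose m hm1 hm2 using hex
  have hiter : ∀ (n : N) (i : ℕ), ((n : G) ^ i)⁻¹ * x0 * (n : G) ^ i = x0 ^ (m n ^ i) := by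
    intro n i
    induction i with
    | zero => simp
    | succ i ih =>
      calc ((n : G) ^ (i + 1))⁻¹ * x0 * (n : G) ^ (i + 1)
          = (n : G)⁻¹ * (((n : G) ^ i)⁻¹ * x0 * (n : G) ^ i) * n := by rw [pow_succ]; group
        _ = ((n : G)⁻¹ * x0 * n) ^ (m n ^ i) := by rw [ih, conj_pow_inv]
        _ = x0 ^ (m n ^ (i + 1)) := by rw [← hm2, ← pow_mul, pow_succ']
  have himg : ∀ n : N, m n ^ L.e % p = 1 := fun n => by
    have h1 := hiter n (L.e * p)
    have h2 : (n : G) ^ (L.e * p) = 1 := by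
      rw [← hNc]
      exact congrArg Subtype.val (pow_card_eq_one' (x := n))
    rw [h2, inv_one, one_mul, mul_one] at h1
    have h3 : x0 ^ (m n ^ (L.e * p) % p) = x0 ^ 1 := by
      have h4 := pow_mod_orderOf x0 (m n ^ (L.e * p))
      rw [hxo] at h4
      rw [pow_one, h4]
      exact h1.symm
    rw [pow_inj_mod, hxo, Nat.mod_mod, Nat.one_mod_eq_one.2 (Fact.out : p.Prime).ne_one] at h3
    rwa [pow_mul, Nat.pow_mod, ← Nat.pow_mod (m n ^ L.e), ← ZMod.val_natCast, Nat.cast_pow,
      ZMod.pow_card, ZMod.val_natCast] at h3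
  have hfib : ∀ b, (Finset.univ.filter fun n : N => m n = b).card ≤ p := fun b => by
    rcases (Finset.univ.filter fun n : N => m n = b).eq_empty_or_nonempty with h | ⟨n0, hn0⟩
    · simp [h]
    have hcent : Nat.card (Subgroup.centralizer ({x0} : Set G)) = p := by
      have := L.cent_of_orderOf hG hp hxo
      rwa [hV, mul_one] at this
    refine le_of_le_of_eq (Finset.card_le_card_of_injOn (fun n : N => (n : G) * (n0 : G)⁻¹)
      (t := Finset.univ.filter fun g => g ∈ Subgroup.centralizer ({x0} : Set G))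
      (fun n hn => ?_) fun a _ b _ e => Subtype.ext (mul_right_cancel e)) ?_
    · refine Finset.mem_filter.2 ⟨Finset.mem_univ _,
        Subgroup.mem_centralizer_singleton_iff.2 ?_⟩
      have e : (n : G)⁻¹ * x0 * n = (n0 : G)⁻¹ * x0 * n0 := by
        rw [← hm2, ← hm2, (Finset.mem_filter.1 hn).2, (Finset.mem_filter.1 hn0).2]
      calc (n : G) * (n0 : G)⁻¹ * x0
          = (n : G) * ((n0 : G)⁻¹ * x0 * n0) * (n0 : G)⁻¹ := by group
        _ = (n : G) * ((n : G)⁻¹ * x0 * n) * (n0 : G)⁻¹ := by rw [e]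
        _ = x0 * ((n : G) * (n0 : G)⁻¹) := by group
    · rw [← Fintype.card_subtype, ← Nat.card_eq_fintype_card]
      exact hcent
  have hle := mul_le_card_image m hfib
  rw [← Nat.card_eq_fintype_card, hNc, mul_comm] at hle
  have hsub : Finset.univ.image m ⊆ (Finset.range p).filter fun j => j ^ L.e % p = 1 := by
    intro j hj
    obtain ⟨n, -, rfl⟩ := Finset.mem_image.1 hj
    exact Finset.mem_filter.2 ⟨Finset.mem_range.2 (hm1 n), himg n⟩
  have heq := Finset.eq_of_subset_of_card_le hsub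
    (hS.trans (Nat.le_of_mul_le_mul_left hle (Fact.out : p.Prime).pos))
  obtain ⟨n, -, hn⟩ := Finset.mem_image.1 (show k ∈ Finset.univ.image m by
    rw [heq]; exact Finset.mem_filter.2 ⟨Finset.mem_range.2 hk, hkmem⟩)
  exact ⟨n, by rw [← hm2, hn]⟩

omit [IsSimpleGroup G] in
/-- An element mapping `h` to its square has fourth power one. -/
theorem pow_four_eq_one (L : Local G 5) (hV : Nat.card L.V = 1) {h y : G} (hh : orderOf h = 5)
    (hy : y⁻¹ * h * y = h ^ 2) : y ^ 4 = 1 := by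
  have : Fact (Nat.Prime 5) := ⟨Nat.prime_five⟩
  have hcent : Nat.card (Subgroup.centralizer ({h} : Set G)) = 5 := by
    have := L.cent_of_orderOf hG (Or.inl rfl) hh
    rwa [hV, mul_one] at this
  have h2 : (y ^ 4)⁻¹ * h * y ^ 4 = h := by
    have hit : ∀ i : ℕ, (y ^ i)⁻¹ * h * y ^ i = h ^ 2 ^ i := fun i => by
      induction i with
      | zero => simp
      | succ i ih =>
        calc (y ^ (i + 1))⁻¹ * h * y ^ (i + 1) = y⁻¹ * ((y ^ i)⁻¹ * h * y ^ i) * y := by
              rw [pow_succ]; group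
          _ = (y⁻¹ * h * y) ^ 2 ^ i := by rw [ih, conj_pow_inv]
          _ = h ^ 2 ^ (i + 1) := by rw [hy, ← pow_mul, pow_succ']
    rw [hit, ← pow_mod_orderOf, hh]; norm_num
  have hmem : y ^ 4 ∈ Subgroup.zpowers h := by
    have hzp : Subgroup.zpowers h = Subgroup.centralizer ({h} : Set G) :=
      Subgroup.eq_of_le_of_card_ge (Subgroup.zpowers_le.2
        (Subgroup.mem_centralizer_singleton_iff.2 rfl))
        (by rw [hcent, Nat.card_zpowers, hh])
    rw [hzp, Subgroup.mem_centralizer_singleton_iff]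
    nth_rewrite 1 [← h2]
    group
  obtain ⟨j, hj⟩ := mem_powers_iff_mem_zpowers.2 hmem
  replace hj : h ^ j = y ^ 4 := hj
  have h3 : h ^ j = (h ^ j) ^ 2 := by
    conv_rhs => rw [← pow_mul, mul_comm, pow_mul, ← hy, conj_pow_inv, hj]
    rw [hj]; group
  rw [← hj]
  exact mul_left_cancel (a := h ^ j) (by rw [mul_one, ← pow_two, ← h3])

/-- The representation in standard coordinates with the elements of orders eleven, five and
four. -/
theorem exists_std : ∃ (z h y : G) (ψ : G →* Matrix (Fin 10) (Fin 10) (ZMod 2)),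
    orderOf z = 11 ∧ orderOf h = 5 ∧ h⁻¹ * z * h = z ^ 3 ∧ y⁻¹ * h * y = h ^ 2 ∧
    ψ z = toMat zP ∧ ψ h = toMat hP ∧ Function.Injective ψ := by
  have : Fintype (IrrCharacter G) := Fintype.ofFinite _
  have : Fact (Nat.Prime 11) := ⟨by norm_num⟩
  have : Fact (Nat.Prime 5) := ⟨Nat.prime_five⟩
  obtain ⟨T⟩ := exists_tbl hG
  obtain ⟨φ, z, hz, hφ⟩ := exists_phi hG
  obtain ⟨h, hh⟩ := exists_normalizing hG (Or.inr (Or.inr rfl)) T.L11 T.v11 hz (k := 3)
    (by norm_num) (by rw [T.e11]; decide) (by rw [T.e11]; decide)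
  have hz11 : z ^ 11 = 1 := hz ▸ pow_orderOf_eq_one z
  have hcent : Nat.card (Subgroup.centralizer ({z} : Set G)) = 11 := by
    have := T.L11.cent_of_orderOf hG (Or.inr (Or.inr rfl)) hz
    rwa [T.v11, mul_one] at this
  have hit : ∀ i : ℕ, (h ^ i)⁻¹ * z * h ^ i = z ^ 3 ^ i := fun i => by
    induction i with
    | zero => simp
    | succ i ih =>
      calc (h ^ (i + 1))⁻¹ * z * h ^ (i + 1) = h⁻¹ * ((h ^ i)⁻¹ * z * h ^ i) * h := by
            rw [pow_succ]; group
        _ = (h⁻¹ * z * h) ^ 3 ^ i := by rw [ih, conj_pow_inv]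
        _ = z ^ 3 ^ (i + 1) := by rw [hh, ← pow_mul, pow_succ']
  have hho : orderOf h = 5 := by
    have h5 : h ^ 5 ∈ Subgroup.zpowers z := by
      have hzp : Subgroup.zpowers z = Subgroup.centralizer ({z} : Set G) :=
        Subgroup.eq_of_le_of_card_ge (Subgroup.zpowers_le.2
          (Subgroup.mem_centralizer_singleton_iff.2 rfl))
          (by rw [hcent, Nat.card_zpowers, hz])
      have e := hit 5
      rw [show z ^ 3 ^ 5 = z by rw [← pow_mod_orderOf, hz]; norm_num] at e
      rw [hzp, Subgroup.mem_centralizer_singleton_iff]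
      nth_rewrite 1 [← e]
      group
    obtain ⟨j, hj⟩ := mem_powers_iff_mem_zpowers.2 h5
    replace hj : z ^ j = h ^ 5 := hj
    have h3 : z ^ j = (z ^ j) ^ 3 := by
      conv_rhs => rw [← pow_mul, mul_comm, pow_mul, ← hh, conj_pow_inv, hj]
      rw [hj]; group
    have h2 : (z ^ j) ^ 2 = 1 := mul_left_cancel (a := z ^ j) (by
      rw [mul_one, ← pow_succ', ← h3])
    have h4 : z ^ j = 1 := by
      have e : (z ^ j) ^ 11 = 1 := by rw [← pow_mul, mul_comm, pow_mul, hz11, one_pow]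
      rwa [show 11 = 2 * 5 + 1 from rfl, pow_succ, pow_mul, h2, one_pow, one_mul] at e
    refine orderOf_eq_prime (hj ▸ h4) fun e => ?_
    subst e
    rw [inv_one, one_mul, mul_one] at hh
    have : z ^ 3 = z ^ 1 := by rw [pow_one]; exact hh.symm
    rw [pow_inj_mod, hz] at this
    norm_num at this
  obtain ⟨y, hy⟩ := exists_normalizing hG (Or.inl rfl) T.L5 T.v5 hho (k := 2)
    (by norm_num) (by rw [T.e5]; decide) (by rw [T.e5]; decide)
  obtain ⟨ψ, hψz, hψh⟩ := exists_coords φ hz11 (hho ▸ pow_orderOf_eq_one h) hh hφ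
  refine ⟨z, h, y, ψ, hz, hho, hh, hy, hψz, hψh, ?_⟩
  rw [injective_iff_map_eq_one]
  intro g hg
  rcases (inferInstance : (MonoidHom.ker ψ).Normal).eq_bot_or_eq_top with h1 | h1
  · rw [← Subgroup.mem_bot, ← h1]; exact hg
  · have : ψ z = 1 := by rw [← MonoidHom.mem_ker, h1]; trivial
    rw [hψz, ← toMat_oneP] at this
    exact absurd this (toMat_ne (by decide +kernel))

end CfsgLib.Blocks.Order443520
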