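import Cfsg.Agent.Lib.Blocks.Order443520.Generators
import Cfsg.Agent.Lib.Blocks.Order443520.BitsLemmas

/-!
# Checks on the standard generators
-/

set_option autoImplicit false
set_option maxRecDepth 100000

namespace CfsgLib.Blocks.Order443520

open Matrix

theorem moves_all : survivors.all moves = true := by decide +kernel

theorem conjs_ok : (conjs.all fun c => eqP (mulP c.1 c.2) oneP && eqP (mulP c.2 c.1) oneP &&
    eqP (mulP (mulP c.1 zP) c.2) zP && eqP (mulP (mulP c.1 hP) c.2) hP) = true := by
  decide +kernel

theorem flips_ok : (flips.all fun c => eqP (mulP c.1 c.2.1) oneP && eqP (mulP c.2.1 c.1) oneP &&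
    eqP (mulP (mulP c.1 zInvTP) c.2.1) zP && eqP (mulP (mulP c.1 hInvTP) c.2.1) hP &&
    eqP (mulP (mulP c.2.1 stdP) c.1) c.2.2.1) = true := by
  decide +kernel

theorem flips_transpose : ∀ c ∈ flips, (toMat c.2.2.2)ᵀ = toMat c.2.2.1 := by
  unfold flips
  simp only [List.forall_mem_cons, List.not_mem_nil, false_implies, implies_true, and_true]
  refine ⟨?_, ?_, ?_⟩ <;> decide +kernel

theorem zInvTP_transpose : (toMat zInvP)ᵀ = toMat zInvTP := by decide +kernel

theorem hInvTP_transpose : (toMat hInvP)ᵀ = toMat hInvTP := by decide +kernel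

theorem mul_zInvP : eqP (mulP zP zInvP) oneP = true := by decide +kernel

theorem mul_hInvP : eqP (mulP hP hInvP) oneP = true := by decide +kernel

theorem subOk_one : subOk falseP subNine subSixteen = true ∧
    subNine.Pairwise (fun p q => eqP p.2 q.2 = false) ∧
    subSixteen.Pairwise (fun p q => eqP p.2 q.2 = false) := by decide +kernel

theorem subOk_two : subOk falseTwoP subNineTwo subSixteenTwo = true ∧
    subNineTwo.Pairwise (fun p q => eqP p.2 q.2 = false) ∧
    subSixteenTwo.Pairwise (fun p q => eqP p.2 q.2 = false) := by decide +kernel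

/-- An element of order seven in the group. -/
theorem eval_seven : (eqP (pow7P (evalP zP hP stdP [0, 2])) oneP = true) ∧
    eqP (evalP zP hP stdP [0, 2]) oneP = false := by decide +kernel

end CfsgLib.Blocks.Order443520
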