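import Cfsg.Agent.Lib.Blocks.Order443520.Values
import Cfsg.Agent.Lib.Char.Indicator

/-!
# All involutions are conjugate

Four characters are not real, so the Frobenius-Schur count leaves at most 1155 involutions, and the
class of the central involution has that many elements.
-/

set_option autoImplicit false

namespace CfsgLib.Blocks.Order443520

open Cfsg CfsgLib CfsgLib.Char CfsgLib.CharIntegral CfsgLib.Blocks.PrimeSylow
open CfsgLib.Blocks.Order95040 (deg cent deg_cast deg_trivChar deg_eq_finrank)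
open scoped Classical ComplexConjugate

variable {G : Type*} [Group G] [Fintype G] [IsSimpleGroup G] [Fintype (IrrCharacter G)]
  (hG : Nat.card G = ord) (T : Tbl G)
include hG

/-- The characters of degree 280 are not real. -/
theorem not_real280 {θ : IrrCharacter G} (hθ : θ = T.a280 ∨ θ = T.b280) : conjIrr θ ≠ θ := by
  intro hreal
  have : Fact (Nat.Prime 11) := ⟨by norm_num⟩
  obtain ⟨d1, d2, d3, d4, d5, d6, d7, d8, d9, d10, d11⟩ := T.degs
  obtain ⟨x, hx, hx1⟩ := T.L11.exists_mem_P hG
  have hxo := T.L11.setup.orderOf_eq hx hx1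
  have hV : ∀ v : T.L11.V, (v : G) = 1 := fun v => by
    have h := v.2
    simp only [Subgroup.card_eq_one.1 T.v11, Subgroup.mem_bot] at h
    exact h
  have hb : ∀ y ∈ T.L11.P, y ≠ 1 → (T.a280 : G → ℂ) y + (T.b280 : G → ℂ) y = -1 := by
    intro y hy hy1
    have h := T.L11.data.sumY y hy hy1
    have hne : T.a280 ≠ T.b280 := by
      have h := T.nodup
      simp only [List.nodup_cons, List.mem_cons, List.not_mem_nil, or_false, not_or] at h
      exact h.2.2.2.2.2.2.2.2.2.2.1
    rw [(eleven_sets hG T).1, (eleven_sets hG T).2.2, Finset.sum_pair hne, T.v11,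
      Finset.sum_congr rfl fun (v : T.L11.V) _ => by rw [hV v, mul_one],
      Finset.sum_congr rfl (fun (v : T.L11.V) _ => by rw [hV v, mul_one]) (s₁ := Finset.univ)
        (f := fun v : T.L11.V => (T.b280 : G → ℂ) (y * v)),
      Finset.sum_const, Finset.sum_const, Finset.card_univ, ← Nat.card_eq_fintype_card, T.v11]
      at h
    simpa using h
  have hθx : (θ : G → ℂ) x⁻¹ = (θ : G → ℂ) x := by
    conv_rhs => rw [← hreal]
    rw [conjIrr_apply, conj_eq_inv]
  have hall : ∀ χ : IrrCharacter G, (χ : G → ℂ) x⁻¹ = (χ : G → ℂ) x := by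
    have hint : ∀ {χ : IrrCharacter G}, (∃ v : ℤ, (χ : G → ℂ) x = v) →
        (χ : G → ℂ) x⁻¹ = (χ : G → ℂ) x := fun {χ} ⟨v, hv⟩ => by
      rw [← conj_eq_inv, hv, map_intCast]
    obtain ⟨h21, h55, h99, h154, h210, h231, h385⟩ := int_single hG T x
    obtain ⟨-, ea, eb⟩ := val_of_eleven hG T hxo
    have h1 := hb x hx hx1
    have h2 := hb x⁻¹ (inv_mem hx) (inv_ne_one.2 hx1)
    intro χ
    rcases T.cases_eq χ with rfl | rfl | rfl | rfl | rfl | rfl | rfl | rfl | rfl | rfl | rfl | rfl
    · rw [trivChar_apply, trivChar_apply]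
    · exact hint h385
    · exact hint h21
    · exact hint ⟨1, by rw [ea, Int.cast_one]⟩
    · exact hint ⟨1, by rw [eb, Int.cast_one]⟩
    · exact hint h55
    · exact hint h99
    · exact hint h154
    · exact hint h210
    · exact hint h231
    · rcases hθ with rfl | rfl
      · exact hθx
      · linear_combination h2 - h1 - hθx
    · rcases hθ with rfl | rfl
      · linear_combination h2 - h1 - hθx
      · exact hθx
  obtain ⟨c, hc⟩ := isConj_iff.1 (isConj_of_vals hG hall)
  set N := Subgroup.normalizer (T.L11.P : Set G) with hN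
  have hcN : c ∈ N :=
    (T.L11.setup.fusion hx (inv_mem hx) hx1 (one_mem _) (one_mem _)
      (by rw [mul_one, mul_one, hc])).1
  have h55 : c ^ 55 = 1 := by
    have h1 : Nat.card N = 55 := by rw [hN, T.L11.card_normalizer, T.e11, T.v11]
    exact orderOf_dvd_iff_pow_eq_one.1 (h1 ▸ Subgroup.orderOf_dvd_natCard _ hcN)
  have hsq : Commute (c ^ 2) x := by
    have h1 : c * x⁻¹ * c⁻¹ = x := by rw [← conj_inv, hc, inv_inv]
    show c ^ 2 * x = x * c ^ 2
    calc c ^ 2 * x = c * (c * x * c⁻¹) * c := by simp [pow_two, mul_assoc]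
      _ = c * x⁻¹ * c := by rw [hc]
      _ = (c * x⁻¹ * c⁻¹) * c ^ 2 := by simp [pow_two, mul_assoc]
      _ = x * c ^ 2 := by rw [h1]
  have h3 := (hsq.pow_left 28).eq
  rw [← pow_mul, show 2 * 28 = 55 + 1 from rfl, pow_succ, h55, one_mul] at h3
  rw [h3, mul_inv_cancel_right] at hc
  have h4 : x ^ 2 = 1 := by rw [pow_two]; nth_rewrite 2 [hc]; rw [mul_inv_cancel]
  have h5 := orderOf_dvd_of_pow_eq_one h4
  rw [hxo] at h5
  norm_num at h5

/-- The characters of degree 45 are not real. -/
theorem not_real45 {θ : IrrCharacter G} (hθ : θ = T.a45 ∨ θ = T.b45) : conjIrr θ ≠ θ := by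
  have hab : conjIrr T.a45 = T.b45 := irr_ext fun g => by rw [conjIrr_apply, conj45 hG T]
  rcases hθ with rfl | rfl <;> intro e
  · exact T.ne45 (e.symm.trans hab)
  · exact T.ne45 ((by rw [← hab, conjIrr_conjIrr] : conjIrr T.b45 = T.a45).symm.trans e)

/-- All involutions are conjugate. -/
theorem isConj_involution {s : G} (hs : orderOf s = 2) : IsConj T.t s := by
  obtain ⟨d1, d2, d3, d4, d5, d6, d7, d8, d9, d10, d11⟩ := T.degs
  have hν : ∀ χ : IrrCharacter G, ∃ ν : ℤ, fsInd (χ : G → ℂ) = ν ∧ ν ≤ 1 ∧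
      (conjIrr χ ≠ χ → ν = 0) := by
    intro χ
    obtain ⟨n, ρ, hρ, hρc⟩ := χ.2
    have := hρ
    obtain ⟨h1, h2⟩ := fsInd_trichotomy ρ
    have hzero : conjIrr χ ≠ χ → fsInd (χ : G → ℂ) = 0 := fun hne => by
      rw [← hρc]
      refine h2.2 ?_
      by_contra hno
      push Not at hno
      exact hne ((conjIrr_eq_iff χ).2 fun g => by rw [← hρc]; exact hno g)
    by_cases hr : conjIrr χ = χ
    · rw [← hρc]
      rcases h1 with h | h | h
      · exact ⟨0, by rw [h, Int.cast_zero], by norm_num, fun e => absurd hr e⟩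
      · exact ⟨1, by rw [h, Int.cast_one], le_rfl, fun e => absurd hr e⟩
      · exact ⟨-1, by rw [h, Int.cast_neg, Int.cast_one], by norm_num, fun e => absurd hr e⟩
    · exact ⟨0, by rw [hzero hr, Int.cast_zero], by norm_num, fun _ => rfl⟩
  choose ν hν1 hν2 hν3 using hν
  have hsum : (Nat.card {u : G // u * u = 1} : ℤ) = ∑ χ, ν χ * (deg χ : ℤ) := by
    apply Int.cast_injective (α := ℂ)
    rw [Int.cast_natCast, card_sqrt_eq_sum]
    push_cast
    exact Finset.sum_congr rfl fun χ _ => by rw [hν1 χ, deg_cast]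
  have hle : Nat.card {u : G // u * u = 1} ≤ 1156 := by
    rw [T.sum_eq, deg_trivChar, d1, d2, d3, d4, d5, d6, d7, d8, d9, d10, d11,
      hν3 _ (not_real45 hG T (Or.inl rfl)), hν3 _ (not_real45 hG T (Or.inr rfl)),
      hν3 _ (not_real280 hG T (Or.inl rfl)), hν3 _ (not_real280 hG T (Or.inr rfl))] at hsum
    push_cast at hsum
    have := hν2 (trivChar G)
    have := hν2 T.c385
    have := hν2 T.c21
    have := hν2 T.c55
    have := hν2 T.c99
    have := hν2 T.c154
    have := hν2 T.c210
    have := hν2 T.c231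
    omega
  by_contra hne
  have hs1 : s ≠ 1 := fun e => by simp [e] at hs
  have ht1 : T.t ≠ 1 := fun e => by have := T.ht; simp [e] at this
  have hnotmem : ∀ x : G, x = 1 ∨ x = s → x ∉ classFinset T.t := by
    rintro x (rfl | rfl) h
    · exact ht1 (isConj_one_left.1 (mem_classFinset.1 h))
    · exact hne (mem_classFinset.1 h)
  have hcard : (insert 1 (insert s (classFinset T.t))).card = 1157 := by
    rw [Finset.card_insert_of_notMem, Finset.card_insert_of_notMem (hnotmem s (Or.inr rfl)),
      card_classFinset, index_eq hG, T.hct]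
    · norm_num [ord]
    · rw [Finset.mem_insert, not_or]
      exact ⟨Ne.symm hs1, hnotmem 1 (Or.inl rfl)⟩
  have hsub : insert 1 (insert s (classFinset T.t)) ⊆ Finset.univ.filter fun u => u * u = 1 := by
    intro u hu
    rw [Finset.mem_filter]
    refine ⟨Finset.mem_univ _, ?_⟩
    simp only [Finset.mem_insert, mem_classFinset] at hu
    rcases hu with rfl | rfl | hu
    · exact one_mul 1
    · rw [← pow_two, ← hs, pow_orderOf_eq_one]
    · obtain ⟨c, rfl⟩ := isConj_iff.1 hu
      rw [conj_mul, ← pow_two T.t, ← T.ht, pow_orderOf_eq_one]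
      group
  have h1 := Finset.card_le_card hsub
  rw [hcard, ← Fintype.card_subtype, ← Nat.card_eq_fintype_card] at h1
  omega

include T in
/-- The centralizer of an involution has order 384. -/
theorem cent_involution {s : G} (hs : orderOf s = 2) : cent s = 384 := by
  obtain ⟨c, hc⟩ := isConj_iff.1 (isConj_involution hG T hs)
  rw [← T.hct]
  refine Nat.card_congr ((MulAut.conj c).toEquiv.subtypeEquiv fun y => ?_).symm
  simp only [Subgroup.mem_centralizer_singleton_iff, MulEquiv.toEquiv_eq_coe,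
    MulEquiv.coe_toEquiv, MulAut.conj_apply, ← hc, conj_mul]
  exact ⟨fun e => by rw [e], fun e => mul_left_cancel (mul_right_cancel e)⟩

end CfsgLib.Blocks.Order443520
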