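import Cfsg.Agent.Lib.Blocks.Order443520.Coords
import Cfsg.Agent.Lib.Blocks.Order443520.GeneratorChecks
import Cfsg.Agent.Lib.Blocks.Order443520.Involutions
import Mathlib.LinearAlgebra.Matrix.GeneralLinearGroup.Card
import Mathlib.GroupTheory.Transfer

/-!
# The two false candidates

In the group generated by a false candidate an elementary abelian subgroup of order nine has a
normalizer of order divisible by 144, hence exactly 144, and 3080 Sylow 3-subgroups are impossible.
-/

set_option autoImplicit false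

namespace CfsgLib.Blocks.Order443520

open Cfsg CfsgLib CfsgLib.Char CfsgLib.CharIntegral CfsgLib.Blocks.PrimeSylow Matrix
open CfsgLib.Blocks.Order95040 (deg cent)
open scoped Classical

theorem evalP_eq {G : Type*} [Monoid G] (ψ : G →* Matrix (Fin 10) (Fin 10) (ZMod 2)) {z h y : G}
    {V : ℕ} (hz : ψ z = toMat zP) (hh : ψ h = toMat hP) (hy : ψ y = toMat V) (w : List ℕ) :
    ψ (evalW z h y w) = toMat (evalP zP hP V w) := by
  rw [map_evalW, hz, hh, hy, toMat_evalP]

/-- The automorphisms of an elementary abelian group of order nine embed in the general linear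
group. -/
theorem card_mulAut_dvd {G : Type*} [Group G] [Finite G] {U : Subgroup G}
    (hcomm : ∀ a b : U, a * b = b * a) (hexp : ∀ a : U, a ^ 3 = 1)
    (hcard : Nat.card U = 3 ^ 2) :
    Nat.card (MulAut U) ∣ Nat.card (GL (Fin 2) (ZMod 3)) := by
  have : Fact (Nat.Prime 3) := ⟨Nat.prime_three⟩
  let : CommGroup U := { (inferInstance : Group U) with mul_comm := hcomm }
  let : Module (ZMod 3) (Additive U) := AddCommGroup.zmodModule (fun x => by
    apply Additive.toMul.injective
    rw [toMul_nsmul, toMul_zero]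
    exact hexp _)
  have : Module.Finite (ZMod 3) (Additive U) := Module.Finite.of_finite
  have hfr : Module.finrank (ZMod 3) (Additive U) = Module.finrank (ZMod 3) (Fin 2 → ZMod 3) := by
    rw [Module.finrank_pi, Fintype.card_fin]
    have h : Nat.card (Additive U) = Nat.card (ZMod 3) ^ Module.finrank (ZMod 3) (Additive U) :=
      Module.natCard_eq_pow_finrank
    rw [Nat.card_zmod, Nat.card_congr (Additive.toMul (α := U)), hcard] at h
    exact (Nat.pow_right_injective (by norm_num : 2 ≤ 3) h).symm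
  let e := LinearEquiv.ofFinrankEq _ _ hfr
  let l : MulAut U → ((Fin 2 → ZMod 3) →ₗ[ZMod 3] (Fin 2 → ZMod 3)) := fun φ =>
    AddMonoidHom.toZModLinearMap 3 (AddMonoidHom.mk'
      (fun v => e (Additive.ofMul (φ (Additive.toMul (e.symm v))))) fun v w => by
        rw [map_add e.symm, toMul_add, map_mul, ofMul_mul, map_add])
  have hl : ∀ φ v, l φ v = e (Additive.ofMul (φ (Additive.toMul (e.symm v)))) := fun _ _ => rfl
  let R : MulAut U →* Matrix (Fin 2) (Fin 2) (ZMod 3) :=
    { toFun := fun φ => LinearMap.toMatrix' (l φ)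
      map_one' := by
        rw [← LinearMap.toMatrix'_id]
        congr 1
        exact LinearMap.ext fun v => by
          rw [hl, MulAut.one_apply, ofMul_toMul, LinearEquiv.apply_symm_apply, LinearMap.id_apply]
      map_mul' := fun φ χ => by
        rw [← LinearMap.toMatrix'_comp]
        congr 1
        exact LinearMap.ext fun v => by
          rw [LinearMap.comp_apply, hl, hl, hl, LinearEquiv.symm_apply_apply, toMul_ofMul,
            MulAut.mul_apply] }
  refine Subgroup.card_dvd_of_injective R.toHomUnits fun φ χ h => MulEquiv.ext fun u => ?_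
  have := LinearMap.congr_fun (LinearMap.toMatrix'.injective (Units.ext_iff.1 h))
    (e (Additive.ofMul u))
  rw [hl, hl, LinearEquiv.symm_apply_apply, toMul_ofMul] at this
  exact Additive.ofMul.injective (e.injective this)

variable {G : Type*} [Group G] [Fintype G]

/-- A closed list of matrices of elements gives a subgroup. -/
theorem exists_subgroup (ψ : G →* Matrix (Fin 10) (Fin 10) (ZMod 2)) (hψ : Function.Injective ψ)
    {L : List (List ℕ × ℕ)} {z h y : G}
    (hev : ∀ p ∈ L, ψ (evalW z h y p.1) = toMat p.2)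
    (hcl : ∀ p ∈ L, ∀ q ∈ L, ∃ r ∈ L, toMat p.2 * toMat q.2 = toMat r.2)
    (h1 : ∃ p ∈ L, toMat p.2 = 1) (hne : L.Pairwise fun p q => eqP p.2 q.2 = false) :
    ∃ K : Subgroup G, Nat.card K = L.length ∧ ∀ g, g ∈ K ↔ ∃ p ∈ L, ψ g = toMat p.2 := by
  let S : Submonoid G :=
    { carrier := {g | ∃ p ∈ L, ψ g = toMat p.2}
      one_mem' := by
        obtain ⟨p, hp, e⟩ := h1
        exact ⟨p, hp, by rw [map_one, e]⟩
      mul_mem' := by
        rintro a b ⟨p, hp, ha⟩ ⟨q, hq, hb⟩
        obtain ⟨r, hr, e⟩ := hcl p hp q hq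
        exact ⟨r, hr, by rw [map_mul, ha, hb, e]⟩ }
  let K : Subgroup G :=
    { S with
      inv_mem' := fun {x} hx => by
        rw [show x⁻¹ = x ^ (orderOf x - 1) from inv_eq_of_mul_eq_one_right (by
          rw [← pow_succ', Nat.sub_add_cancel (orderOf_pos x), pow_orderOf_eq_one])]
        exact S.pow_mem hx _ }
  refine ⟨K, ?_, fun g => Iff.rfl⟩
  have hset : (K : Set G) = ((L.map fun p => evalW z h y p.1).toFinset : Set G) := by
    ext g
    simp only [Finset.mem_coe, List.mem_toFinset, List.mem_map]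
    constructor
    · rintro ⟨p, hp, e⟩
      exact ⟨p, hp, hψ ((hev p hp).trans e.symm)⟩
    · rintro ⟨p, hp, rfl⟩
      exact ⟨p, hp, hev p hp⟩
  have hnd : (L.map fun p => evalW z h y p.1).Nodup :=
    List.pairwise_map.2 (hne.imp_of_mem fun {p q} hp hq hpq e =>
      toMat_ne hpq (by rw [← hev p hp, ← hev q hq, e]))
  rw [← SetLike.coe_sort_coe, Nat.card_coe_set_eq, hset, Set.ncard_coe_finset,
    List.toFinset_card_of_nodup hnd, List.length_map]

variable [IsSimpleGroup G] [Fintype (IrrCharacter G)] (hG : Nat.card G = ord) (T : Tbl G)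
include hG T

/-- An elementary abelian subgroup of order nine is its own centralizer. -/
theorem centralizer_nine {E : Subgroup G} (hE : Nat.card E = 9)
    (hcomm : ∀ a b : E, a * b = b * a) :
    Subgroup.centralizer (E : Set G) = E := by
  have : Fact (Nat.Prime 3) := ⟨Nat.prime_three⟩
  set C := Subgroup.centralizer (E : Set G) with hC
  have hEC : E ≤ C := fun a ha => Subgroup.mem_centralizer_iff.2 fun b hb =>
    congrArg Subtype.val (hcomm ⟨b, hb⟩ ⟨a, ha⟩)
  obtain ⟨a, ha⟩ := exists_prime_orderOf_dvd_card' (G := E) 3 (by rw [hE]; norm_num)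
  have hao : orderOf (a : G) = 3 := by rw [Subgroup.orderOf_coe, ha]
  have hle : ∀ x ∈ C, 9 ∣ cent x := fun x hx =>
    hE ▸ Subgroup.card_dvd_of_le fun b hb => Subgroup.mem_centralizer_singleton_iff.2
      (Subgroup.mem_centralizer_iff.1 hx b hb)
  have hP : IsPGroup 3 C := by
    rintro ⟨x, hx⟩
    refine ⟨1, Subtype.ext ?_⟩
    show x ^ 3 ^ 1 = 1
    have h2 : ¬ 2 ∣ orderOf x := fun hd => by
      have hs : orderOf (x ^ (orderOf x / 2)) = 2 :=
        orderOf_pow_orderOf_div (orderOf_pos x).ne' hd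
      have h := hle _ (Subgroup.pow_mem _ hx (orderOf x / 2))
      rw [cent_involution hG T hs] at h
      norm_num at h
    have hcase : ∀ {p : ℕ} [Fact p.Prime], (p = 5 ∨ p = 7 ∨ p = 11) → ∀ L : Local G p,
        Nat.card L.V = 1 → orderOf x ≠ p := fun {p} _ hp L hV e => by
      have h := hle x hx
      rw [L.cent_of_orderOf hG hp e, hV, mul_one] at h
      rcases hp with rfl | rfl | rfl <;> norm_num at h
    rw [pow_one, ← orderOf_dvd_iff_pow_eq_one]
    have : Fact (Nat.Prime 5) := ⟨by norm_num⟩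
    have : Fact (Nat.Prime 7) := ⟨by norm_num⟩
    have : Fact (Nat.Prime 11) := ⟨by norm_num⟩
    rcases odd_order hG T h2 with h | h | h | h | h
    · rw [h]; norm_num
    · rw [h]
    · exact absurd h (hcase (Or.inl rfl) T.L5 T.v5)
    · exact absurd h (hcase (Or.inr (Or.inl rfl)) T.L7 T.v7)
    · exact absurd h (hcase (Or.inr (Or.inr rfl)) T.L11 T.v11)
  obtain ⟨P, hP'⟩ := hP.exists_le_sylow
  refine (Subgroup.eq_of_le_of_card_ge hEC ?_).symm
  rw [hE, ← card_sylow_three hG P]
  exact Subgroup.card_le_of_le hP'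

/-- The two false candidates do not occur. -/
theorem no_false {S : ℕ} {E W : List (List ℕ × ℕ)} (hok : subOk S E W = true)
    (hE : E.Pairwise fun p q => eqP p.2 q.2 = false)
    (hW : W.Pairwise fun p q => eqP p.2 q.2 = false)
    (ψ : G →* Matrix (Fin 10) (Fin 10) (ZMod 2)) (hψ : Function.Injective ψ) {z h y : G}
    (hz : ψ z = toMat zP) (hh : ψ h = toMat hP) (hy : ψ y = toMat S) : False := by
  have : Fact (Nat.Prime 3) := ⟨Nat.prime_three⟩
  simp only [subOk, Bool.and_eq_true, List.all_eq_true, List.any_eq_true, decide_eq_true_eq,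
    List.mem_append] at hok
  obtain ⟨⟨⟨⟨⟨⟨⟨⟨⟨hev, hclE⟩, hclW⟩, hconj⟩, hcommE⟩, hexpE⟩, hlE⟩, hlW⟩, h1E⟩, h1W⟩ := hok
  have hev' : ∀ p, p ∈ E ∨ p ∈ W → ψ (evalW z h y p.1) = toMat p.2 := fun p hp => by
    rw [evalP_eq ψ hz hh hy, toMat_eq (hev p hp)]
  have hone : ∀ {L : List (List ℕ × ℕ)}, 0 < L.length → eqP L.headI.2 oneP = true →
      ∃ p ∈ L, toMat p.2 = 1 := fun {L} hL h => by
    cases L with
    | nil => simp at hL
    | cons p L => exact ⟨p, List.mem_cons_self, (toMat_eq h).trans toMat_oneP⟩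
  have hmul : ∀ {p q r : List ℕ × ℕ}, eqP (mulP p.2 q.2) r.2 = true →
      toMat p.2 * toMat q.2 = toMat r.2 := fun e => by rw [← toMat_mulP]; exact toMat_eq e
  obtain ⟨K, hK, hKmem⟩ := exists_subgroup ψ hψ (fun p hp => hev' p (Or.inl hp))
    (fun p hp q hq => (hclE p hp q hq).imp fun r hr => ⟨hr.1, hmul hr.2⟩)
    (hone (by rw [hlE]; norm_num) h1E) hE
  obtain ⟨J, hJ, hJmem⟩ := exists_subgroup ψ hψ (fun p hp => hev' p (Or.inr hp))
    (fun p hp q hq => (hclW p hp q hq).imp fun r hr => ⟨hr.1, hmul hr.2⟩)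
    (hone (by rw [hlW]; norm_num) h1W) hW
  rw [hlE] at hK
  rw [hlW] at hJ
  have hcomm : ∀ a b : K, a * b = b * a := fun a b => by
    obtain ⟨p, hp, ea⟩ := (hKmem _).1 a.2
    obtain ⟨q, hq, eb⟩ := (hKmem _).1 b.2
    refine Subtype.ext (hψ ?_)
    rw [Subgroup.coe_mul, Subgroup.coe_mul, map_mul, map_mul, ea, eb, ← toMat_mulP, ← toMat_mulP,
      toMat_eq (hcommE p hp q hq)]
  have hexp : ∀ a : K, a ^ 3 = 1 := fun a => by
    obtain ⟨p, hp, ea⟩ := (hKmem _).1 a.2
    refine Subtype.ext (hψ ?_)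
    rw [Subgroup.coe_pow, Subgroup.coe_one, map_pow, map_one, ea, pow_succ, pow_two, ← toMat_mulP,
      ← toMat_mulP, toMat_eq (hexpE p hp), toMat_oneP]
  set N := Subgroup.normalizer (K : Set G) with hN
  have hJN : J ≤ N := by
    have hone_way : ∀ w ∈ J, ∀ e ∈ K, w * e * w⁻¹ ∈ K := by
      intro w hw e he
      obtain ⟨p, hp, ew⟩ := (hJmem _).1 hw
      obtain ⟨q, hq, ee⟩ := (hKmem _).1 he
      obtain ⟨r, hr, hr'⟩ := hconj p hp q hq
      have e2 : w * e = evalW z h y r.1 * w := hψ (by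
        rw [map_mul, map_mul, ew, ee, hev' r (Or.inl hr), ← toMat_mulP, ← toMat_mulP,
          toMat_eq hr'])
      rw [e2, mul_inv_cancel_right]
      exact (hKmem _).2 ⟨r, hr, hev' r (Or.inl hr)⟩
    intro w hw
    refine Subgroup.mem_normalizer_iff.2 fun e => ⟨hone_way w hw e, fun he => ?_⟩
    simpa [mul_assoc] using hone_way w⁻¹ (inv_mem hw) _ he
  have h144 : 144 ∣ Nat.card N := (by norm_num : Nat.Coprime 9 16).mul_dvd_of_dvd_of_dvd
    (hK ▸ Subgroup.card_dvd_of_le Subgroup.le_normalizer) (hJ ▸ Subgroup.card_dvd_of_le hJN)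
  have hcent := centralizer_nine hG T hK hcomm
  have hr : Nat.card N ∣ 9 * 48 := by
    rw [Subgroup.card_eq_card_quotient_mul_card_subgroup K.normalizerMonoidHom.ker, mul_comm]
    refine mul_dvd_mul (dvd_of_eq ?_)
      ((Subgroup.card_dvd_of_injective _ (QuotientGroup.kerLift_injective _)).trans
        ((card_mulAut_dvd hcomm hexp (by rw [hK]; norm_num)).trans
          (dvd_of_eq ?_)))
    · rw [Subgroup.normalizerMonoidHom_ker,
        Nat.card_congr (Subgroup.subgroupOfEquivOfLe
          (Blocks.centralizer_le_normalizer' K)).toEquiv, hcent, hK]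
    · rw [Matrix.card_GL_field, ZMod.card, Fin.prod_univ_two]
      norm_num
  have hG' : Nat.card N ∣ ord := hG ▸ Subgroup.card_subgroup_dvd_card N
  have hNc : Nat.card N = 144 := by
    refine Nat.dvd_antisymm ?_ h144
    have h := Nat.dvd_gcd hr hG'
    rwa [show Nat.gcd (9 * 48) ord = 144 by decide] at h
  obtain ⟨P, hP⟩ := (IsPGroup.of_card (G := K) (p := 3) (n := 2)
    (by rw [hK]; norm_num)).exists_le_sylow
  have hPK : (P : Subgroup G) = K :=
    (Subgroup.eq_of_le_of_card_ge hP (by rw [card_sylow_three hG P, hK])).symm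
  obtain ⟨q1, q2⟩ := Order95040.sylow_count P
  rw [hPK, ← hN, hNc, hG, ord] at q2
  have : Nat.card (Sylow 3 G) = 3080 := by omega
  omega

end CfsgLib.Blocks.Order443520
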