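import Cfsg.Agent.Lib.Blocks.Order443520.Values
import Cfsg.Agent.Lib.Blocks.Order95040.Mod2

/-!
# An integral representation of degree 21
-/

set_option autoImplicit false

namespace CfsgLib.Blocks.Order443520

open Cfsg CfsgLib CfsgLib.Char CfsgLib.CharIntegral CfsgLib.Blocks.PrimeSylow
open CfsgLib.Blocks.Order95040 (deg cent deg_cast deg_trivChar deg_eq_finrank)
open Local
open scoped Classical ComplexConjugate

variable {G : Type*} [Group G] [Fintype G] [IsSimpleGroup G] (hG : Nat.card G = ord)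
  [Fintype (IrrCharacter G)] (T : Tbl G)
include hG

/-- The sum over the normalizer of a Sylow 11-subgroup. -/
theorem sum_normalizer :
    ∑ b : Subgroup.normalizer (T.L11.P : Set G), (T.c21 : G → ℂ) b =
      (Nat.card (Subgroup.normalizer (T.L11.P : Set G)) : ℂ) := by
  have : Fact (Nat.Prime 11) := ⟨by norm_num⟩
  have : Fact (Nat.Prime 5) := ⟨by norm_num⟩
  set B := Subgroup.normalizer (T.L11.P : Set G) with hB
  have hB55 : Nat.card B = 55 := by rw [hB, T.L11.card_normalizer, T.e11, T.v11]
  have hmem : ∀ b : B, orderOf (b : G) = 11 ↔ (b : G) ∈ T.L11.P ∧ (b : G) ≠ 1 := fun b => by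
    constructor
    · intro h
      refine ⟨PrimeSylow.mem_of_pow_eq_one T.L11.setup.prime T.L11.setup.not_dvd b.2
        (h ▸ pow_orderOf_eq_one (b : G)), fun e => ?_⟩
      rw [e, orderOf_one] at h
      norm_num at h
    · exact fun h => T.L11.setup.orderOf_eq h.1 h.2
  have hcases : ∀ b : B, (b : G) = 1 ∨ orderOf (b : G) = 11 ∨ orderOf (b : G) = 5 := fun b => by
    have ho : orderOf (b : G) ∣ 55 := by
      rw [← hB55, Subgroup.orderOf_coe]
      exact orderOf_dvd_natCard b
    by_cases h11 : 11 ∣ orderOf (b : G)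
    · exact Or.inr (Or.inl (order_eq hG (Or.inr (Or.inr rfl)) T.L11 T.v11 h11))
    have h5 : orderOf (b : G) ∣ 5 :=
      ((Nat.Prime.coprime_iff_not_dvd (by norm_num)).2 h11).symm.dvd_of_dvd_mul_right
        (show orderOf (b : G) ∣ 5 * 11 from ho)
    rcases (Nat.dvd_prime (by norm_num : Nat.Prime 5)).1 h5 with h | h
    · exact Or.inl (orderOf_eq_one_iff.1 h)
    · exact Or.inr (Or.inr h)
  have hval : ∀ b : B, (T.c21 : G → ℂ) b =
      1 + ((if (b : G) = 1 then (20 : ℂ) else 0) +
        if orderOf (b : G) = 11 then (-2 : ℂ) else 0) := fun b => by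
    rcases hcases b with h | h | h
    · rw [if_pos h, if_neg (by rw [h, orderOf_one]; norm_num), h, deg_cast, T.degs.2.1]
      norm_num
    · rw [if_neg (fun e => by rw [e, orderOf_one] at h; norm_num at h), if_pos h,
        (val_of_eleven hG T h).1]
      norm_num
    · rw [if_neg (fun e => by rw [e, orderOf_one] at h; norm_num at h),
        if_neg (by rw [h]; norm_num), val_of_five hG T h]
      norm_num
  have hc1 : (Finset.univ.filter fun b : B => (b : G) = 1).card = 1 := by
    rw [Finset.card_eq_one]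
    refine ⟨1, Finset.ext fun b => ?_⟩
    rw [Finset.mem_filter, Finset.mem_singleton]
    exact ⟨fun h => Subtype.ext h.2, fun h => ⟨Finset.mem_univ b, by rw [h]; rfl⟩⟩
  have hc11 : (Finset.univ.filter fun b : B => orderOf (b : G) = 11).card = 10 := by
    have hle : T.L11.P ≤ B := Subgroup.le_normalizer
    have h0 : (Finset.univ.filter fun x : T.L11.P => x ≠ 1).card = 10 := by
      rw [Finset.filter_ne', Finset.card_erase_of_mem (Finset.mem_univ _), Finset.card_univ,
        ← Nat.card_eq_fintype_card, T.L11.setup.card]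
    rw [← h0]
    symm
    refine Finset.card_bij (fun x _ => ⟨(x : G), hle x.2⟩) (fun x hx => ?_) ?_ fun b hb => ?_
    · rw [Finset.mem_filter] at hx ⊢
      exact ⟨Finset.mem_univ _, (hmem _).2 ⟨x.2, fun e => hx.2 (Subtype.ext e)⟩⟩
    · intro x _ y _ e
      exact Subtype.ext (congrArg (fun b : B => (b : G)) e)
    · rw [Finset.mem_filter] at hb
      obtain ⟨h1, h2⟩ := (hmem b).1 hb.2
      exact ⟨⟨(b : G), h1⟩, Finset.mem_filter.2 ⟨Finset.mem_univ _,
        fun e => h2 (congrArg Subtype.val e)⟩, rfl⟩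
  rw [Finset.sum_congr rfl fun b _ => hval b, Finset.sum_add_distrib, Finset.sum_add_distrib,
    ← Finset.sum_filter, ← Finset.sum_filter, Finset.sum_const, Finset.sum_const, Finset.sum_const,
    Finset.card_univ, ← Nat.card_eq_fintype_card, hB55, hc1, hc11]
  norm_num

/-- An integral representation with the character of degree 21. -/
theorem exists_intRep :
    ∃ R : G →* Matrix (Fin 21) (Fin 21) ℤ, ∀ g, ((R g).trace : ℂ) = (T.c21 : G → ℂ) g := by
  set B := Subgroup.normalizer (T.L11.P : Set G) with hB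
  have hB55 : Nat.card B = 55 := by rw [hB, T.L11.card_normalizer, T.e11, T.v11]
  obtain ⟨n, ρ, hρ, hρc⟩ := T.c21.2
  obtain rfl : n = 21 := (deg_eq_finrank hρc.symm).symm.trans T.degs.2.1
  have := hρ
  obtain ⟨w, f, h1, hsep, hspan⟩ := Order95040.exists_fixed ρ B (by
    rw [hρc]; exact sum_normalizer hG T)
  choose I hI using fun g => (int_single hG T g).1
  have hf : ∀ g, 55 * f (ρ g w) = ∑ b : B, (I (g * b) : ℂ) := fun g => by
    rw [h1, hρc, hB55, Nat.cast_ofNat, ← mul_assoc, mul_inv_cancel₀ (by norm_num), one_mul]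
    exact Finset.sum_congr rfl fun b _ => hI _
  obtain ⟨b, hb⟩ := Order95040.exists_intBasis ρ (ι := Unit) (κ := Unit) (fun _ => w)
    (fun _ => (55 : ℂ) • f)
    (fun _ g _ => ⟨∑ b : B, I (g * b), by simp [hf]⟩)
    (fun u hu => hsep u fun g => by simpa using hu () g)
    (by rw [← hspan]; congr 1; ext x; simp)
  have hfr : Module.finrank ℂ (Fin 21 → ℂ) = 21 := Module.finrank_fin_fun ℂ
  set b' := b.reindex (finCongr hfr) with hb'
  obtain ⟨R, hR⟩ := Order95040.exists_matHom ρ b' fun g => by
    obtain ⟨M, hM⟩ := hb (ρ g) fun a i => Submodule.subset_span ⟨(g * a, i), by simp⟩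
    exact ⟨M.submatrix (finCongr hfr).symm (finCongr hfr).symm, by
      rw [hb', ← Matrix.submatrix_map, ← hM]; ext i j; simp [LinearMap.toMatrix_apply]⟩
  refine ⟨R, fun g => ?_⟩
  rw [← hρc]
  show (Int.castRingHom ℂ) (R g).trace = LinearMap.trace ℂ _ (ρ g)
  rw [AddMonoidHom.map_trace, LinearMap.trace_eq_matrix_trace ℂ b', ← hR]

omit hG in
theorem red_ne_one_of_trace (Z : Matrix (Fin 21) (Fin 21) ℤ) (h1 : Z.trace = -1)
    (h2 : (Z * Z).trace = -1) : Order95040.red Z ≠ 1 := by
  intro h
  have hN : ∀ i j, (2 : ℤ) ∣ (Z - 1) i j := fun i j => by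
    rw [← Nat.cast_ofNat, ← ZMod.intCast_zmod_eq_zero_iff_dvd]
    have := congrFun (congrFun (show Order95040.red (Z - 1) = 0 by rw [map_sub, map_one, h, sub_self]) i) j
    simpa using this
  choose N hN using hN
  have hZ : Z = 1 + (2 : ℤ) • Matrix.of N := by
    ext i j
    simp only [Matrix.add_apply, Matrix.smul_apply, Matrix.of_apply, smul_eq_mul, ← hN]
    simp [Matrix.sub_apply]
  set M := Matrix.of N
  have e1 : (21 : ℤ) + 2 * M.trace = -1 := by
    rw [← h1, hZ, Matrix.trace_add, Matrix.trace_smul, Matrix.trace_one]; simp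
  have e2 : (21 : ℤ) + 4 * M.trace + 4 * (M * M).trace = -1 := by
    rw [← h2, hZ]
    simp only [mul_add, add_mul, one_mul, mul_one, Matrix.smul_mul, Matrix.mul_smul,
      Matrix.trace_add, Matrix.trace_smul, Matrix.trace_one, smul_eq_mul, Fintype.card_fin]
    ring
  omega

/-- A representation over two elements, nontrivial at the elements of order eleven. -/
theorem exists_modTwo :
    ∃ R : G →* Matrix (Fin 21) (Fin 21) (ZMod 2),
      (∀ z : G, orderOf z = 11 → R z ≠ 1) ∧
      ∀ g, ∃ v : ℤ, (T.c21 : G → ℂ) g = v ∧ (R g).trace = (v : ZMod 2) := by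
  obtain ⟨R, hR⟩ := exists_intRep hG T
  refine ⟨Order95040.red.toMonoidHom.comp R, fun z hz => ?_, fun g => ⟨(R g).trace, (hR g).symm, ?_⟩⟩
  · refine red_ne_one_of_trace (R z) ?_ ?_
    · exact_mod_cast (hR z).trans (val_of_eleven hG T hz).1
    · rw [← map_mul]
      have h2 : orderOf (z * z) = 11 := by rw [← pow_two, orderOf_pow, hz]; norm_num
      exact_mod_cast (hR (z * z)).trans (val_of_eleven hG T h2).1
  · show (Order95040.red (R g)).trace = _
    exact (AddMonoidHom.map_trace (Int.castRingHom (ZMod 2)).toAddMonoidHom (R g)).symm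

end CfsgLib.Blocks.Order443520
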