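import Cfsg.Agent.Lib.Blocks.Order443520.PairCount
import Cfsg.Agent.Lib.Blocks.Order443520.Checks

/-!
# The local data at the Sylow subgroups of prime order

For a prime `p` among 5, 7, 11 the structure `Local` records a Sylow subgroup, its centralizer
complement and the principal block.
-/

set_option autoImplicit false

namespace CfsgLib.Blocks.Order443520

open Cfsg CfsgLib CfsgLib.Char CfsgLib.CharIntegral CfsgLib.Blocks.PrimeSylow
open CfsgLib.Blocks.Order95040 (deg cent deg_cast deg_trivChar deg_eq_finrank)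
open scoped Classical ComplexConjugate

variable {G : Type*} [Group G] [Fintype G]

/-- The integer value of a character, zero if the value is no integer. -/
noncomputable def ival (g : G) (χ : IrrCharacter G) : ℤ :=
  if h : ∃ v : ℤ, (χ : G → ℂ) g = (v : ℂ) then h.choose else 0

theorem ival_eq {g : G} {χ : IrrCharacter G} {v : ℤ} (h : (χ : G → ℂ) g = (v : ℂ)) :
    ival g χ = v := by
  unfold ival
  rw [dif_pos ⟨v, h⟩]
  exact_mod_cast (Exists.choose_spec (⟨v, h⟩ : ∃ v : ℤ, (χ : G → ℂ) g = (v : ℂ))).symm.trans h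

/-- A character as a cell at `g`. -/
noncomputable def cell (g : G) (χ : IrrCharacter G) : Cell := (deg χ, ival g χ)

/-- The two-part. -/
theorem twoPart_eq {c a : ℕ} (h : c ∣ ord) (h1 : 2 ^ a ∣ c) (h2 : ¬ 2 ^ (a + 1) ∣ c) :
    twoPart c = 2 ^ a := by
  have ha : a ≤ 7 := by
    by_contra hlt
    exact absurd ((pow_dvd_pow 2 (show 8 ≤ a by omega)).trans (h1.trans h)) (by decide)
  have e : (List.range 8).filter (fun k => c % 2 ^ (k + 1) == 0) =
      (List.range 8).filter fun k => decide (k < a) := by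
    refine List.filter_congr fun k _ => Bool.eq_iff_iff.2 ?_
    rw [decide_eq_true_eq, beq_iff_eq, ← Nat.dvd_iff_mod_eq_zero]
    exact ⟨fun hk => by
      by_contra hlt
      exact h2 ((pow_dvd_pow 2 (show a + 1 ≤ k + 1 by omega)).trans hk),
      fun hk => (pow_dvd_pow 2 (show k + 1 ≤ a by omega)).trans h1⟩
  unfold twoPart
  rw [e]
  interval_cases a <;> rfl

/-- The Sylow data at a prime. -/
structure Local (G : Type*) [Group G] [Fintype G] (p : ℕ) where
  P : Subgroup G
  V : Subgroup G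
  e : ℕ
  setup : Setup p P V
  data : BlockData p P V e
  card_normalizer : Nat.card (Subgroup.normalizer (P : Set G)) = e * (p * Nat.card V)
  triv : trivChar G ∈ data.X
  cand : (e, Nat.card V) ∈ candList p

theorem not_prime_card (hG : Nat.card G = ord) : ¬ (Nat.card G).Prime := by
  rw [hG, ord]; norm_num

variable [IsSimpleGroup G] (hG : Nat.card G = ord)
include hG

theorem perfect : commutator G = ⊤ := perfect_of_card (not_prime_card hG)

omit [Fintype G] [IsSimpleGroup G] in
theorem cent_dvd (g : G) : cent g ∣ ord := hG ▸ Subgroup.card_subgroup_dvd_card _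

omit [IsSimpleGroup G] in
theorem cent_mul_index (g : G) :
    cent g * (Subgroup.centralizer ({g} : Set G)).index = ord :=
  (Subgroup.card_mul_index _).trans hG

omit [IsSimpleGroup G] in
theorem index_eq (g : G) : (Subgroup.centralizer ({g} : Set G)).index = ord / cent g := by
  rw [← cent_mul_index hG g]
  exact (Nat.mul_div_cancel_left _ Nat.card_pos).symm

theorem centralizer_ne_top {g : G} (hg : g ≠ 1) : Subgroup.centralizer ({g} : Set G) ≠ ⊤ :=
  fun h => hg (by
    have : g ∈ Subgroup.center G := Subgroup.mem_center_iff.2 fun y =>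
      Subgroup.mem_centralizer_singleton_iff.1
        (h ▸ Subgroup.mem_top y : y ∈ Subgroup.centralizer ({g} : Set G))
    rwa [center_eq_bot (perfect hG), Subgroup.mem_bot] at this)

theorem cent_le {g : G} (hg : g ≠ 1) : cent g ≤ 40320 := by
  have h := HallGen.Overgroup.card_dvd_factorial_index (centralizer_ne_top hG hg)
  have hm := cent_mul_index hG g
  set k := (Subgroup.centralizer ({g} : Set G)).index
  rw [hG] at h
  have h11 : 11 ≤ k := by
    by_contra hlt
    exact absurd (h.trans (Nat.factorial_dvd_factorial (show k ≤ 10 by omega))) (by decide)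
  have : 11 * cent g ≤ ord := hm ▸ by rw [mul_comm (cent g)]; exact Nat.mul_le_mul_right _ h11
  unfold ord at this
  omega

theorem cent_mem {s : G} (hs : orderOf s = 2) : cent s ∈ centList := by
  have hs1 : s ≠ 1 := fun e => by simp [e] at hs
  refine mem_centList (cent_dvd hG s) ?_ fun e => ?_
  · exact hs ▸ Subgroup.orderOf_dvd_natCard _ (Subgroup.mem_centralizer_singleton_iff.2 rfl)
  · have := cent_le hG hs1
    rw [e, ord] at this
    omega

omit [IsSimpleGroup G] in
theorem card_sylow {p : ℕ} [Fact p.Prime] (hp : p = 5 ∨ p = 7 ∨ p = 11) (P : Sylow p G) :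
    Nat.card (P : Subgroup G) = p := by
  have h : ∀ m, ord = p * m → ¬ p ∣ m → ord.factorization p = 1 := fun m e hm => by
    rw [e, Nat.factorization_mul (Fact.out : p.Prime).ne_zero
      (fun m0 => by rw [m0, mul_zero] at e; simp [ord] at e),
      Finsupp.add_apply, (Fact.out : p.Prime).factorization_self,
      Nat.factorization_eq_zero_of_not_dvd hm]
  rw [P.card_eq_multiplicity, hG]
  rcases hp with rfl | rfl | rfl
  · rw [h 88704 rfl (by norm_num), pow_one]
  · rw [h 63360 rfl (by norm_num), pow_one]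
  · rw [h 40320 rfl (by norm_num), pow_one]

/-- The local data exists. -/
theorem exists_local {p : ℕ} [Fact p.Prime] (hp : p = 5 ∨ p = 7 ∨ p = 11) :
    Nonempty (Local G p) := by
  obtain ⟨P⟩ : Nonempty (Sylow p G) := inferInstance
  have hPc := card_sylow hG hp P
  obtain ⟨V, hV⟩ := exists_setup hPc P.not_dvd_index
  have hp3 : 3 ≤ p := by rcases hp with rfl | rfl | rfl <;> norm_num
  obtain ⟨e, D, hN, ht⟩ := exists_blockData hV hp3 (perfect hG)
  obtain ⟨hn1, hn2⟩ := Order95040.sylow_count P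
  rw [hN, hG] at hn2
  set n := Nat.card (Sylow p G) with hn
  have hne : n ≠ 1 := fun h1 => by
    have : Subsingleton (Sylow p G) := (Nat.card_eq_one_iff_unique.1 h1).1
    have hnorm : (P : Subgroup G).Normal := Sylow.normal_of_subsingleton P
    rcases Subgroup.Normal.eq_bot_or_eq_top hnorm with h2 | h2
    · rw [h2, Subgroup.card_bot] at hPc; omega
    · rw [h2, Subgroup.card_top, hG, ord] at hPc; omega
  have hpm : ord = p * (n * (e * Nat.card V)) := by rw [← hn2]; ring
  have hdiv : ord / p = n * (e * Nat.card V) := by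
    rw [hpm, Nat.mul_div_cancel_left _ (by omega)]
  have hec : 0 < e * Nat.card V := by
    refine Nat.pos_of_ne_zero fun h0 => ?_
    rw [h0, mul_zero, mul_zero, ord] at hpm
    omega
  refine ⟨⟨P, V, e, hV, D, hN, ht, ?_⟩⟩
  simp only [candList, List.mem_flatMap, List.mem_filter, List.mem_range, List.mem_map,
    Prod.mk.injEq, Bool.and_eq_true, decide_eq_true_eq, beq_iff_eq, bne_iff_ne]
  have he0 : 0 < e := Nat.pos_of_mul_pos_right hec
  have he1 := D.e_ne_one (perfect hG) ht (by omega)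
  have hle := Nat.le_of_dvd (by omega) D.dvd_e
  refine ⟨e, ⟨by omega, by omega, Nat.mod_eq_zero_of_dvd D.dvd_e⟩, Nat.card V,
    ⟨mem_divs ⟨p * (n * e), by rw [hpm]; ring⟩, ⟨⟨⟨?_, ?_⟩, ?_⟩, ?_⟩⟩, rfl, rfl⟩
  · rw [hdiv]; exact Nat.mul_mod_left _ _
  · rw [hdiv, Nat.mul_div_cancel _ hec]; exact hn1
  · rw [hdiv, Nat.mul_div_cancel _ hec]; exact hne
  · intro h0
    obtain ⟨v, hv⟩ := exists_prime_orderOf_dvd_card' (G := V) p (Nat.dvd_of_mod_eq_zero h0)
    exact hV.not_dvd_orderOf v.2 (by rw [Subgroup.orderOf_coe, hv])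

namespace Local

variable {p : ℕ}

omit [IsSimpleGroup G] in
/-- An element whose centralizer has order divisible by `p` is conjugate into `V`. -/
theorem exists_mem_conj [Fact p.Prime] (hp : p = 5 ∨ p = 7 ∨ p = 11) (L : Local G p) {g : G}
    (hg : ¬ p ∣ orderOf g) (hc : p ∣ cent g) : ∃ v ∈ L.V, IsConj g v := by
  obtain ⟨x, hx⟩ := exists_prime_orderOf_dvd_card' (G := Subgroup.centralizer ({g} : Set G)) p hc
  have hxp : orderOf (x : G) = p := by rw [Subgroup.orderOf_coe, hx]
  obtain ⟨Q, hQ⟩ := Order95040.exists_sylow_mem hxp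
  obtain ⟨P0, hP0⟩ : ∃ P0 : Sylow p G, (P0 : Subgroup G) = L.P := by
    obtain ⟨P0, hP0⟩ := (IsPGroup.of_card (G := L.P) (n := 1)
      (by rw [L.setup.card, pow_one])).exists_le_sylow
    exact ⟨P0, (Subgroup.eq_of_le_of_card_ge hP0
      (le_of_eq ((card_sylow hG hp P0).trans L.setup.card.symm))).symm⟩
  obtain ⟨c, hc'⟩ := MulAction.exists_smul_eq G Q P0
  have hxP : c * (x : G) * c⁻¹ ∈ L.P := by
    rw [← hP0, ← hc', Sylow.coe_subgroup_smul]
    exact Subgroup.mem_pointwise_smul_iff_inv_smul_mem.2 (by simpa [mul_assoc] using hQ)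
  have hx1 : c * (x : G) * c⁻¹ ≠ 1 := fun e1 => by
    have h1 : orderOf (c * (x : G) * c⁻¹) = p :=
      (Order7920.orderOf_conj_eq' c (x : G)).trans hxp
    rw [e1, orderOf_one] at h1
    exact (Fact.out : p.Prime).ne_one h1.symm
  refine ⟨c * g * c⁻¹, (L.setup.mem_V _).2 ⟨?_, ?_⟩, isConj_iff.2 ⟨c, rfl⟩⟩
  · rw [← L.setup.centralizer_singleton hxP hx1, Subgroup.mem_centralizer_singleton_iff]
    have h2 := Subgroup.mem_centralizer_singleton_iff.1 x.2
    calc c * g * c⁻¹ * (c * x * c⁻¹) = c * (g * x) * c⁻¹ := by group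
      _ = c * (x * g) * c⁻¹ := by rw [h2]
      _ = _ := by group
  · rw [Order7920.orderOf_conj_eq']; exact hg

omit [IsSimpleGroup G] in
/-- A self-centralizing Sylow subgroup. -/
theorem not_dvd_cent [Fact p.Prime] (hp : p = 5 ∨ p = 7 ∨ p = 11) (L : Local G p)
    (hV : Nat.card L.V = 1) {g : G} (hg : ¬ p ∣ orderOf g) (hg1 : g ≠ 1) : ¬ p ∣ cent g := by
  intro hc
  obtain ⟨v, hv, hgv⟩ := L.exists_mem_conj hG hp hg hc
  rw [Subgroup.card_eq_one.1 hV, Subgroup.mem_bot] at hv
  exact hg1 (by simpa [hv, isConj_comm, isConj_one_right] using hgv)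

omit [IsSimpleGroup G] in
/-- A central involution of the centralizer. -/
theorem exists_involution [Fact p.Prime] (hp : p = 5 ∨ p = 7 ∨ p = 11) (L : Local G p)
    (hV : 2 ∣ Nat.card L.V) :
    ∃ s ∈ L.V, orderOf s = 2 ∧ sylok (cent s) p L.e (Nat.card L.V) = true := by
  have : Fact (Nat.Prime 2) := ⟨Nat.prime_two⟩
  obtain ⟨S⟩ : Nonempty (Sylow 2 L.V) := inferInstance
  obtain ⟨a, ha⟩ := S.isPGroup'.exists_card_eq
  have ha2 : ¬ 2 ^ (a + 1) ∣ Nat.card L.V := fun hd => by
    have h1 := S.card_eq_multiplicity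
    rw [ha] at h1
    have h2 := (Nat.Prime.pow_dvd_iff_le_factorization Nat.prime_two Nat.card_pos.ne').1 hd
    have := Nat.pow_right_injective (le_refl 2) h1
    omega
  have ha1 : 2 ^ a ∣ Nat.card L.V := ha ▸ Subgroup.card_subgroup_dvd_card _
  have : Nontrivial S := by
    rw [← Finite.one_lt_card_iff_nontrivial, ha]
    rcases a with _ | a
    · exact absurd (by simpa using hV) ha2
    · exact Nat.one_lt_two_pow (by omega)
  have := S.isPGroup'.center_nontrivial
  obtain ⟨z, hz⟩ := exists_prime_orderOf_dvd_card' (G := Subgroup.center (S : Subgroup L.V)) 2 (by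
    obtain ⟨b, hb⟩ := (S.isPGroup'.to_subgroup (Subgroup.center _)).exists_card_eq
    rw [hb]
    refine dvd_pow_self 2 fun hb0 => ?_
    have h1 : 1 < Nat.card (Subgroup.center (S : Subgroup L.V)) :=
      Finite.one_lt_card_iff_nontrivial.2 this
    rw [hb, hb0] at h1
    omega)
  set s : G := (((z : (S : Subgroup L.V)) : L.V) : G) with hsdef
  have hsV : s ∈ L.V := Subtype.coe_prop _
  have hs2 : orderOf s = 2 := by simp only [hsdef, Subgroup.orderOf_coe, hz]
  refine ⟨s, hsV, hs2, ?_⟩
  set N := Subgroup.normalizer (L.P : Set G) with hN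
  set K := Subgroup.centralizer ({s} : Set G) with hK
  set d := Nat.card (N ⊓ K : Subgroup G) with hd
  have hPK : L.P ≤ K := fun x hx =>
    Subgroup.mem_centralizer_singleton_iff.2 (L.setup.commute hx hsV).eq
  have hPNK : L.P ≤ N ⊓ K := le_inf Subgroup.le_normalizer hPK
  have hSNK : (S : Subgroup L.V).map L.V.subtype ≤ N ⊓ K := by
    rintro x ⟨y, hy, rfl⟩
    refine ⟨Blocks.centralizer_le_normalizer' L.P (L.setup.V_le y.2), Subgroup.mem_centralizer_singleton_iff.2 ?_⟩
    have h1 := Subgroup.mem_center_iff.1 z.2 ⟨y, hy⟩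
    exact congrArg (fun w : (S : Subgroup L.V) => ((w : L.V) : G)) h1
  have hd1 : p * 2 ^ a ∣ d := by
    refine Nat.Coprime.mul_dvd_of_dvd_of_dvd (Nat.Coprime.pow_right _ ?_) ?_ ?_
    · rcases hp with rfl | rfl | rfl <;> norm_num
    · exact L.setup.card ▸ Subgroup.card_dvd_of_le hPNK
    · refine dvd_trans (dvd_of_eq ?_) (Subgroup.card_dvd_of_le hSNK)
      rw [← ha]
      exact (Nat.card_congr (Subgroup.equivMapOfInjective _ _ L.V.subtype_injective).toEquiv)
  have hd2 : d ∣ L.e * p * Nat.card L.V := by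
    rw [mul_assoc, ← L.card_normalizer]
    exact Subgroup.card_dvd_of_le inf_le_left
  have hd3 : d ∣ cent s := Subgroup.card_dvd_of_le inf_le_right
  have hd4 : cent s / d % p = 1 := by
    have hcardP : Nat.card (L.P.subgroupOf K) = p := by
      rw [Nat.card_congr (Subgroup.subgroupOfEquivOfLe hPK).toEquiv, L.setup.card]
    obtain ⟨Q, hQ⟩ : ∃ Q : Sylow p K, (Q : Subgroup K) = L.P.subgroupOf K :=
      ⟨IsPGroup.toSylow (IsPGroup.of_card (n := 1) (by rw [hcardP, pow_one]))
        (fun hd => L.setup.not_dvd (hd.trans (Subgroup.relIndex_dvd_index_of_le hPK))), rfl⟩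
    obtain ⟨q1, q2⟩ := Order95040.sylow_count Q
    rw [hQ, ← Subgroup.subgroupOf_normalizer_eq hPK] at q2
    have hnd : Nat.card (N.subgroupOf K) = d := by
      rw [← Subgroup.inf_subgroupOf_right N K]
      exact Nat.card_congr (Subgroup.subgroupOfEquivOfLe inf_le_right).toEquiv
    rw [← hN, hnd] at q2
    show Nat.card K / d % p = 1
    rw [← q2, Nat.mul_div_cancel _ Nat.card_pos]
    exact q1
  have hpos : 0 < d := Nat.card_pos
  rw [sylok, twoPart_eq (hG ▸ Subgroup.card_subgroup_dvd_card L.V) ha1 ha2, Bool.and_eq_true,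
    beq_iff_eq, List.any_eq_true]
  refine ⟨Nat.mod_eq_zero_of_dvd (hd1.trans hd3), ?_⟩
  obtain ⟨i, hi⟩ := hd1
  have hpe : 0 < L.e * p * Nat.card L.V := by
    have := Nat.card_pos (α := N)
    rw [hN, L.card_normalizer, ← mul_assoc] at this
    exact this
  have hg0 : 0 < p * 2 ^ a := Nat.mul_pos (Fact.out : p.Prime).pos (Nat.two_pow_pos a)
  have hi0 : 0 < i := Nat.pos_of_ne_zero fun h => by rw [h, mul_zero] at hi; omega
  have hib : i ≤ min (cent s) (L.e * p * Nat.card L.V) / (p * 2 ^ a) :=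
    (Nat.le_div_iff_mul_le hg0).2 (le_min
      (by rw [mul_comm, ← hi]; exact Nat.le_of_dvd Nat.card_pos hd3)
      (by rw [mul_comm, ← hi]; exact Nat.le_of_dvd hpe hd2))
  refine ⟨i, List.mem_range.2 (by omega), ?_⟩
  rw [mul_comm i, ← hi]
  simp only [Bool.and_eq_true, beq_iff_eq, decide_eq_true_eq]
  exact ⟨⟨⟨hi0, Nat.mod_eq_zero_of_dvd hd2⟩, Nat.mod_eq_zero_of_dvd hd3⟩, hd4⟩

end Local

end CfsgLib.Blocks.Order443520
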