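import Cfsg.Agent.Lib.Blocks.Order443520.Candidate
import Cfsg.Agent.Lib.Blocks.Order443520.FalseCandidates
import Mathlib.LinearAlgebra.Matrix.Charpoly.Coeff

/-!
# A simple group of order 443520 is determined up to isomorphism
-/

set_option autoImplicit false
set_option maxRecDepth 10000

namespace CfsgLib.Blocks.Order443520

open Cfsg CfsgLib CfsgLib.Char CfsgLib.CharIntegral CfsgLib.Blocks.PrimeSylow Matrix
open CfsgLib.Blocks.Order95040 (deg cent)
open scoped Classical

theorem sub_one_pow_two_pow {R : Type*} [Ring R] [CharP R 2] (x : R) (n m : ℕ) (hm : m = 2 ^ n) :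
    (x - 1) ^ m = x ^ m - 1 := by
  subst hm
  rw [sub_pow_char_pow_of_commute (p := 2) (h := Commute.one_right x), one_pow]

theorem pow_eq_one_of_nilpotent {R : Type*} [Ring R] [CharP R 2] {x : R} {d n m : ℕ}
    (hd : (x - 1) ^ d = 0) (hdm : d ≤ m) (hm : m = 2 ^ n) : x ^ m = 1 := by
  rw [← sub_eq_zero, ← sub_one_pow_two_pow x n m hm]
  exact pow_eq_zero_of_le hdm hd

theorem pow_sixteen_aux {R : Type*} [Ring R] [CharP R 2] (x : R) (n : ℕ)
    (hd : ∀ N : R, IsNilpotent N → N ^ 10 = 0) (h : x ^ 2 ^ n = 1) : x ^ 16 = 1 := by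
  refine pow_eq_one_of_nilpotent (n := 4) (hd (x - 1) ⟨2 ^ n, ?_⟩) (by norm_num) (by norm_num)
  rw [sub_one_pow_two_pow x n _ rfl, h, sub_self]

theorem nilpotent_pow_ten {k : ℕ} {K : Type*} [Field K] (N : Matrix (Fin k) (Fin k) K)
    (hN : IsNilpotent N) : N ^ k = 0 := by
  have hc := (isNilpotent_charpoly_sub_pow_of_isNilpotent hN).eq_zero
  rw [sub_eq_zero, Fintype.card_fin] at hc
  have h10 := Matrix.aeval_self_charpoly N
  rwa [hc, map_pow, Polynomial.aeval_X] at h10

/-- A unipotent matrix of degree ten has order at most sixteen. -/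
theorem pow_sixteen {X : Matrix (Fin 10) (Fin 10) (ZMod 2)} {n : ℕ}
    (h : X ^ 2 ^ n = 1) : X ^ 16 = 1 :=
  pow_sixteen_aux X n (fun N => nilpotent_pow_ten N) h

variable {G : Type*} [Group G] [Fintype G] [IsSimpleGroup G] (hG : Nat.card G = ord)
include hG

/-- The possible element orders in a faithful representation of degree ten. -/
theorem pow_cases [Fintype (IrrCharacter G)] (T : Tbl G)
    (ψ : G →* Matrix (Fin 10) (Fin 10) (ZMod 2)) (hψ : Function.Injective ψ) (g : G) :
    g ^ 48 = 1 ∨ g ^ 5 = 1 ∨ g ^ 7 = 1 ∨ g ^ 11 = 1 := by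
  have h48 : orderOf g ∣ 384 → g ^ 48 = 1 := fun hd => by
    have h1 : ψ (g ^ 3) ^ 16 = 1 := pow_sixteen (n := 7) (by
      rw [← map_pow, ← pow_mul, show 3 * 2 ^ 7 = 384 from rfl, orderOf_dvd_iff_pow_eq_one.1 hd,
        map_one])
    refine hψ ?_
    rw [← map_pow, ← pow_mul] at h1
    rw [h1, map_one]
  by_cases h2 : 2 ∣ orderOf g
  · refine Or.inl (h48 ?_)
    have hs := orderOf_pow_orderOf_div (orderOf_pos g).ne' h2
    rw [← cent_involution hG T hs]
    exact Subgroup.orderOf_dvd_natCard _ (Subgroup.mem_centralizer_singleton_iff.2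
      (Commute.self_pow g _).eq)
  rcases odd_order hG T h2 with h | h | h | h | h
  · exact Or.inl (h48 (by rw [h]; norm_num))
  · exact Or.inl (h48 (by rw [h]; norm_num))
  · exact Or.inr (Or.inl (h ▸ pow_orderOf_eq_one g))
  · exact Or.inr (Or.inr (Or.inl (h ▸ pow_orderOf_eq_one g)))
  · exact Or.inr (Or.inr (Or.inr (h ▸ pow_orderOf_eq_one g)))

/-- The standard generators in suitable coordinates. -/
theorem exists_target : ∃ (z h y : G) (ψ : G →* Matrix (Fin 10) (Fin 10) (ZMod 2)),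
    orderOf z = 11 ∧ orderOf h = 5 ∧ h⁻¹ * z * h = z ^ 3 ∧ y⁻¹ * h * y = h ^ 2 ∧
    ψ z = toMat zP ∧ ψ h = toMat hP ∧ Function.Injective ψ ∧
    ψ y = toMat stdP := by
  have : Fintype (IrrCharacter G) := Fintype.ofFinite _
  obtain ⟨T⟩ := exists_tbl hG
  obtain ⟨z, h, y, ψ, hz, hho, hhz, hy, hψz, hψh, hinj⟩ := exists_std hG
  have hy4 := pow_four_eq_one hG T.L5 T.v5 hho hy
  have hψh2 : toMat hSqP = ψ (h ^ 2) := by
    rw [map_pow, hψh, pow_two, ← toMat_mulP]
    exact toMat_eq (by decide +kernel)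
  obtain ⟨P, hPe, hchk⟩ := exists_candidate (Y := ψ y)
    (by rw [hψh2, ← hψh, ← map_mul, ← map_mul, ← hy]; group)
    (by rw [← map_pow, hy4, map_one])
  rw [checkV, Bool.or_eq_true] at hchk
  have hmem : P ∈ survivors := by
    refine List.contains_iff_mem.1 (hchk.resolve_left fun hk => ?_)
    obtain ⟨w, -, hw⟩ := List.any_eq_true.1 hk
    simp only [badPow, Bool.not_eq_true', Bool.or_eq_false_iff] at hw
    obtain ⟨⟨⟨e1, e2⟩, e3⟩, e4⟩ := hw
    have hev := evalP_eq ψ hψz hψh hPe.symm w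
    rcases pow_cases hG T ψ hinj (evalW z h y w) with e | e | e | e
    · exact toMat_ne e1 (by rw [toMat_pow48P, ← hev, ← map_pow, e, map_one, toMat_oneP])
    · exact toMat_ne e2 (by rw [toMat_pow5P, ← hev, ← map_pow, e, map_one, toMat_oneP])
    · exact toMat_ne e3 (by rw [toMat_pow7P, ← hev, ← map_pow, e, map_one, toMat_oneP])
    · exact toMat_ne e4 (by rw [toMat_pow11P, ← hev, ← map_pow, e, map_one, toMat_oneP])
  have hmove := List.all_eq_true.1 moves_all P hmem
  simp only [moves, List.any_eq_true, Bool.or_eq_true, List.mem_range] at hmove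
  obtain ⟨i, -, hi⟩ := hmove
  have hpowP : ∀ i, toMat (hPowP i) = toMat hP ^ i := fun i => by
    induction i with
    | zero => exact toMat_oneP
    | succ i ih => rw [hPowP, toMat_mulP, ih, pow_succ']
  obtain ⟨w, hw⟩ : ∃ w, w = h ^ i * y := ⟨_, rfl⟩
  have hwh : w⁻¹ * h * w = h ^ 2 := by rw [← hy, hw]; group
  have hψw : ψ w = toMat (mulP (hPowP i) P) := by
    rw [hw, map_mul, map_pow, hψh, toMat_mulP, hpowP, hPe]
  suffices hs : ∃ ψ' : G →* Matrix (Fin 10) (Fin 10) (ZMod 2), ψ' z = toMat zP ∧ ψ' h = toMat hP ∧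
      Function.Injective ψ' ∧
      (ψ' w = toMat falseP ∨ ψ' w = toMat falseTwoP ∨ ψ' w = toMat stdP) by
    obtain ⟨ψ', h1, h2, h3, h4 | h4 | h4⟩ := hs
    · exact (no_false hG T subOk_one.1 subOk_one.2.1 subOk_one.2.2 ψ' h3 h1 h2 h4).elim
    · exact (no_false hG T subOk_two.1 subOk_two.2.1 subOk_two.2.2 ψ' h3 h1 h2 h4).elim
    · exact ⟨z, h, w, ψ', hz, hho, hhz, hwh, h1, h2, h3, h4⟩
  rcases hi with ⟨c, hc, S, hS, heq⟩ | ⟨c, hc, heq⟩
  · have hok := List.all_eq_true.1 conjs_ok c hc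
    simp only [Bool.and_eq_true] at hok
    obtain ⟨⟨⟨o1, o2⟩, o3⟩, o4⟩ := hok
    have p1 : toMat c.1 * toMat c.2 = 1 := by rw [← toMat_mulP, toMat_eq o1, toMat_oneP]
    have p2 : toMat c.2 * toMat c.1 = 1 := by rw [← toMat_mulP, toMat_eq o2, toMat_oneP]
    refine ⟨{ toFun := fun g => toMat c.1 * ψ g * toMat c.2
              map_one' := by rw [map_one, mul_one, p1]
              map_mul' := fun a b => by
                rw [map_mul, show toMat c.1 * ψ a * toMat c.2 * (toMat c.1 * ψ b * toMat c.2) =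
                  toMat c.1 * ψ a * (toMat c.2 * toMat c.1) * ψ b * toMat c.2 by
                    simp only [mul_assoc], p2, mul_one]
                simp only [mul_assoc] }, ?_, ?_, ?_, ?_⟩
    · show toMat c.1 * ψ z * toMat c.2 = _
      rw [hψz, ← toMat_mulP, ← toMat_mulP]; exact toMat_eq o3
    · show toMat c.1 * ψ h * toMat c.2 = _
      rw [hψh, ← toMat_mulP, ← toMat_mulP]; exact toMat_eq o4
    · intro a b e
      refine hinj ?_
      have e' := congrArg (fun M => toMat c.2 * M * toMat c.1) e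
      simp only [MonoidHom.coe_mk, OneHom.coe_mk, mul_assoc, p2, mul_one] at e'
      simpa only [← mul_assoc, p2, one_mul] using e'
    · have e : toMat c.1 * ψ w * toMat c.2 = toMat S := by
        rw [hψw, ← toMat_mulP, ← toMat_mulP]; exact toMat_eq heq
      simp only [List.mem_cons, List.not_mem_nil, or_false] at hS
      rcases hS with rfl | rfl | rfl
      · exact Or.inl e
      · exact Or.inr (Or.inl e)
      · exact Or.inr (Or.inr e)
  · have hok := List.all_eq_true.1 flips_ok c hc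
    simp only [Bool.and_eq_true] at hok
    obtain ⟨⟨⟨⟨o1, o2⟩, o3⟩, o4⟩, o5⟩ := hok
    have p1 : toMat c.1 * toMat c.2.1 = 1 := by rw [← toMat_mulP, toMat_eq o1, toMat_oneP]
    have p2 : toMat c.2.1 * toMat c.1 = 1 := by rw [← toMat_mulP, toMat_eq o2, toMat_oneP]
    have hinv : ∀ (g : G) (A B : ℕ), ψ g = toMat A → eqP (mulP A B) oneP = true →
        ψ g⁻¹ = toMat B := fun g A B e1 e2 => by
      rw [← mul_one (ψ g⁻¹), ← toMat_oneP, ← toMat_eq e2, toMat_mulP, ← e1, ← mul_assoc,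
        ← map_mul, inv_mul_cancel, map_one, one_mul]
    refine ⟨{ toFun := fun g => toMat c.1 * (ψ g⁻¹)ᵀ * toMat c.2.1
              map_one' := by rw [inv_one, map_one, Matrix.transpose_one, mul_one, p1]
              map_mul' := fun a b => by
                rw [_root_.mul_inv_rev, map_mul, Matrix.transpose_mul,
                  show toMat c.1 * (ψ a⁻¹)ᵀ * toMat c.2.1 * (toMat c.1 * (ψ b⁻¹)ᵀ * toMat c.2.1) =
                    toMat c.1 * (ψ a⁻¹)ᵀ * (toMat c.2.1 * toMat c.1) * (ψ b⁻¹)ᵀ * toMat c.2.1 by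
                      simp only [mul_assoc], p2, mul_one]
                simp only [mul_assoc] }, ?_, ?_, ?_, ?_⟩
    · show toMat c.1 * (ψ z⁻¹)ᵀ * toMat c.2.1 = _
      rw [hinv z _ _ hψz mul_zInvP, zInvTP_transpose, ← toMat_mulP, ← toMat_mulP]
      exact toMat_eq o3
    · show toMat c.1 * (ψ h⁻¹)ᵀ * toMat c.2.1 = _
      rw [hinv h _ _ hψh mul_hInvP, hInvTP_transpose, ← toMat_mulP, ← toMat_mulP]
      exact toMat_eq o4
    · intro a b e
      refine inv_injective (hinj (Matrix.transpose_injective ?_))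
      have e' := congrArg (fun M => toMat c.2.1 * M * toMat c.1) e
      simp only [MonoidHom.coe_mk, OneHom.coe_mk, mul_assoc, p2, mul_one] at e'
      simpa only [← mul_assoc, p2, one_mul] using e'
    · refine Or.inr (Or.inr ?_)
      show toMat c.1 * (ψ w⁻¹)ᵀ * toMat c.2.1 = _
      have hw4 := pow_four_eq_one hG T.L5 T.v5 hho hwh
      have e : ψ w⁻¹ = toMat c.2.2.2 := by
        rw [show w⁻¹ = w * w * w from inv_eq_of_mul_eq_one_right (by
          rw [← hw4]; simp [pow_succ, mul_assoc]), map_mul, map_mul, hψw, ← toMat_mulP,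
          ← toMat_mulP]
        exact toMat_eq heq
      rw [e, flips_transpose c hc, ← toMat_eq o5, toMat_mulP, toMat_mulP,
        show toMat c.1 * (toMat c.2.1 * toMat stdP * toMat c.1) * toMat c.2.1 =
          toMat c.1 * toMat c.2.1 * toMat stdP * (toMat c.1 * toMat c.2.1) by
            simp only [mul_assoc], p1, one_mul, mul_one]

omit [IsSimpleGroup G] in
/-- A subgroup containing the normalizer of a cyclic Sylow subgroup has index one modulo the
prime. -/
theorem index_mod {p : ℕ} [Fact p.Prime] (hp : p = 5 ∨ p = 11) (L : Local G p)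
    (hV : Nat.card L.V = 1) (U : Subgroup G) {x : G} (hx : orderOf x = p) (hxU : x ∈ U)
    {r : G} (hrU : r ∈ U) (hr : orderOf r = L.e)
    (hnorm : r⁻¹ * x * r ∈ Subgroup.zpowers x) :
    L.e * p ∣ Nat.card U ∧ U.index % p = 1 := by
  have hp' : p = 5 ∨ p = 7 ∨ p = 11 := hp.imp id Or.inr
  set W := Subgroup.zpowers (⟨x, hxU⟩ : U) with hW
  have hWc : Nat.card W = p := by rw [hW, Nat.card_zpowers, Subgroup.orderOf_mk, hx]
  obtain ⟨P0⟩ : Nonempty (Sylow p G) := inferInstance
  have hsq : ¬ p ∣ W.index := fun hd => by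
    have h1 : p * p ∣ Nat.card U := by
      rw [← W.card_mul_index, hWc]
      exact Nat.mul_dvd_mul_left p hd
    have h2 := h1.trans (hG ▸ Subgroup.card_subgroup_dvd_card U)
    rcases hp with rfl | rfl <;> norm_num [ord] at h2
  obtain ⟨S, hS⟩ : ∃ S : Sylow p U, (S : Subgroup U) = W :=
    ⟨IsPGroup.toSylow (IsPGroup.of_card (n := 1) (by rw [hWc, pow_one])) hsq, rfl⟩
  obtain ⟨q1, q2⟩ := Order95040.sylow_count S
  rw [hS] at q2
  obtain ⟨Q, hQ⟩ : ∃ Q : Sylow p G, (Q : Subgroup G) = Subgroup.zpowers x := by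
    obtain ⟨Q, hQ⟩ := Order95040.exists_sylow_mem hx
    exact ⟨Q, (Subgroup.eq_of_le_of_card_ge (Subgroup.zpowers_le.2 hQ)
      (by rw [card_sylow hG hp' Q, Nat.card_zpowers, hx])).symm⟩
  obtain ⟨t1, t2⟩ := Order95040.sylow_count Q
  obtain ⟨P1, hP1⟩ := (IsPGroup.of_card (G := L.P) (n := 1)
    (by rw [L.setup.card, pow_one])).exists_le_sylow
  have hP1' : (P1 : Subgroup G) = L.P := (Subgroup.eq_of_le_of_card_ge hP1
    (le_of_eq ((card_sylow hG hp' P1).trans L.setup.card.symm))).symm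
  have t3 := (Order95040.sylow_count P1).2
  rw [hP1', L.card_normalizer, hV, mul_one] at t3
  have hNx : Nat.card (Subgroup.normalizer (Subgroup.zpowers x : Set G)) = L.e * p := by
    rw [← hQ]
    exact Nat.eq_of_mul_eq_mul_left Nat.card_pos (t2.trans t3.symm)
  rw [hQ, hNx] at t2
  have hmap : W.map U.subtype = Subgroup.zpowers x := by
    rw [hW, MonoidHom.map_zpowers]; rfl
  have hdvd1 : Nat.card (Subgroup.normalizer (W : Set U)) ∣ L.e * p := by
    rw [← hNx, Nat.card_congr (Subgroup.equivMapOfInjective _ U.subtype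
      U.subtype_injective).toEquiv]
    refine Subgroup.card_dvd_of_le ?_
    rintro _ ⟨n, hn, rfl⟩
    refine Subgroup.mem_normalizer_iff.2 fun a => ?_
    rw [← hmap]
    constructor
    · rintro ⟨b, hb, rfl⟩
      exact ⟨n * b * n⁻¹, (Subgroup.mem_normalizer_iff.1 hn b).1 hb, rfl⟩
    · rintro ⟨b, hb, e⟩
      refine ⟨n⁻¹ * b * n, ?_, ?_⟩
      · simpa using (Subgroup.mem_normalizer_iff.1 (inv_mem hn) b).1 hb
      · simp only [map_mul, map_inv, e]; group
  have hrW : (⟨r, hrU⟩ : U)⁻¹ ∈ Subgroup.normalizer (W : Set U) := by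
    obtain ⟨m, hm⟩ := Subgroup.mem_zpowers_iff.1 hnorm
    have hfin : ∀ b ∈ W, (⟨r, hrU⟩ : U)⁻¹ * b * (⟨r, hrU⟩ : U)⁻¹⁻¹ ∈ W := by
      intro b hb
      obtain ⟨j, rfl⟩ := Subgroup.mem_zpowers_iff.1 hb
      refine Subgroup.mem_zpowers_iff.2 ⟨m * j, Subtype.ext ?_⟩
      push_cast
      rw [_root_.zpow_mul, hm, inv_inv]
      simpa using (conj_zpow (a := r⁻¹) (b := x) (i := j))
    exact Subgroup.mem_normalizer_fintype hfin
  have hdvd2 : L.e * p ∣ Nat.card (Subgroup.normalizer (W : Set U)) := by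
    refine Nat.Coprime.mul_dvd_of_dvd_of_dvd ?_ ?_
      (hWc ▸ Subgroup.card_dvd_of_le Subgroup.le_normalizer)
    · have he : L.e ∣ p - 1 := L.data.dvd_e
      have he0 : 0 < L.e := hr ▸ orderOf_pos r
      refine ((Nat.Prime.coprime_iff_not_dvd (Fact.out : p.Prime)).2 fun hd => ?_).symm
      have h1 := Nat.le_of_dvd he0 hd
      have h2 := Nat.le_of_dvd (by rcases hp with rfl | rfl <;> norm_num) he
      omega
    · have h1 := Subgroup.orderOf_dvd_natCard _ hrW
      rwa [orderOf_inv, Subgroup.orderOf_mk, hr] at h1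
  have hN : Nat.card (Subgroup.normalizer (W : Set U)) = L.e * p := Nat.dvd_antisymm hdvd1 hdvd2
  rw [hN] at q2
  refine ⟨Dvd.intro_left _ q2, ?_⟩
  have hidx := U.card_mul_index
  rw [← q2, ← t2, mul_right_comm] at hidx
  have he := Nat.eq_of_mul_eq_mul_right (hN ▸ Nat.card_pos) hidx
  rw [← he, Nat.mul_mod, q1, one_mul, Nat.mod_mod] at t1
  exact t1

/-- A simple group of order `443520` is isomorphic to the standard group of matrices. -/
theorem nonempty_mulEquiv_std :
    Nonempty (G ≃* (Submonoid.closure {toMat zP, toMat hP, toMat stdP} :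
      Submonoid (Matrix (Fin 10) (Fin 10) (ZMod 2)))) := by
  have : Fintype (IrrCharacter G) := Fintype.ofFinite _
  have : Fact (Nat.Prime 11) := ⟨by norm_num⟩
  have : Fact (Nat.Prime 5) := ⟨by norm_num⟩
  have : Fact (Nat.Prime 7) := ⟨by norm_num⟩
  obtain ⟨T⟩ := exists_tbl hG
  obtain ⟨z, h, y, ψ, hz, hho, hhz, hy, hψz, hψh, hinj, hψy⟩ := exists_target hG
  let U := Subgroup.closure ({z, h, y} : Set G)
  have hzU : z ∈ U := Subgroup.subset_closure (by simp)
  have hhU : h ∈ U := Subgroup.subset_closure (by simp)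
  have hyU : y ∈ U := Subgroup.subset_closure (by simp)
  have hy4 := pow_four_eq_one hG T.L5 T.v5 hho hy
  have hyo : orderOf y = 4 := by
    refine (orderOf_eq_prime_pow (p := 2) (n := 1) (fun e => ?_) (by simpa using hy4) :
      orderOf y = 2 ^ (1 + 1))
    have h2 : y * y = 1 := by rw [← pow_two]; simpa using e
    have e2 : h = h ^ 4 := by
      have hyi : y⁻¹ = y := inv_eq_of_mul_eq_one_right h2
      calc h = y⁻¹ * (y⁻¹ * h * y) * y := by rw [hyi]; simp [← mul_assoc, h2, mul_assoc _ y y]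
        _ = (y⁻¹ * h * y) ^ 2 := by rw [conj_pow_inv, hy]
        _ = h ^ 4 := by rw [hy, ← pow_mul]
    have e3 : h ^ 1 = h ^ 4 := by rw [pow_one]; exact e2
    rw [pow_inj_mod, hho] at e3
    norm_num at e3
  obtain ⟨d11, m11⟩ := index_mod hG (Or.inr rfl) T.L11 T.v11 U hz hzU hhU (hho.trans T.e11.symm)
    (hhz ▸ Subgroup.pow_mem _ (Subgroup.mem_zpowers z) 3)
  obtain ⟨d5, m5⟩ := index_mod hG (Or.inl rfl) T.L5 T.v5 U hho hhU hyU (hyo.trans T.e5.symm)
    (hy ▸ Subgroup.pow_mem _ (Subgroup.mem_zpowers h) 2)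
  have hU : U = ⊤ := by
    have h7 : 7 ∣ Nat.card U := by
      set u := evalW z h y [0, 2] with hu
      have huU : u ∈ U := by
        simp only [hu, evalW]; exact U.mul_mem hzU (U.mul_mem hyU U.one_mem)
      have hev := evalP_eq ψ hψz hψh hψy [0, 2]
      have h7 : orderOf u = 7 := orderOf_eq_prime (hinj (by
          rw [map_pow, hev, ← toMat_pow7P, toMat_eq eval_seven.1, toMat_oneP, map_one]))
        fun e => toMat_ne eval_seven.2 (by rw [← hev, ← hu, e, map_one, toMat_oneP])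
      exact h7 ▸ Subgroup.orderOf_dvd_natCard _ huU
    rw [T.e11] at d11
    rw [T.e5] at d5
    have hd : 1540 ∣ Nat.card U := by
      have h55 : 11 ∣ Nat.card U := (dvd_mul_left 11 5).trans d11
      exact (by norm_num : Nat.Coprime (20 * 7) 11).mul_dvd_of_dvd_of_dvd
        ((by norm_num : Nat.Coprime 20 7).mul_dvd_of_dvd_of_dvd d5 h7) h55
    obtain ⟨k, hk⟩ := hd
    have hmul := U.card_mul_index
    rw [hG, hk, ord] at hmul
    have hdvd : U.index ∣ 288 := ⟨k, by linarith⟩
    have key : ∀ j < 289, j ∣ 288 → j % 11 = 1 → j % 5 = 1 → j = 1 := by decide +kernel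
    exact Subgroup.index_eq_one.1
      (key _ (Nat.lt_succ_of_le (Nat.le_of_dvd (by norm_num) hdvd)) hdvd m11 m5)
  have hrange : MonoidHom.mrange ψ = Submonoid.closure {toMat zP, toMat hP, toMat stdP} := by
    refine le_antisymm ?_ (Submonoid.closure_le.2 ?_)
    · rintro _ ⟨g, rfl⟩
      let S := (Submonoid.closure {toMat zP, toMat hP, toMat stdP}).comap ψ
      have hg : g ∈ U := by rw [hU]; trivial
      induction hg using Subgroup.closure_induction with
      | mem x hx =>
        refine Submonoid.subset_closure ?_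
        rcases hx with rfl | rfl | rfl <;> simp [hψz, hψh, hψy]
      | one => rw [map_one]; exact Submonoid.one_mem _
      | mul a b _ _ ha hb => rw [map_mul]; exact Submonoid.mul_mem _ ha hb
      | inv a _ ha =>
        rw [show a⁻¹ = a ^ (orderOf a - 1) from inv_eq_of_mul_eq_one_right (by
          rw [← pow_succ', Nat.sub_add_cancel (orderOf_pos a), pow_orderOf_eq_one]), map_pow]
        exact Submonoid.pow_mem _ ha _
    · rintro x (rfl | rfl | rfl)
      · exact ⟨z, hψz⟩
      · exact ⟨h, hψh⟩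
      · exact ⟨y, hψy⟩
  exact ⟨(MulEquiv.ofBijective ψ.mrangeRestrict
    ⟨fun a b e => hinj (congrArg Subtype.val e), ψ.mrangeRestrict_surjective⟩).trans
    (MulEquiv.submonoidCongr hrange)⟩

end CfsgLib.Blocks.Order443520
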