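import Cfsg.Agent.Lib.Blocks.Order443520.Values
import Cfsg.Agent.Lib.Blocks.Order95040.SameCounts

/-!
# Order 443520 with the element order counts of the simple group

The counts at 7 and 11 are the only nontrivial ones not divisible by 7, respectively by 11, so a
group with these counts has Sylow normalizers of orders 21 and 55, and this forces simplicity.
-/

set_option autoImplicit false

namespace CfsgLib.Blocks.Order443520

open Cfsg CfsgLib CfsgLib.CharIntegral CfsgLib.Blocks.PrimeSylow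
open CfsgLib.Blocks.Order95040 (cent exists_sylow_mem sylow_count card_mod_eq_one)
open scoped Classical Pointwise

/-- The counts of the simple group modulo a prime with self-centralizing Sylow subgroup. -/
theorem counts_prime {M : Type*} [Group M] [Fintype M] [IsSimpleGroup M] (hM : Nat.card M = ord)
    {p : ℕ} [Fact p.Prime] (hp : p = 7 ∨ p = 11) (L : Local M p) (hV : Nat.card L.V = 1)
    {c n : ℕ} (hcn : c = Nat.card {g : M // orderOf g = n}) :
    c = 1 ∨ p ∣ c ∨ c = (p - 1) * (ord / (L.e * p)) := by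
  have hp' : p = 5 ∨ p = 7 ∨ p = 11 := Or.inr hp
  by_cases h1 : n = 1
  · left
    rw [hcn, h1, Nat.card_eq_one_iff_unique]
    exact ⟨⟨fun a b => Subtype.ext
      ((orderOf_eq_one_iff.1 a.2).trans (orderOf_eq_one_iff.1 b.2).symm)⟩,
      ⟨⟨1, orderOf_one⟩⟩⟩
  by_cases hnp : n = p
  · right; right
    obtain ⟨P1, hP1⟩ := (IsPGroup.of_card (G := L.P) (n := 1)
      (by rw [L.setup.card, pow_one])).exists_le_sylow
    have hP1' : (P1 : Subgroup M) = L.P := (Subgroup.eq_of_le_of_card_ge hP1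
      (le_of_eq ((card_sylow hM hp' P1).trans L.setup.card.symm))).symm
    have t3 := (sylow_count P1).2
    rw [hP1', L.card_normalizer, hV, mul_one, hM] at t3
    have hpos : 0 < L.e * p := Nat.pos_of_ne_zero fun e => by
      rw [e, mul_zero] at t3; simp [ord] at t3
    rw [hcn, hnp, CfsgLib.Perm.card_orderOf_eq_prime P1 (card_sylow hM hp' P1), ← t3,
      Nat.mul_div_cancel _ hpos]
  right; left
  obtain ⟨z, hz⟩ := exists_prime_orderOf_dvd_card' (G := M) p
    (by rw [hM]; rcases hp with rfl | rfl <;> norm_num [ord])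
  let S := Subgroup.zpowers z
  let act : MulAction S {g : M // orderOf g = n} :=
    { smul := fun s g => ⟨(s : M) * g * (s : M)⁻¹, by
        rw [CfsgLib.Perm.orderOf_conj_eq]; exact g.2⟩
      one_smul := fun g => Subtype.ext (by show ((1 : S) : M) * g * ((1 : S) : M)⁻¹ = g; simp)
      mul_smul := fun s t g => Subtype.ext (by
        show ((s * t : S) : M) * g * ((s * t : S) : M)⁻¹ = s * (t * g * (t : M)⁻¹) * (s : M)⁻¹
        rw [Subgroup.coe_mul]; group) }
  have hS : IsPGroup p S := IsPGroup.of_card (n := 1) (by rw [Nat.card_zpowers, hz, pow_one])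
  have h := hS.card_modEq_card_fixedPoints (α := {g : M // orderOf g = n})
  have h0 : Nat.card (MulAction.fixedPoints S {g : M // orderOf g = n}) = 0 := by
    rw [Nat.card_eq_zero]
    refine Or.inl ⟨fun a => ?_⟩
    have e : z * (a.1 : M) * z⁻¹ = (a.1 : M) :=
      congrArg Subtype.val (a.2 ⟨z, Subgroup.mem_zpowers z⟩)
    have hm : (a.1 : M) ∈ Subgroup.centralizer ({z} : Set M) :=
      Subgroup.mem_centralizer_singleton_iff.2 (mul_inv_eq_iff_eq_mul.1 e).symm
    have hd := Subgroup.orderOf_dvd_natCard _ hm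
    rw [show Nat.card (Subgroup.centralizer ({z} : Set M)) = p * Nat.card L.V from
      L.cent_of_orderOf hM hp' hz, hV, mul_one, a.1.2] at hd
    rcases (Nat.dvd_prime (Fact.out : p.Prime)).1 hd with h | h
    · exact h1 h
    · exact hnp h
  rw [h0, ← hcn] at h
  exact Nat.modEq_zero_iff_dvd.1 h

/-- The counts of the simple group. -/
theorem counts_simple {M : Type*} [Group M] [Finite M] [IsSimpleGroup M]
    (hM : Nat.card M = ord) {c n : ℕ} (hcn : c = Nat.card {g : M // orderOf g = n}) :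
    (c = 1 ∨ 7 ∣ c ∨ c = 126720) ∧ (c = 1 ∨ 11 ∣ c ∨ c = 80640) := by
  have := Fintype.ofFinite M
  have : Fact (Nat.Prime 5) := ⟨Nat.prime_five⟩
  have : Fact (Nat.Prime 7) := ⟨by norm_num⟩
  have : Fact (Nat.Prime 11) := ⟨by norm_num⟩
  obtain ⟨L5⟩ := exists_local hM (p := 5) (Or.inl rfl)
  obtain ⟨L7⟩ := exists_local hM (p := 7) (Or.inr (Or.inl rfl))
  obtain ⟨L11⟩ := exists_local hM (p := 11) (Or.inr (Or.inr rfl))
  obtain ⟨-, ⟨e7, v7⟩⟩ := shapes hM L5 L7 L11
  obtain ⟨e11, v11⟩ := eleven_shape hM L11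
  constructor
  · have h := counts_prime hM (Or.inl rfl) L7 v7 hcn
    rwa [e7] at h
  · have h := counts_prime hM (Or.inr rfl) L11 v11 hcn
    rwa [e11] at h

variable {G : Type*} [Group G] [Finite G] (hG : Nat.card G = ord)
include hG

/-- The orders of the Sylow normalizers and small centralizers from the counts. -/
theorem normalizer_of_counts {p N : ℕ} [Fact p.Prime] (hp : p = 7 ∨ p = 11)
    (hcnt : ∀ c n : ℕ, 0 < c → c = Nat.card {g : G // orderOf g = n} →
      c = 1 ∨ p ∣ c ∨ c = (p - 1) * (ord / N)) (hN : N * (ord / N) = ord)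
    {R : Subgroup G} (hR : Nat.card R = p) :
    Nat.card (Subgroup.normalizer (R : Set G)) = N := by
  have := Fintype.ofFinite G
  have hp' : p = 5 ∨ p = 7 ∨ p = 11 := Or.inr hp
  obtain ⟨Q, hQ⟩ := (IsPGroup.of_card (G := R) (n := 1) (by rw [hR, pow_one])).exists_le_sylow
  have hQc := card_sylow hG hp' Q
  have hQR : (Q : Subgroup G) = R := (Subgroup.eq_of_le_of_card_ge hQ (by rw [hQc, hR])).symm
  obtain ⟨q1, q2⟩ := sylow_count Q
  rw [hQR, hG] at q2
  have hc := CfsgLib.Perm.card_orderOf_eq_prime Q hQc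
  have hpos : 0 < Nat.card (Sylow p G) := Nat.card_pos
  have hn : Nat.card (Sylow p G) = ord / N := by
    have hp1 : 0 < p - 1 := by rcases hp with rfl | rfl <;> norm_num
    rcases hcnt _ p (Nat.mul_pos hp1 hpos) hc.symm with h | h | h
    · have h1 : p - 1 = 1 := Nat.eq_one_of_mul_eq_one_right h
      rcases hp with rfl | rfl <;> norm_num at h1
    · have h' : p ∣ Nat.card (Sylow p G) :=
        (show Nat.Coprime p (p - 1) by rcases hp with rfl | rfl <;> norm_num).dvd_of_dvd_mul_left h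
      rw [Nat.mod_eq_zero_of_dvd h'] at q1
      omega
    · exact Nat.eq_of_mul_eq_mul_left hp1 h
  rw [hn] at q2
  have : 0 < ord / N := hn ▸ hpos
  exact Nat.eq_of_mul_eq_mul_left this (by rw [q2, mul_comm, hN])

/-- A group of order 443520 with only such counts is simple. -/
theorem isSimple_of_counts
    (hcnt : ∀ c n : ℕ, 0 < c → c = Nat.card {g : G // orderOf g = n} →
      (c = 1 ∨ 7 ∣ c ∨ c = 126720) ∧ (c = 1 ∨ 11 ∣ c ∨ c = 80640)) : IsSimpleGroup G := by
  have : Fact (Nat.Prime 7) := ⟨by norm_num⟩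
  have : Fact (Nat.Prime 11) := ⟨by norm_num⟩
  have hN7 : ∀ R : Subgroup G, Nat.card R = 7 →
      Nat.card (Subgroup.normalizer (R : Set G)) = 21 := fun R hR =>
    normalizer_of_counts hG (Or.inl rfl) (fun c n h e => (hcnt c n h e).1) (by norm_num [ord]) hR
  have hN11 : ∀ R : Subgroup G, Nat.card R = 11 →
      Nat.card (Subgroup.normalizer (R : Set G)) = 55 := fun R hR =>
    normalizer_of_counts hG (Or.inr rfl) (fun c n h e => (hcnt c n h e).2) (by norm_num [ord]) hR
  have hcentral : ∀ (z g : G) (N : ℕ), Commute g z →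
      Nat.card (Subgroup.normalizer (Subgroup.zpowers z : Set G)) = N → orderOf g ∣ N :=
    fun z g N hgz hN => hN ▸ Subgroup.orderOf_dvd_natCard _ (Subgroup.centralizer_le_normalizer _
      (Subgroup.mem_centralizer_iff.2 fun x hx => by
        obtain ⟨i, rfl⟩ := Subgroup.mem_zpowers_iff.1 hx
        exact (hgz.symm.zpow_left i).eq))
  -- the Frattini argument
  have hfrattini : ∀ (K : Subgroup G), K.Normal → ∀ (q : ℕ) [Fact q.Prime], q ∣ Nat.card K →
      ∃ (R : Subgroup G) (a : ℕ), R ≤ K ∧ Nat.card R = q ^ a ∧ a ≠ 0 ∧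
        K.index ∣ Nat.card (Subgroup.normalizer (R : Set G)) := by
    intro K hK q _ hqK
    obtain ⟨P⟩ : Nonempty (Sylow q K) := inferInstance
    obtain ⟨a, ha⟩ := P.isPGroup'.exists_card_eq
    refine ⟨(P : Subgroup K).map K.subtype, a, Subgroup.map_subtype_le _, ?_, ?_, ?_⟩
    · rw [← ha]
      exact (Nat.card_congr ((P : Subgroup K).equivMapOfInjective K.subtype
        K.subtype_injective).toEquiv).symm
    · intro e
      have := P.dvd_card_of_dvd_card hqK
      rw [ha, e, pow_zero] at this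
      exact (Fact.out : q.Prime).not_dvd_one this
    · rw [← Subgroup.relIndex_top_right K, ← Sylow.normalizer_sup_eq_top P,
        Subgroup.relIndex_sup_right]
      exact Subgroup.index_dvd_card _
  have hnodvd : ∀ (K : Subgroup G), K.Normal → ∀ (p N q : ℕ) [Fact p.Prime] [Fact q.Prime],
      ¬ p ∣ Nat.card K → p ∣ ord →
      (∀ R : Subgroup G, Nat.card R = p → Nat.card (Subgroup.normalizer (R : Set G)) = N) →
      Nat.Coprime q N → (∀ a < 19, a ≠ 0 → q ^ a ∣ ord → q ^ a % p ≠ 1) →
      ¬ q ∣ Nat.card K := by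
    intro K hK p N q _ _ hpK hpord hN hqN hmod hqK
    obtain ⟨R, a, hRK, hRc, ha, hidx⟩ := hfrattini K hK q hqK
    have hpi : p ∣ K.index := by
      have h := K.index_mul_card
      rw [hG] at h
      exact ((Nat.Prime.coprime_iff_not_dvd (Fact.out : p.Prime)).2 hpK).dvd_of_dvd_mul_right
        (h.symm ▸ hpord)
    obtain ⟨⟨z, hzN⟩, hz⟩ := exists_prime_orderOf_dvd_card'
      (G := Subgroup.normalizer (R : Set G)) p (hpi.trans hidx)
    rw [← Subgroup.orderOf_coe] at hz
    have h1 := card_mod_eq_one hz R hzN fun g hg hc => by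
      have hd1 := hcentral z g N hc (hN _ (by rw [Nat.card_zpowers]; exact hz))
      have hd2 := Subgroup.orderOf_dvd_natCard _ hg
      rw [hRc] at hd2
      exact orderOf_eq_one_iff.1 (Nat.eq_one_of_dvd_coprimes (hqN.symm.pow_right a) hd1 hd2)
    rw [hRc] at h1
    have hdvd : q ^ a ∣ ord := hG ▸ hRc ▸ Subgroup.card_subgroup_dvd_card R
    refine hmod a ?_ ha hdvd h1
    by_contra hlt
    have h2 : q ^ a ≤ ord := Nat.le_of_dvd (by norm_num [ord]) hdvd
    have h3 : 2 ^ 19 ≤ q ^ a := (Nat.pow_le_pow_left (Fact.out : q.Prime).two_le 19).trans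
      (Nat.pow_le_pow_right (Fact.out : q.Prime).pos (Nat.le_of_not_lt hlt))
    norm_num [ord] at h2 h3
    omega
  have : Nontrivial G := Finite.one_lt_card_iff_nontrivial.1 (by rw [hG]; norm_num [ord])
  refine ⟨fun K hK => ?_⟩
  have hmul := K.index_mul_card
  rw [hG] at hmul
  by_cases h11 : 11 ∣ Nat.card K
  · right
    have hi11 : ¬ 11 ∣ K.index := fun h => by
      have h2 := Nat.mul_dvd_mul h h11
      rw [hmul] at h2
      norm_num [ord] at h2
    obtain ⟨R, a, -, hRc, ha, hidx⟩ := hfrattini K hK 11 h11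
    obtain rfl : a = 1 := by
      by_contra ha1
      have h2 : 11 ^ 2 ∣ ord := (pow_dvd_pow 11 (show 2 ≤ a by omega)).trans
        (hG ▸ hRc ▸ Subgroup.card_subgroup_dvd_card R)
      norm_num [ord] at h2
    rw [hN11 R (by rw [hRc, pow_one])] at hidx
    have hi5 : K.index ∣ 5 := ((Nat.Prime.coprime_iff_not_dvd (by norm_num)).2 hi11).symm
      |>.dvd_of_dvd_mul_left hidx
    have h7 : 7 ∣ Nat.card K := by
      have h : 7 ∣ K.index * Nat.card K := hmul ▸ by norm_num [ord]
      exact ((by norm_num : Nat.Prime 7).dvd_mul.1 h).resolve_left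
        fun h => absurd (h.trans hi5) (by norm_num)
    obtain ⟨R7, b, -, hR7c, hb, hidx7⟩ := hfrattini K hK 7 h7
    obtain rfl : b = 1 := by
      by_contra hb1
      have h2 : 7 ^ 2 ∣ ord := (pow_dvd_pow 7 (show 2 ≤ b by omega)).trans
        (hG ▸ hR7c ▸ Subgroup.card_subgroup_dvd_card R7)
      norm_num [ord] at h2
    rw [hN7 R7 (by rw [hR7c, pow_one])] at hidx7
    exact Subgroup.index_eq_one.1
      (Nat.eq_one_of_dvd_coprimes (by norm_num : Nat.Coprime 5 21) hi5 hidx7)
  left
  have : Fact (Nat.Prime 2) := ⟨Nat.prime_two⟩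
  have : Fact (Nat.Prime 3) := ⟨Nat.prime_three⟩
  have : Fact (Nat.Prime 5) := ⟨Nat.prime_five⟩
  have h2 := hnodvd K hK 11 55 2 h11 (by norm_num [ord]) hN11 (by norm_num) (by decide +kernel)
  have h3 := hnodvd K hK 11 55 3 h11 (by norm_num [ord]) hN11 (by norm_num) (by decide +kernel)
  have h7 := hnodvd K hK 11 55 7 h11 (by norm_num [ord]) hN11 (by norm_num) (by decide +kernel)
  have h5 := hnodvd K hK 7 21 5 h7 (by norm_num [ord]) hN7 (by norm_num) (by decide +kernel)
  refine Subgroup.card_eq_one.1 (Nat.eq_one_of_dvd_coprimes ?_ dvd_rfl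
    (show Nat.card K ∣ 2 ^ 7 * 3 ^ 2 * 5 * 7 * 11 from Dvd.intro_left _ hmul))
  have cop : ∀ q, q.Prime → ¬ q ∣ Nat.card K → (Nat.card K).Coprime q := fun q hq h =>
    ((Nat.Prime.coprime_iff_not_dvd hq).2 h).symm
  exact Nat.Coprime.mul_right (Nat.Coprime.mul_right (Nat.Coprime.mul_right (Nat.Coprime.mul_right
    ((cop 2 Nat.prime_two h2).pow_right 7) ((cop 3 Nat.prime_three h3).pow_right 2))
    (cop 5 Nat.prime_five h5)) (cop 7 (by norm_num) h7)) (cop 11 (by norm_num) h11)

end CfsgLib.Blocks.Order443520
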