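import Mathlib.Algebra.BigOperators.Group.Multiset.Basic
import Mathlib.Data.Int.Lemmas
import Mathlib.Tactic

/-!
# Searches for columns of principal blocks at an involution, order 443520

A column is a list of pairs of a degree and a value at the involution.
-/

set_option autoImplicit false

namespace CfsgLib.Blocks.Order443520

/-- The order. -/
def ord : ℕ := 443520

/-- A degree with a value. -/
abbrev Cell : Type := ℕ × ℤ

/-- The sign of a degree congruent to `±1`. -/
def sgn (p d : ℕ) : ℤ := if d % p == 1 then 1 else -1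

/-- The possible degrees other than one. -/
def degList : List ℕ := (List.range 666).filter fun d => decide (1 < d) && ord % d == 0

/-- The conditions on a nontrivial value at an involution with centralizer order `C`. -/
def okv (C d : ℕ) (v : ℤ) : Bool :=
  ((d : ℤ) - v) % 4 == 0 && decide (v.natAbs < d) && decide (v.natAbs * v.natAbs < C) &&
    ((ord / C : ℕ) : ℤ) * v % (d : ℤ) == 0

/-- The values below a bound. -/
def valuesFor (d : ℕ) (m : ℕ) : List ℤ :=
  (List.range (2 * min d m + 1)).map fun a : ℕ => (a : ℤ) - (min d m : ℕ)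

/-- A bound for the values. -/
def valueBound (C : ℕ) : ℕ := ((List.range 212).filter fun k => decide (k * k < C)).length

/-- The conditions on a degree congruent to `±1` in the block. -/
def okd (p c d : ℕ) : Bool :=
  (d % p == 1 || d % p == p - 1) && ord / (p * c) % d == 0 && (c == 1 || decide (p ≤ d))

/-- The values allowed at a degree. -/
def valsAt (p C : ℕ) (cong : Bool) (d : ℕ) : List ℤ :=
  (valuesFor d (valueBound C)).filter fun v =>
    okv C d v && (!cong || (v - sgn p d) % (p : ℤ) == 0)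

/-- A degree with its values and the least square of a value. -/
structure Grp where
  d : ℕ
  mn : ℕ
  vs : List ℤ

/-- The least square in a list. -/
def minSq : List ℤ → ℕ
  | [] => 0
  | [v] => v.natAbs * v.natAbs
  | v :: u :: l => min (v.natAbs * v.natAbs) (minSq (u :: l))

/-- The possible degrees with their values. -/
def groups (p c C : ℕ) (cong : Bool) : List Grp :=
  (degList.filter (okd p c)).filterMap fun d =>
    match valsAt p C cong d with
    | [] => none
    | v :: l => some ⟨d, minSq (v :: l), v :: l⟩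

/-- The possible non-exceptional cells. -/
def types (p c C : ℕ) (cong : Bool) : List Cell :=
  (degList.filter (okd p c)).flatMap fun d => (valsAt p C cong d).map fun v => (d, v)

/-- Running sums of the values. -/
structure St where
  sq : ℕ
  L : ℤ
  acc : List Cell

/-- Add a cell. -/
def St.step (A : St) (p : ℕ) (t : Cell) : St :=
  ⟨A.sq + t.2.natAbs * t.2.natAbs, A.L + sgn p t.1 * t.2, t :: A.acc⟩

/-- Running sums of the degrees. -/
structure Dt where
  ms : ℕ
  sd : ℕ
  S : ℤ
  acc : List Grp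

/-- Add a degree. -/
def Dt.step (A : Dt) (p : ℕ) (g : Grp) : Dt :=
  ⟨A.ms + g.mn, A.sd + g.d * g.d, A.S + sgn p g.d * (g.d : ℤ), g :: A.acc⟩

/-- The start for the values. -/
def start (p : ℕ) : List Cell → St
  | [] => ⟨1, 1, []⟩
  | t :: l => (start p l).step p t

/-- The start for the degrees. -/
def dstart (p : ℕ) : List Cell → Dt
  | [] => ⟨1, 1, 1, []⟩
  | t :: l => ⟨(dstart p l).ms + t.2.natAbs * t.2.natAbs, (dstart p l).sd + t.1 * t.1,
      (dstart p l).S + sgn p t.1 * (t.1 : ℤ), []⟩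

/-- The weighted sum of squares of the values. -/
def qsum (p : ℕ) (acc : List Cell) : ℤ :=
  (acc.map fun t => sgn p t.1 * (t.2 * t.2) * ((ord / t.1 : ℕ) : ℤ)).sum

/-- All choices of values for the chosen degrees, within the budget. -/
def valGo (p bud : ℕ) (f : St → List (List Cell)) : List Grp → St → List (List Cell)
  | [], A => f A
  | g :: gs, A => g.vs.flatMap fun v =>
    if A.sq + v.natAbs * v.natAbs ≤ bud then valGo p bud f gs (A.step p (g.d, v)) else []

/-- All multisets of `k` more degrees within the budgets. -/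
def degGo (p bud bud2 : ℕ) (f : Dt → List (List Cell)) :
    ℕ → List Grp → Dt → List (List Cell)
  | 0, _, A => f A
  | k + 1, gs, A => gs.tails.flatMap fun l =>
    match l with
    | [] => []
    | g :: _ => if decide (A.sd + g.d * g.d ≤ bud2) && decide (A.ms + g.mn ≤ bud) then
        degGo p bud bud2 f k l (A.step p g) else []

/-- The test on the value of the exceptional member. -/
def finVal (p e c C : ℕ) (cong : Bool) (bud y : ℕ) (ε : ℤ) (A : St) : List (List Cell) :=
  if okv C y (ε * A.L) &&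
      decide (A.sq + (p - 1) / e * ((ε * A.L).natAbs * (ε * A.L).natAbs) ≤ bud) &&
      ((p - 1) / e != 1 || !cong || (ε * A.L + ε) % (p : ℤ) == 0) &&
      ((List.range (c + 1)).any fun j => (e % 2 == 0 || j == 0) &&
        (c : ℤ) * ((ord / C : ℕ) : ℤ) * ((ord / C : ℕ) : ℤ) *
            ((ord : ℤ) + qsum p A.acc - ε * ((ε * A.L) * (ε * A.L)) * ((ord / y : ℕ) : ℤ)) ==
          (p : ℤ) * (j : ℤ) * (j : ℤ) * (ord : ℤ) * (ord : ℤ))
  then [A.acc ++ List.replicate ((p - 1) / e) (y, ε * A.L)] else []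

/-- The test on the degree of the exceptional member. -/
def finDeg (p e c C : ℕ) (cong : Bool) (init : List Cell) (bud bud2 : ℕ) (A : Dt) :
    List (List Cell) :=
  if decide (1 < A.S.natAbs) && ord % A.S.natAbs == 0 &&
      ((A.S.natAbs : ℤ) - (if 0 ≤ A.S then (1 : ℤ) else -1) * (e : ℤ)) % (p : ℤ) == 0 &&
      decide (A.sd + (p - 1) / e * (A.S.natAbs * A.S.natAbs) ≤ bud2) &&
      ((p - 1) / e != 1 ||
        (ord / (p * c) % A.S.natAbs == 0 && (c == 1 || decide (p ≤ A.S.natAbs))))
  then valGo p bud (finVal p e c C cong bud A.S.natAbs (if 0 ≤ A.S then 1 else -1)) A.acc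
    (start p init)
  else []

/-- The columns extending `init` within the budgets. -/
def cols (p e c C : ℕ) (cong : Bool) (init : List Cell) (bud bud2 : ℕ) : List (List Cell) :=
  degGo p bud bud2 (finDeg p e c C cong init bud bud2) (e - 1 - init.length)
    (groups p c C cong) (dstart p init)

/-- The sums of the values of a multiset of cells. -/
structure Rep (p : ℕ) (A : St) (M : Multiset Cell) : Prop where
  sq : A.sq = 1 + (M.map fun t => t.2.natAbs * t.2.natAbs).sum
  L : A.L = 1 + (M.map fun t => sgn p t.1 * t.2).sum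
  acc : (A.acc : Multiset Cell) = M

theorem Rep.step {p : ℕ} {A : St} {M : Multiset Cell} (h : Rep p A M) (t : Cell) :
    Rep p (A.step p t) (t ::ₘ M) := by
  refine ⟨?_, ?_, ?_⟩
  · simp only [St.step, h.sq, Multiset.map_cons, Multiset.sum_cons]; omega
  · simp only [St.step, h.L, Multiset.map_cons, Multiset.sum_cons]; ring
  · simp only [St.step, ← h.acc, Multiset.cons_coe]

theorem rep_start (p : ℕ) : ∀ l : List Cell, Rep p (start p l) (l : Multiset Cell)
  | [] => ⟨rfl, rfl, rfl⟩
  | t :: l => by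
    rw [← Multiset.cons_coe]
    exact (rep_start p l).step t

/-- The sums of the degrees of fixed cells and of chosen degrees. -/
structure DRep (p : ℕ) (A : Dt) (M : Multiset Cell) (D : Multiset Grp) : Prop where
  ms : A.ms = 1 + (M.map fun t => t.2.natAbs * t.2.natAbs).sum + (D.map fun g => g.mn).sum
  sd : A.sd = 1 + (M.map fun t => t.1 * t.1).sum + (D.map fun g => g.d * g.d).sum
  S : A.S = 1 + (M.map fun t => sgn p t.1 * (t.1 : ℤ)).sum +
    (D.map fun g => sgn p g.d * (g.d : ℤ)).sum
  acc : (A.acc : Multiset Grp) = D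

theorem DRep.step {p : ℕ} {A : Dt} {M : Multiset Cell} {D : Multiset Grp} (h : DRep p A M D)
    (g : Grp) : DRep p (A.step p g) M (g ::ₘ D) := by
  refine ⟨?_, ?_, ?_, ?_⟩
  · simp only [Dt.step, h.ms, Multiset.map_cons, Multiset.sum_cons]; omega
  · simp only [Dt.step, h.sd, Multiset.map_cons, Multiset.sum_cons]; omega
  · simp only [Dt.step, h.S, Multiset.map_cons, Multiset.sum_cons]; ring
  · simp only [Dt.step, ← h.acc, Multiset.cons_coe]

theorem drep_start (p : ℕ) : ∀ l : List Cell, DRep p (dstart p l) (l : Multiset Cell) 0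
  | [] => ⟨rfl, rfl, rfl, rfl⟩
  | t :: l => by
    have h := drep_start p l
    refine ⟨?_, ?_, ?_, rfl⟩
    · simp only [dstart, h.ms, ← Multiset.cons_coe, Multiset.map_cons, Multiset.sum_cons]; omega
    · simp only [dstart, h.sd, ← Multiset.cons_coe, Multiset.map_cons, Multiset.sum_cons]; omega
    · simp only [dstart, h.S, ← Multiset.cons_coe, Multiset.map_cons, Multiset.sum_cons]; ring

theorem exists_first {α : Type*} {M : Multiset α} (hM : M ≠ 0) :
    ∀ ts : List α, (∀ t ∈ M, t ∈ ts) →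
      ∃ t rest, (t :: rest) ∈ ts.tails ∧ t ∈ M ∧ ∀ u ∈ M, u ∈ t :: rest
  | [], h => by
    obtain ⟨t, ht⟩ := Multiset.exists_mem_of_ne_zero hM
    exact absurd (h t ht) List.not_mem_nil
  | a :: ts, h => by
    by_cases ha : a ∈ M
    · exact ⟨a, ts, by simp, ha, h⟩
    · obtain ⟨t, rest, h1, h2, h3⟩ := exists_first hM ts fun u hu =>
        (List.mem_cons.1 (h u hu)).resolve_left fun e => ha (e ▸ hu)
      refine ⟨t, rest, ?_, h2, h3⟩
      rw [List.mem_tails] at h1 ⊢
      exact h1.trans (List.suffix_cons a ts)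

theorem degGo_sound {p bud bud2 : ℕ} {f : Dt → List (List Cell)} {k : ℕ} {gs : List Grp} {A : Dt}
    {M : Multiset Cell} {D₀ : Multiset Grp} (hA : DRep p A M D₀) (D : Multiset Grp)
    (hc : Multiset.card D = k) (hgs : ∀ g ∈ D, g ∈ gs)
    (h1 : 1 + (M.map fun t => t.2.natAbs * t.2.natAbs).sum +
      ((D₀ + D).map fun g => g.mn).sum ≤ bud)
    (h2 : 1 + (M.map fun t => t.1 * t.1).sum + ((D₀ + D).map fun g => g.d * g.d).sum ≤ bud2) :
    ∃ A', DRep p A' M (D₀ + D) ∧ ∀ L ∈ f A', L ∈ degGo p bud bud2 f k gs A := by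
  induction k generalizing gs A D D₀ with
  | zero =>
    rw [Multiset.card_eq_zero] at hc
    subst hc
    rw [add_zero]
    exact ⟨A, hA, fun L hL => hL⟩
  | succ k ih =>
    obtain ⟨g, rest, m1, m2, m3⟩ := exists_first (M := D) (by
      intro e; rw [e, Multiset.card_zero] at hc; omega) gs hgs
    obtain ⟨D', rfl⟩ := Multiset.exists_cons_of_mem m2
    have e : D₀ + g ::ₘ D' = (g ::ₘ D₀) + D' := by rw [Multiset.cons_add, Multiset.add_cons]
    rw [e] at h1 h2 ⊢
    obtain ⟨A', hA', hL⟩ := ih (hA.step g) D' (by rw [Multiset.card_cons] at hc; omega)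
      (fun u hu => m3 u (Multiset.mem_cons_of_mem hu)) h1 h2
    refine ⟨A', hA', fun L hL' => ?_⟩
    rw [degGo, List.mem_flatMap]
    refine ⟨_, m1, ?_⟩
    simp only [Multiset.cons_add, Multiset.map_cons, Multiset.sum_cons, Multiset.map_add,
      Multiset.sum_add] at h1 h2
    have g1 := hA.ms
    have g2 := hA.sd
    dsimp only
    rw [if_pos]
    · exact hL L hL'
    · simp only [Bool.and_eq_true, decide_eq_true_eq]
      omega

theorem valGo_sound {p bud : ℕ} {f : St → List (List Cell)} (grp : Cell → Grp) :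
    ∀ (gs : List Grp) {A : St} {M₀ : Multiset Cell}, Rep p A M₀ → ∀ M : Multiset Cell,
      M.map grp = (gs : Multiset Grp) → (∀ t ∈ M, (grp t).d = t.1 ∧ t.2 ∈ (grp t).vs) →
      1 + ((M₀ + M).map fun t => t.2.natAbs * t.2.natAbs).sum ≤ bud →
      ∃ A', Rep p A' (M₀ + M) ∧ ∀ L ∈ f A', L ∈ valGo p bud f gs A
  | [], A, M₀, hA, M, hM, _, _ => by
    rw [Multiset.coe_nil, Multiset.map_eq_zero] at hM
    subst hM
    rw [add_zero]
    exact ⟨A, hA, fun L hL => hL⟩
  | g :: gs, A, M₀, hA, M, hM, hmem, hb => by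
    obtain ⟨t, ht, rfl⟩ := Multiset.mem_map.1
      (show g ∈ M.map grp by rw [hM]; exact Multiset.mem_coe.2 List.mem_cons_self)
    obtain ⟨M', rfl⟩ := Multiset.exists_cons_of_mem ht
    rw [Multiset.map_cons, ← Multiset.cons_coe, Multiset.cons_inj_right] at hM
    have e : M₀ + t ::ₘ M' = (t ::ₘ M₀) + M' := by rw [Multiset.cons_add, Multiset.add_cons]
    rw [e] at hb ⊢
    obtain ⟨A', hA', hL⟩ := valGo_sound grp gs (hA.step t) M' hM
      (fun u hu => hmem u (Multiset.mem_cons_of_mem hu)) hb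
    refine ⟨A', hA', fun L hL' => ?_⟩
    obtain ⟨h1, h2⟩ := hmem t (Multiset.mem_cons_self t M')
    rw [valGo, List.mem_flatMap]
    refine ⟨t.2, h2, ?_⟩
    simp only [Multiset.cons_add, Multiset.map_cons, Multiset.sum_cons, Multiset.map_add,
      Multiset.sum_add] at hb
    have g1 := hA.sq
    rw [if_pos (by omega), h1]
    exact hL L hL'

theorem minSq_le : ∀ {l : List ℤ} {v : ℤ}, v ∈ l → minSq l ≤ v.natAbs * v.natAbs
  | [], v, h => absurd h List.not_mem_nil
  | [u], v, h => by rw [List.mem_singleton.1 h]; exact le_rfl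
  | u :: w :: l, v, h => by
    rw [minSq]
    rcases List.mem_cons.1 h with rfl | h
    · exact min_le_left _ _
    · exact (min_le_right _ _).trans (minSq_le h)

theorem mem_types {p c C : ℕ} {cong : Bool} {t : Cell} :
    t ∈ types p c C cong ↔
      t.1 ∈ degList ∧ okd p c t.1 = true ∧ t.2 ∈ valsAt p C cong t.1 := by
  simp only [types, List.mem_flatMap, List.mem_filter, List.mem_map]
  constructor
  · rintro ⟨d, ⟨h1, h2⟩, v, hv, rfl⟩
    exact ⟨h1, h2, hv⟩
  · rintro ⟨h1, h2, h3⟩
    exact ⟨t.1, ⟨h1, h2⟩, t.2, h3, rfl⟩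

theorem exists_grp {p c C : ℕ} {cong : Bool} (t : Cell) (ht : t ∈ types p c C cong) :
    ∃ g ∈ groups p c C cong, g.d = t.1 ∧ g.mn ≤ t.2.natAbs * t.2.natAbs ∧ t.2 ∈ g.vs := by
  obtain ⟨h1, h2, h3⟩ := mem_types.1 ht
  rcases hv : valsAt p C cong t.1 with _ | ⟨v, l⟩
  · rw [hv] at h3; exact absurd h3 List.not_mem_nil
  rw [hv] at h3
  refine ⟨⟨t.1, minSq (v :: l), v :: l⟩, List.mem_filterMap.2
    ⟨t.1, List.mem_filter.2 ⟨h1, h2⟩, by rw [hv]⟩, rfl, minSq_le h3, h3⟩

/-- The conditions satisfied by a column. -/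
structure IsCol (p e c C : ℕ) (cong : Bool) (M : Multiset Cell) (yw : Cell) (ε : ℤ) : Prop where
  card : Multiset.card M = e - 1
  mem : ∀ t ∈ M, t ∈ types p c C cong
  sgn_cases : ε = 1 ∨ ε = -1
  one_lt : 1 < yw.1
  dvd : ord % yw.1 = 0
  modp : ((yw.1 : ℤ) - ε * (e : ℤ)) % (p : ℤ) = 0
  ok : okv C yw.1 yw.2 = true
  deg_sum : ε * (yw.1 : ℤ) = 1 + (M.map fun t => sgn p t.1 * (t.1 : ℤ)).sum
  val_sum : ε * yw.2 = 1 + (M.map fun t => sgn p t.1 * t.2).sum
  single : (p - 1) / e = 1 → ord / (p * c) % yw.1 = 0 ∧ (c = 1 ∨ p ≤ yw.1) ∧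
    (cong = true → (yw.2 + ε) % (p : ℤ) = 0)
  pairs : ∃ j : ℕ, j ≤ c ∧ (e % 2 = 1 → j = 0) ∧
    (c : ℤ) * ((ord / C : ℕ) : ℤ) * ((ord / C : ℕ) : ℤ) *
        ((ord : ℤ) + (M.map fun t => sgn p t.1 * (t.2 * t.2) * ((ord / t.1 : ℕ) : ℤ)).sum -
          ε * (yw.2 * yw.2) * ((ord / yw.1 : ℕ) : ℤ)) =
      (p : ℤ) * (j : ℤ) * (j : ℤ) * (ord : ℤ) * (ord : ℤ)

/-- All members of a column. -/
def colCells (p e : ℕ) (M : Multiset Cell) (yw : Cell) : Multiset Cell :=
  M + Multiset.replicate ((p - 1) / e) yw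

/-- A column within the budgets is found. -/
theorem cols_sound {p e c C : ℕ} {cong : Bool} {M : Multiset Cell} {yw : Cell} {ε : ℤ}
    (h : IsCol p e c C cong M yw ε) {init : List Cell} (hinit : (init : Multiset Cell) ≤ M)
    {bud bud2 : ℕ}
    (h1 : 1 + ((colCells p e M yw).map fun t => t.2.natAbs * t.2.natAbs).sum ≤ bud)
    (h2 : 1 + ((colCells p e M yw).map fun t => t.1 * t.1).sum ≤ bud2) :
    ∃ L ∈ cols p e c C cong init bud bud2, (L : Multiset Cell) = colCells p e M yw := by
  obtain ⟨M', rfl⟩ := Multiset.le_iff_exists_add.1 hinit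
  simp only [colCells, Multiset.map_add, Multiset.sum_add, Multiset.map_replicate,
    Multiset.sum_replicate, smul_eq_mul] at h1 h2
  have hc : Multiset.card M' = e - 1 - init.length := by
    have := h.card
    rw [Multiset.card_add, Multiset.coe_card] at this
    omega
  have hmem : ∀ t ∈ M', t ∈ types p c C cong := fun t ht =>
    h.mem t (Multiset.mem_add.2 (Or.inr ht))
  have hex : ∀ t : Cell, ∃ g : Grp, t ∈ M' →
      g ∈ groups p c C cong ∧ g.d = t.1 ∧ g.mn ≤ t.2.natAbs * t.2.natAbs ∧ t.2 ∈ g.vs := fun t => by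
    by_cases ht : t ∈ M'
    · obtain ⟨g, hg⟩ := exists_grp t (hmem t ht)
      exact ⟨g, fun _ => hg⟩
    · exact ⟨⟨0, 0, []⟩, fun h => absurd h ht⟩
  choose grp hgrp using hex
  have hd2 : (M'.map grp).map (fun g => g.d * g.d) = M'.map fun t => t.1 * t.1 := by
    rw [Multiset.map_map]
    exact Multiset.map_congr rfl fun t ht => by simp [(hgrp t ht).2.1]
  have hS2 : (M'.map grp).map (fun g => sgn p g.d * (g.d : ℤ)) =
      M'.map fun t => sgn p t.1 * (t.1 : ℤ) := by
    rw [Multiset.map_map]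
    exact Multiset.map_congr rfl fun t ht => by simp [(hgrp t ht).2.1]
  have hmn : ((M'.map grp).map fun g => g.mn).sum ≤
      (M'.map fun t => t.2.natAbs * t.2.natAbs).sum := by
    rw [Multiset.map_map]
    exact Multiset.sum_map_le_sum_map _ _ fun t ht => (hgrp t ht).2.2.1
  obtain ⟨A', hA', hL⟩ := degGo_sound (bud := bud) (bud2 := bud2)
    (f := finDeg p e c C cong init bud bud2) (k := e - 1 - init.length)
    (gs := groups p c C cong) (drep_start p init)
    (M'.map grp) (by rw [Multiset.card_map, hc])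
    (fun g hg => by obtain ⟨t, ht, rfl⟩ := Multiset.mem_map.1 hg; exact (hgrp t ht).1)
    (by rw [zero_add]; omega) (by rw [zero_add, hd2]; omega)
  rw [zero_add] at hA'
  have hS : A'.S = ε * (yw.1 : ℤ) := by
    rw [hA'.S, hS2, h.deg_sum, Multiset.map_add, Multiset.sum_add]; ring
  have hy : A'.S.natAbs = yw.1 := by
    rw [hS]; rcases h.sgn_cases with rfl | rfl <;> simp
  have hε : (if 0 ≤ A'.S then (1 : ℤ) else -1) = ε := by
    have := h.one_lt
    rw [hS]
    rcases h.sgn_cases with rfl | rfl <;> (split_ifs <;> omega)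
  obtain ⟨B, hB, hBL⟩ := valGo_sound (p := p) (bud := bud)
    (f := finVal p e c C cong bud yw.1 ε) grp A'.acc (rep_start p init) M' hA'.acc.symm
    (fun t ht => ⟨(hgrp t ht).2.1, (hgrp t ht).2.2.2⟩)
    (by rw [Multiset.map_add, Multiset.sum_add]; omega)
  have hw : ε * B.L = yw.2 := by
    rw [hB.L, ← h.val_sum, ← mul_assoc]
    rcases h.sgn_cases with rfl | rfl <;> simp
  have hq : qsum p B.acc =
      (((init : Multiset Cell) + M').map
        fun t => sgn p t.1 * (t.2 * t.2) * ((ord / t.1 : ℕ) : ℤ)).sum := by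
    rw [← hB.acc, Multiset.map_coe, Multiset.sum_coe, qsum]
  refine ⟨B.acc ++ List.replicate ((p - 1) / e) yw, hL _ ?_, ?_⟩
  · have hd := hA'.sd
    rw [hd2] at hd
    simp only [finDeg, hy, hε]
    rw [if_pos]
    · refine hBL _ ?_
      have hs := hB.sq
      simp only [Multiset.map_add, Multiset.sum_add] at hs
      obtain ⟨j, hj, hj0, hje⟩ := h.pairs
      simp only [finVal, hw]
      rw [if_pos]
      · exact List.mem_singleton.2 rfl
      simp only [Bool.and_eq_true, decide_eq_true_eq, beq_iff_eq, Bool.or_eq_true,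
        bne_iff_ne, ne_eq, List.any_eq_true, Bool.not_eq_true']
      refine ⟨⟨⟨h.ok, by omega⟩, ?_⟩, j, List.mem_range.2 (by omega), ?_, ?_⟩
      · by_cases ht : (p - 1) / e = 1
        · cases cong
          · exact Or.inl (Or.inr rfl)
          · exact Or.inr ((h.single ht).2.2 rfl)
        · exact Or.inl (Or.inl ht)
      · rcases Nat.mod_two_eq_zero_or_one e with he | he
        · exact Or.inl he
        · exact Or.inr (hj0 he)
      · rw [hq]; exact hje
    · simp only [Bool.and_eq_true, decide_eq_true_eq, beq_iff_eq, Bool.or_eq_true,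
        bne_iff_ne, ne_eq]
      refine ⟨⟨⟨⟨h.one_lt, h.dvd⟩, h.modp⟩, by omega⟩, ?_⟩
      by_cases ht : (p - 1) / e = 1
      · exact Or.inr ⟨(h.single ht).1, (h.single ht).2.1⟩
      · exact Or.inl ht
  · rw [colCells, ← hB.acc, ← Multiset.coe_replicate, Multiset.coe_add]

end CfsgLib.Blocks.Order443520
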