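import Cfsg.Agent.Lib.Blocks.Order443520.Checks

/-!
# The table for the Sylow 11-subgroup
-/

set_option autoImplicit false

set_option maxHeartbeats 4000000

namespace CfsgLib.Blocks.Order443520

theorem evens_eleven : (candList 11).filter (fun ec => ec.2 % 2 == 0) =
    [(2, 30), (2, 140), (2, 8), (2, 360), (2, 1680), (2, 96), (2, 448), (5, 12), (5, 56), (5, 144), (5, 672), (10, 6), (10, 28), (10, 72), (10, 336)] := by decide +kernel

theorem none_11_2_30 : centList.all (fun C => noneChk 11 2 30 C) = true := by
  decide +kernel

theorem none_11_2_140 : centList.all (fun C => noneChk 11 2 140 C) = true := by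
  decide +kernel

theorem none_11_2_8 : centList.all (fun C => noneChk 11 2 8 C) = true := by
  decide +kernel

theorem none_11_2_360 : centList.all (fun C => noneChk 11 2 360 C) = true := by
  decide +kernel

theorem none_11_2_1680 : centList.all (fun C => noneChk 11 2 1680 C) = true := by
  decide +kernel

theorem none_11_2_96 : centList.all (fun C => noneChk 11 2 96 C) = true := by
  decide +kernel

theorem none_11_2_448 : centList.all (fun C => noneChk 11 2 448 C) = true := by
  decide +kernel

theorem none_11_5_12 : centList.all (fun C => noneChk 11 5 12 C) = true := by
  decide +kernel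

theorem none_11_5_56 : centList.all (fun C => noneChk 11 5 56 C) = true := by
  decide +kernel

theorem none_11_5_144 : centList.all (fun C => noneChk 11 5 144 C) = true := by
  decide +kernel

theorem none_11_5_672 : centList.all (fun C => noneChk 11 5 672 C) = true := by
  decide +kernel

theorem none_11_10_6 : centList.all (fun C => noneChk 11 10 6 C) = true := by
  decide +kernel

theorem none_11_10_28 : centList.all (fun C => noneChk 11 10 28 C) = true := by
  decide +kernel

theorem none_11_10_72 : centList.all (fun C => noneChk 11 10 72 C) = true := by
  decide +kernel

theorem none_11_10_336 : centList.all (fun C => noneChk 11 10 336 C) = true := by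
  decide +kernel

theorem none_eleven : ∀ ec ∈ (candList 11).filter (fun ec => ec.2 % 2 == 0),
    centList.all (fun C => noneChk 11 ec.1 ec.2 C) = true := by
  rw [evens_eleven]
  simp only [List.forall_mem_cons]
  exact ⟨none_11_2_30, none_11_2_140, none_11_2_8, none_11_2_360, none_11_2_1680, none_11_2_96, none_11_2_448, none_11_5_12, none_11_5_56, none_11_5_144, none_11_5_672, none_11_10_6, none_11_10_28, none_11_10_72, none_11_10_336, fun _ h => absurd h List.not_mem_nil⟩

end CfsgLib.Blocks.Order443520
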