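import Cfsg.Agent.Lib.Blocks.Order443520.Checks

/-!
# The table for the Sylow 5-subgroup, the largest case
-/

set_option autoImplicit false

set_option maxHeartbeats 4000000

namespace CfsgLib.Blocks.Order443520

/-- The check on one column at a central involution, `p = 5`, `e = 4`. -/
def fiveChk (C : ℕ) (b : List Cell) : Bool :=
  (elevenCols C b).all fun a =>
    (patFive.any fun P => (a.map Prod.fst).isPerm P) &&
      if (5 : ℕ) == 5 then C % 7 == 0 || thirdSeven C (a ++ onP 11 b)
      else C % 5 == 0 || thirdFive C (a ++ onP 11 b)

theorem all_of_blocks {α : Type*} (f : α → Bool) :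
    ∀ (n : ℕ) (l : List α), (∀ k < n, ((l.drop (3 * k)).take 3).all f = true) →
      (l.drop (3 * n)).all f = true → l.all f = true
  | 0, l, _, h => h
  | n + 1, l, h1, h2 => by
    refine all_of_blocks f n l (fun k hk => h1 k (Nat.lt_succ_of_lt hk)) ?_
    rw [← List.take_append_drop 3 (l.drop (3 * n)), List.all_append, List.drop_drop,
      h1 n (Nat.lt_succ_self n), Bool.true_and, ← Nat.mul_succ]
    exact h2

theorem five_320_0 : (((cols 5 4 16 320 true [] 320 ord).drop 0).take 3).all (fiveChk 320) = true := by
  decide +kernel

theorem five_320_1 : (((cols 5 4 16 320 true [] 320 ord).drop 3).take 3).all (fiveChk 320) = true := by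
  decide +kernel

theorem five_320_2 : (((cols 5 4 16 320 true [] 320 ord).drop 6).take 3).all (fiveChk 320) = true := by
  decide +kernel

theorem five_320_3 : (((cols 5 4 16 320 true [] 320 ord).drop 9).take 3).all (fiveChk 320) = true := by
  decide +kernel

theorem five_320_4 : (((cols 5 4 16 320 true [] 320 ord).drop 12).take 3).all (fiveChk 320) = true := by
  decide +kernel

theorem five_320_5 : (((cols 5 4 16 320 true [] 320 ord).drop 15).take 3).all (fiveChk 320) = true := by
  decide +kernel

theorem five_320_6 : (((cols 5 4 16 320 true [] 320 ord).drop 18).take 3).all (fiveChk 320) = true := by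
  decide +kernel

theorem five_320_rest : ((cols 5 4 16 320 true [] 320 ord).drop 21).all (fiveChk 320) = true := by
  decide +kernel

theorem pair_16_320 : pairChk 5 4 16 320 patFive = true := by
  have h : (cols 5 4 16 320 true [] 320 ord).all (fiveChk 320) = true :=
    all_of_blocks _ 7 _ (fun k hk => match k, hk with
      | 0, _ => five_320_0
      | 1, _ => five_320_1
      | 2, _ => five_320_2
      | 3, _ => five_320_3
      | 4, _ => five_320_4
      | 5, _ => five_320_5
      | 6, _ => five_320_6
      | (k + 7), h => absurd h (by omega)) five_320_rest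
  exact Bool.or_eq_true_iff.2 (Or.inr h)

theorem five_1920_0 : (((cols 5 4 16 1920 true [] 1920 ord).drop 0).take 3).all (fiveChk 1920) = true := by
  decide +kernel

theorem five_1920_1 : (((cols 5 4 16 1920 true [] 1920 ord).drop 3).take 3).all (fiveChk 1920) = true := by
  decide +kernel

theorem five_1920_2 : (((cols 5 4 16 1920 true [] 1920 ord).drop 6).take 3).all (fiveChk 1920) = true := by
  decide +kernel

theorem five_1920_3 : (((cols 5 4 16 1920 true [] 1920 ord).drop 9).take 3).all (fiveChk 1920) = true := by
  decide +kernel

theorem five_1920_4 : (((cols 5 4 16 1920 true [] 1920 ord).drop 12).take 3).all (fiveChk 1920) = true := by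
  decide +kernel

theorem five_1920_rest : ((cols 5 4 16 1920 true [] 1920 ord).drop 15).all (fiveChk 1920) = true := by
  decide +kernel

theorem pair_16_1920 : pairChk 5 4 16 1920 patFive = true := by
  have h : (cols 5 4 16 1920 true [] 1920 ord).all (fiveChk 1920) = true :=
    all_of_blocks _ 5 _ (fun k hk => match k, hk with
      | 0, _ => five_1920_0
      | 1, _ => five_1920_1
      | 2, _ => five_1920_2
      | 3, _ => five_1920_3
      | 4, _ => five_1920_4
      | (k + 5), h => absurd h (by omega)) five_1920_rest
  exact Bool.or_eq_true_iff.2 (Or.inr h)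

theorem pair_16_other :
    centList.all (fun C => C == 320 || C == 1920 || pairChk 5 4 16 C patFive) = true := by
  decide +kernel

theorem pair_5_4_16 : centList.all (fun C => pairChk 5 4 16 C patFive) = true := by
  refine List.all_eq_true.2 fun C hC => ?_
  have h := List.all_eq_true.1 pair_16_other C hC
  simp only [Bool.or_eq_true, beq_iff_eq] at h
  rcases h with (rfl | rfl) | h
  · exact pair_16_320
  · exact pair_16_1920
  · exact h

end CfsgLib.Blocks.Order443520
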