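import Cfsg.Agent.Lib.Blocks.Order443520.TablesFiveTwo
import Cfsg.Agent.Lib.Blocks.Order443520.TablesFiveSixteen

/-!
# The table for the Sylow 5-subgroup
-/

set_option autoImplicit false

set_option maxHeartbeats 4000000

namespace CfsgLib.Blocks.Order443520

theorem evens_five : (candList 5).filter (fun ec => ec.2 % 2 == 0 && ec.2 % 11 != 0) =
    [(2, 2), (2, 42), (2, 12), (2, 252), (2, 72), (2, 112), (2, 32), (2, 672), (2, 192), (2, 4032), (4, 6), (4, 126), (4, 36), (4, 56), (4, 16), (4, 336), (4, 96), (4, 2016)] := by decide +kernel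

theorem pair_5_4_6 : centList.all (fun C => pairChk 5 4 6 C patFive) = true := by
  decide +kernel

theorem pair_5_4_126 : centList.all (fun C => pairChk 5 4 126 C patFive) = true := by
  decide +kernel

theorem pair_5_4_36 : centList.all (fun C => pairChk 5 4 36 C patFive) = true := by
  decide +kernel

theorem pair_5_4_56 : centList.all (fun C => pairChk 5 4 56 C patFive) = true := by
  decide +kernel

theorem pair_5_4_336 : centList.all (fun C => pairChk 5 4 336 C patFive) = true := by
  decide +kernel

theorem pair_5_4_96 : centList.all (fun C => pairChk 5 4 96 C patFive) = true := by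
  decide +kernel

theorem pair_5_4_2016 : centList.all (fun C => pairChk 5 4 2016 C patFive) = true := by
  decide +kernel

theorem pair_five : ∀ ec ∈ (candList 5).filter (fun ec => ec.2 % 2 == 0 && ec.2 % 11 != 0),
    centList.all (fun C => pairChk 5 ec.1 ec.2 C patFive) = true := by
  rw [evens_five]
  simp only [List.forall_mem_cons]
  exact ⟨pair_5_2_2, pair_5_2_42, pair_5_2_12, pair_5_2_252, pair_5_2_72, pair_5_2_112, pair_5_2_32, pair_5_2_672, pair_5_2_192, pair_5_2_4032, pair_5_4_6, pair_5_4_126, pair_5_4_36, pair_5_4_56, pair_5_4_16, pair_5_4_336, pair_5_4_96, pair_5_4_2016, fun _ h => absurd h List.not_mem_nil⟩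

end CfsgLib.Blocks.Order443520
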