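import Cfsg.Agent.Lib.Blocks.Order443520.Checks

/-!
# The table for the Sylow 7-subgroup
-/

set_option autoImplicit false

set_option maxHeartbeats 4000000

namespace CfsgLib.Blocks.Order443520

theorem evens_seven : (candList 7).filter (fun ec => ec.2 % 2 == 0 && ec.2 % 11 != 0) =
    [(2, 12), (2, 180), (2, 40), (2, 96), (2, 1440), (2, 320), (3, 8), (3, 120), (3, 64), (3, 960), (6, 4), (6, 60), (6, 32), (6, 480)] := by decide +kernel

theorem pair_7_2_12 : centList.all (fun C => pairChk 7 2 12 C patSeven) = true := by
  decide +kernel

theorem pair_7_2_180 : centList.all (fun C => pairChk 7 2 180 C patSeven) = true := by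
  decide +kernel

theorem pair_7_2_40 : centList.all (fun C => pairChk 7 2 40 C patSeven) = true := by
  decide +kernel

theorem pair_7_2_96 : centList.all (fun C => pairChk 7 2 96 C patSeven) = true := by
  decide +kernel

theorem pair_7_2_1440 : centList.all (fun C => pairChk 7 2 1440 C patSeven) = true := by
  decide +kernel

theorem pair_7_2_320 : centList.all (fun C => pairChk 7 2 320 C patSeven) = true := by
  decide +kernel

theorem pair_7_3_8 : centList.all (fun C => pairChk 7 3 8 C patSeven) = true := by
  decide +kernel

theorem pair_7_3_120 : centList.all (fun C => pairChk 7 3 120 C patSeven) = true := by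
  decide +kernel

theorem pair_7_3_64 : centList.all (fun C => pairChk 7 3 64 C patSeven) = true := by
  decide +kernel

theorem pair_7_3_960 : centList.all (fun C => pairChk 7 3 960 C patSeven) = true := by
  decide +kernel

theorem pair_7_6_4 : centList.all (fun C => pairChk 7 6 4 C patSeven) = true := by
  decide +kernel

theorem pair_7_6_60 : centList.all (fun C => pairChk 7 6 60 C patSeven) = true := by
  decide +kernel

theorem pair_7_6_32 : centList.all (fun C => pairChk 7 6 32 C patSeven) = true := by
  decide +kernel

theorem pair_7_6_480 : centList.all (fun C => pairChk 7 6 480 C patSeven) = true := by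
  decide +kernel

theorem pair_seven : ∀ ec ∈ (candList 7).filter (fun ec => ec.2 % 2 == 0 && ec.2 % 11 != 0),
    centList.all (fun C => pairChk 7 ec.1 ec.2 C patSeven) = true := by
  rw [evens_seven]
  simp only [List.forall_mem_cons]
  exact ⟨pair_7_2_12, pair_7_2_180, pair_7_2_40, pair_7_2_96, pair_7_2_1440, pair_7_2_320, pair_7_3_8, pair_7_3_120, pair_7_3_64, pair_7_3_960, pair_7_6_4, pair_7_6_60, pair_7_6_32, pair_7_6_480, fun _ h => absurd h List.not_mem_nil⟩

end CfsgLib.Blocks.Order443520
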