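import Cfsg.Agent.Lib.Blocks.Order443520.Checks

/-!
# Small tables
-/

set_option autoImplicit false

set_option maxHeartbeats 4000000

namespace CfsgLib.Blocks.Order443520

theorem odd_eleven : (candList 11).filter (fun ec => ec.2 % 2 == 1) = [(2, 63), (5, 1)] := by
  decide +kernel

theorem odd_seven :
    (candList 7).filter (fun ec => ec.2 % 2 == 1 && ec.2 % 11 != 0) = [(2, 5), (3, 1), (3, 15)] := by
  decide +kernel

theorem odd_five :
    (candList 5).filter (fun ec => ec.2 % 2 == 1 && ec.2 % 11 != 0) = [(2, 7), (4, 1), (4, 21)] := by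
  decide +kernel

theorem degs_eleven : pairDegs 11 63 = [] := by decide +kernel

theorem degs_seven : pairDegs 7 5 = [(8, 9)] := by decide +kernel

theorem pat_disjoint : patFive.all (fun P => patSeven.all fun Q => !P.isPerm Q) = true := by
  decide +kernel

theorem seven_none : (candList 7).all (fun ec => ec.2 % 5 != 0 || ec.2 % 2 == 1 || ec.2 % 11 == 0 ||
    centList.all fun C => C % 11 == 0 || noneChk 7 ec.1 ec.2 C) = true := by decide +kernel

theorem five_none : (candList 5).all (fun ec => ec.2 % 63 != 0 || ec.2 % 2 == 1 || ec.2 % 11 == 0 ||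
    centList.all fun C => C % 11 == 0 || noneChk 5 ec.1 ec.2 C) = true := by decide +kernel

theorem final_table : [128, 384, 1152].all finalChk = true := by decide +kernel

end CfsgLib.Blocks.Order443520
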