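import Cfsg.Agent.Lib.Blocks.Order443520.Columns
import Cfsg.Agent.Lib.Blocks.Order443520.TablesEleven
import Cfsg.Agent.Lib.Blocks.Order443520.TablesSeven
import Cfsg.Agent.Lib.Blocks.Order443520.TablesFive
import Cfsg.Agent.Lib.Blocks.Order443520.TablesSmall

/-!
# The Sylow subgroups of orders 5, 7 and 11 are self-centralizing
-/

set_option autoImplicit false

namespace CfsgLib.Blocks.Order443520

open Cfsg CfsgLib CfsgLib.Char CfsgLib.CharIntegral CfsgLib.Blocks.PrimeSylow
open CfsgLib.Blocks.Order95040 (deg cent deg_cast deg_trivChar deg_eq_finrank)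
open scoped Classical ComplexConjugate

theorem zmod_five_cube : ∀ z : ZMod 5, z ^ 3 = 1 → z = 1 := by decide

variable {G : Type*} [Group G] [Fintype G]

theorem coe_filter (q : Cell → Bool) (l : List Cell) :
    ((l.filter q : List Cell) : Multiset Cell) =
      Multiset.filter (fun k => q k = true) (l : Multiset Cell) := by
  simp [Multiset.filter_coe]

theorem coe_offP (q : ℕ) {s : G} {T : Finset (IrrCharacter G)} {b : List Cell}
    (hb : (b : Multiset Cell) = T.val.map (cell s)) :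
    (offP q b : Multiset Cell) = (T.filter fun χ => ¬ q ∣ deg χ).val.map (cell s) := by
  rw [offP, coe_filter, hb, Multiset.filter_map, Finset.filter_val]
  congr 1
  refine Multiset.filter_congr fun χ _ => ?_
  simp [cell, Nat.dvd_iff_mod_eq_zero]

theorem coe_onP (q : ℕ) {s : G} {T : Finset (IrrCharacter G)} {b : List Cell}
    (hb : (b : Multiset Cell) = T.val.map (cell s)) :
    (onP q b : Multiset Cell) = (T.filter fun χ => q ∣ deg χ).val.map (cell s) := by
  rw [onP, coe_filter, hb, Multiset.filter_map, Finset.filter_val]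
  congr 1
  refine Multiset.filter_congr fun χ _ => ?_
  simp [cell, Nat.dvd_iff_mod_eq_zero]

theorem nsq_eq {s : G} {T : Finset (IrrCharacter G)} {b : List Cell}
    (hb : (b : Multiset Cell) = T.val.map (cell s)) :
    nsq b = ∑ χ ∈ T, (ival s χ).natAbs * (ival s χ).natAbs := by
  rw [nsq, ← Multiset.sum_coe, ← Multiset.map_coe, hb, Multiset.map_map]
  rfl

theorem dsq_eq {s : G} {T : Finset (IrrCharacter G)} {b : List Cell}
    (hb : (b : Multiset Cell) = T.val.map (cell s)) :
    dsq b = ∑ χ ∈ T, deg χ * deg χ := by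
  rw [dsq, ← Multiset.sum_coe, ← Multiset.map_coe, hb, Multiset.map_map]
  rfl

theorem subL_of_le {r a : List Cell} (h : (r : Multiset Cell) ≤ (a : Multiset Cell)) :
    subL r a = true := by
  rw [subL, List.all_eq_true]
  intro k _
  rw [decide_eq_true_eq]
  exact (Multiset.coe_le.1 h).count_le k

/-- A member found in a list of cells. -/
theorem exists_of_mem_cells {s : G} {T : Finset (IrrCharacter G)} {b : List Cell}
    (hb : (b : Multiset Cell) = T.val.map (cell s)) {k : Cell} (hk : k ∈ b) :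
    ∃ χ ∈ T, cell s χ = k := by
  rw [← Multiset.mem_coe, hb, Multiset.mem_map] at hk
  exact hk

namespace Local

variable {p : ℕ}

theorem mem_nt_iff (L : Local G p) (hV : Nat.card L.V = 1) {χ : IrrCharacter G} :
    χ ∈ L.nt ↔ χ ≠ trivChar G ∧ ¬ p ∣ deg χ := by
  rw [nt, Finset.mem_erase, L.data.all hV]

theorem residue (L : Local G p) (hp : 3 ≤ p) {χ : IrrCharacter G} (hχ : χ ∈ L.nt) :
    (χ ∈ L.data.X.erase (trivChar G) ∧ (deg χ % p = 1 ∨ deg χ % p = p - 1)) ∨
      (χ ∈ L.data.Y ∧ (deg χ % p = L.e % p ∨ (deg χ + L.e) % p = 0)) := by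
  rw [L.nt_eq, Finset.mem_union] at hχ
  rcases hχ with h | h
  · exact Or.inl ⟨h, (L.εX_eq hp (Finset.mem_of_mem_erase h)).2⟩
  · refine Or.inr ⟨h, ?_⟩
    have h1 := L.data.modY χ h
    rcases L.data.sgnY with e | e <;> rw [e] at h1
    · rw [one_mul] at h1
      exact Or.inl ((Int.natCast_modEq_iff.1 h1))
    · refine Or.inr ?_
      have h2 := h1.add_right (L.e : ℤ)
      rw [neg_one_mul, neg_add_cancel] at h2
      have h3 := Int.modEq_zero_iff_dvd.1 h2
      exact Nat.mod_eq_zero_of_dvd (by exact_mod_cast h3)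

variable [IsSimpleGroup G] (hG : Nat.card G = ord)
include hG

omit [IsSimpleGroup G] in
theorem cent_of_orderOf [Fact p.Prime] (hp : p = 5 ∨ p = 7 ∨ p = 11) (L : Local G p) {g : G}
    (hg : orderOf g = p) : cent g = p * Nat.card L.V := by
  obtain ⟨Q, hQ⟩ := Order95040.exists_sylow_mem hg
  obtain ⟨P0, hP0⟩ := (IsPGroup.of_card (G := L.P) (n := 1)
      (by rw [L.setup.card, pow_one])).exists_le_sylow
  have hP0' : (P0 : Subgroup G) = L.P := (Subgroup.eq_of_le_of_card_ge hP0
      (le_of_eq ((card_sylow hG hp P0).trans L.setup.card.symm))).symm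
  obtain ⟨c, hc'⟩ := MulAction.exists_smul_eq G Q P0
  have hxP : c * g * c⁻¹ ∈ L.P := by
    rw [← hP0', ← hc', Sylow.coe_subgroup_smul]
    exact Subgroup.mem_pointwise_smul_iff_inv_smul_mem.2 (by simpa [mul_assoc] using hQ)
  have hx1 : c * g * c⁻¹ ≠ 1 := fun e1 => by
    have h1 := (Order7920.orderOf_conj_eq' c g).trans hg
    rw [e1, orderOf_one] at h1
    exact (Fact.out : p.Prime).ne_one h1.symm
  have h2 : cent (c * g * c⁻¹) = p * Nat.card L.V := by
    show Nat.card (Subgroup.centralizer ({c * g * c⁻¹} : Set G)) = _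
    rw [L.setup.centralizer_singleton hxP hx1, L.setup.card_centralizer]
  rw [← h2]
  refine Nat.card_congr (Equiv.subtypeEquiv (MulAut.conj c).toEquiv fun y => ?_)
  rw [Subgroup.mem_centralizer_singleton_iff, Subgroup.mem_centralizer_singleton_iff]
  show y * g = g * y ↔ c * y * c⁻¹ * (c * g * c⁻¹) = c * g * c⁻¹ * (c * y * c⁻¹)
  rw [show c * y * c⁻¹ * (c * g * c⁻¹) = c * (y * g) * c⁻¹ by group,
    show c * g * c⁻¹ * (c * y * c⁻¹) = c * (g * y) * c⁻¹ by group]
  exact ⟨fun h => by rw [h], fun h => mul_left_cancel (mul_right_cancel h)⟩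

/-- A column of a self-centralizing block that contains the given members of degree prime to
`p`. -/
theorem exists_col_sub [Fact p.Prime] (hp : p = 5 ∨ p = 7 ∨ p = 11) (L : Local G p)
    (hV : Nat.card L.V = 1) {s : G} (hs : orderOf s = 2) {T : Finset (IrrCharacter G)}
    (hT : trivChar G ∉ T) {b : List Cell} (hb : (b : Multiset Cell) = T.val.map (cell s))
    {init : List Cell}
    (hinit : (init : Multiset Cell) ≤ (L.data.X.erase (trivChar G)).val.map (cell s)) :
    ∃ l ∈ colsI p L.e 1 (cent s) false init (cent s - nsq (onP p b)) (ord - dsq (onP p b)),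
      (l : Multiset Cell) = L.nt.val.map (cell s) ∧ subL (offP p b) l = true := by
  obtain ⟨l, hl, hlm⟩ := L.exists_col hG hp hs (cong := false) (fun h => absurd h (by simp)) hinit
    (O := T.filter fun χ => p ∣ deg χ) (Finset.disjoint_left.2 fun χ h1 h2 =>
      (L.data.all hV χ).2 h2 (Finset.mem_filter.1 h1).2)
  rw [hV, ← nsq_eq (coe_onP p hb), ← dsq_eq (coe_onP p hb)] at hl
  refine ⟨l, hl, hlm, subL_of_le ?_⟩
  rw [coe_offP p hb, hlm]
  refine Multiset.map_le_map (Finset.val_le_iff.2 fun χ hχ => ?_)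
  obtain ⟨h1, h2⟩ := Finset.mem_filter.1 hχ
  exact (L.mem_nt_iff hV).2 ⟨fun e => hT (e ▸ h1), h2⟩

/-- The principal 11-block is among the compatible columns. -/
theorem exists_eleven (L : Local G 11) (he : L.e = 5) (hV : Nat.card L.V = 1) {s : G}
    (hs : orderOf s = 2) {T : Finset (IrrCharacter G)} (hT : trivChar G ∉ T) {b : List Cell}
    (hb : (b : Multiset Cell) = T.val.map (cell s)) :
    ∃ a ∈ elevenCols (cent s) b, (a : Multiset Cell) = L.nt.val.map (cell s) ∧
      ((a ++ onP 11 b : List Cell) : Multiset Cell) =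
        (L.nt ∪ T.filter fun χ => 11 ∣ deg χ).val.map (cell s) ∧
      trivChar G ∉ L.nt ∪ T.filter fun χ => 11 ∣ deg χ := by
  have : Fact (Nat.Prime 11) := ⟨by norm_num⟩
  have hmem : ∀ k ∈ offP 11 b, ∃ χ ∈ L.nt, cell s χ = k := fun k hk => by
    obtain ⟨χ, hχ, rfl⟩ := exists_of_mem_cells (coe_offP 11 hb) hk
    obtain ⟨h1, h2⟩ := Finset.mem_filter.1 hχ
    exact ⟨χ, (L.mem_nt_iff hV).2 ⟨fun e => hT (e ▸ h1), h2⟩, rfl⟩
  have hall : (offP 11 b).all (fun k => [1, 10, 5, 6].contains (k.1 % 11)) = true := by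
    rw [List.all_eq_true]
    intro k hk
    obtain ⟨χ, hχ, rfl⟩ := hmem k hk
    have h := L.residue (by norm_num) hχ
    simp only [cell, List.contains_iff_mem, List.mem_cons, List.not_mem_nil, or_false]
    omega
  have hinit : (pmP 11 (offP 11 b) : Multiset Cell) ≤
      (L.data.X.erase (trivChar G)).val.map (cell s) := by
    rw [pmP, coe_filter, coe_offP 11 hb, Multiset.filter_map, ← Finset.filter_val]
    refine Multiset.map_le_map (Finset.val_le_iff.2 fun χ hχ => ?_)
    obtain ⟨h1, h2⟩ := Finset.mem_filter.1 hχ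
    obtain ⟨h3, h4⟩ := Finset.mem_filter.1 h1
    simp only [Function.comp, cell, Bool.or_eq_true, beq_iff_eq] at h2
    rcases L.residue (by norm_num) ((L.mem_nt_iff hV).2 ⟨fun e => hT (e ▸ h3), h4⟩) with h | h
    · exact h.1
    · have h5 := h.2
      omega
  obtain ⟨a, ha, ham, hsub⟩ := L.exists_col_sub hG (Or.inr (Or.inr rfl)) hV hs hT hb hinit
  rw [he] at ha
  refine ⟨a, ?_, ham, ?_, ?_⟩
  · rw [elevenCols, if_pos hall]
    exact List.mem_filter.2 ⟨ha, hsub⟩
  · rw [← Multiset.coe_add, ham, coe_onP 11 hb, ← Multiset.map_add]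
    have hd : Disjoint L.nt (T.filter fun χ => 11 ∣ deg χ) := Finset.disjoint_left.2 fun χ h1 h2 =>
      ((L.mem_nt_iff hV).1 h1).2 (Finset.mem_filter.1 h2).2
    rw [← Finset.disjUnion_eq_union _ _ hd, Finset.disjUnion_val]
  · rw [Finset.mem_union]
    rintro (h | h)
    · exact L.ne_triv_of_mem_nt h rfl
    · exact hT (Finset.mem_filter.1 h).1

/-- The principal 5-block contradicts a list of members. -/
theorem third_five (L : Local G 5) (he : L.e = 4) (hV : Nat.card L.V = 1) {s : G}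
    (hs : orderOf s = 2) {T : Finset (IrrCharacter G)} (hT : trivChar G ∉ T) {U : List Cell}
    (hU : (U : Multiset Cell) = T.val.map (cell s)) :
    ∃ ct ∈ colsI 5 4 1 (cent s) false ((offP 5 U).take 3) (cent s - nsq (onP 5 U))
        (ord - dsq (onP 5 U)),
      (ct : Multiset Cell) = L.nt.val.map (cell s) ∧ subL (offP 5 U) ct = true ∧
      ((offP 5 U).all (fun k => k.1 % 5 == 1 || k.1 % 5 == 4) &&
        decide ((offP 5 U).length ≤ 4)) = true := by
  have : Fact (Nat.Prime 5) := ⟨by norm_num⟩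
  have hcard : L.nt.card = 4 := by
    have h1 := L.card_nt
    rw [L.cardY_eq (by norm_num), he] at h1
    omega
  have hle : (offP 5 U : Multiset Cell) ≤ L.nt.val.map (cell s) := by
    rw [coe_offP 5 hU]
    refine Multiset.map_le_map (Finset.val_le_iff.2 fun χ hχ => ?_)
    obtain ⟨h1, h2⟩ := Finset.mem_filter.1 hχ
    exact (L.mem_nt_iff hV).2 ⟨fun e => hT (e ▸ h1), h2⟩
  have hguard : ((offP 5 U).all (fun k => k.1 % 5 == 1 || k.1 % 5 == 4) &&
      decide ((offP 5 U).length ≤ 4)) = true := by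
    rw [Bool.and_eq_true, decide_eq_true_eq, List.all_eq_true]
    refine ⟨fun k hk => ?_, ?_⟩
    · obtain ⟨χ, hχ, rfl⟩ := Multiset.mem_map.1 (Multiset.mem_of_le hle (Multiset.mem_coe.2 hk))
      have h := L.residue (by norm_num) hχ
      simp only [cell, Bool.or_eq_true, beq_iff_eq]
      omega
    · have h1 := Multiset.card_le_card hle
      rwa [Multiset.coe_card, Multiset.card_map, ← Finset.card_def, hcard] at h1
  have h3 : (((offP 5 U).take 3 : List Cell) : Multiset Cell) ≤ L.nt.val.map (cell s) :=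
    le_trans (List.take_sublist 3 _).subperm hle
  obtain ⟨χ₀, hχ₀, hle₀⟩ : ∃ χ₀ ∈ L.nt, (((offP 5 U).take 3 : List Cell) : Multiset Cell) ≤
      (L.nt.erase χ₀).val.map (cell s) := by
    obtain ⟨R, hR⟩ := Multiset.le_iff_exists_add.1 h3
    obtain ⟨k, hk⟩ := Multiset.exists_mem_of_ne_zero (s := R) fun h0 => by
      have h1 := congrArg Multiset.card hR
      rw [h0, add_zero, Multiset.card_map, Multiset.coe_card, ← Finset.card_def, hcard,
        List.length_take] at h1
      omega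
    obtain ⟨χ₀, hχ₀, rfl⟩ := Multiset.mem_map.1
      (show k ∈ L.nt.val.map (cell s) by rw [hR]; exact Multiset.mem_add.2 (Or.inr hk))
    refine ⟨χ₀, hχ₀, ?_⟩
    rw [Finset.erase_val, Multiset.map_erase_of_mem _ _ hχ₀, hR,
      Multiset.erase_add_right_pos _ hk]
    exact Multiset.le_add_right _ _
  have key : ∀ L' : Local G 5, L'.e = 4 → Nat.card L'.V = 1 → L'.data.Y = {χ₀} → L'.nt = L.nt →
      ∃ ct ∈ colsI 5 4 1 (cent s) false ((offP 5 U).take 3) (cent s - nsq (onP 5 U))
          (ord - dsq (onP 5 U)),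
        (ct : Multiset Cell) = L.nt.val.map (cell s) ∧ subL (offP 5 U) ct = true ∧
        ((offP 5 U).all (fun k => k.1 % 5 == 1 || k.1 % 5 == 4) &&
          decide ((offP 5 U).length ≤ 4)) = true := fun L' he' hV' hY' hn => by
    obtain ⟨ct, hct, h1, h2⟩ := L'.exists_col_sub hG (Or.inl rfl) hV' hs hT hU
      (init := (offP 5 U).take 3) (by
        refine hle₀.trans (Multiset.map_le_map (Finset.val_le_iff.2 fun χ hχ => ?_))
        obtain ⟨h1, h2⟩ := Finset.mem_erase.1 hχ
        rw [← hn, L'.nt_eq, hY', Finset.mem_union, Finset.mem_singleton] at h2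
        exact h2.resolve_right h1)
    rw [he'] at hct
    exact ⟨ct, hct, hn ▸ h1, h2, hguard⟩
  by_cases hY : χ₀ ∈ L.data.Y
  · refine key L he hV ?_ rfl
    obtain ⟨θ, hθ⟩ := Finset.card_eq_one.1 (L.data.card_Y_eq_one (by omega) (by norm_num))
    rw [hθ, Finset.mem_singleton] at hY
    rw [hθ, hY]
  · have hX : χ₀ ∈ L.data.X :=
      (Finset.mem_union.1 (Finset.mem_of_mem_erase hχ₀)).resolve_right hY
    obtain ⟨D', hU', hY'⟩ := L.data.exists_swap (by omega) (by norm_num) hX
    have ht : trivChar G ∈ D'.X := by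
      refine (Finset.mem_union.1 (hU' ▸ Finset.mem_union_left _ L.triv :
        trivChar G ∈ D'.X ∪ D'.Y)).resolve_right fun h => ?_
      rw [hY', Finset.mem_singleton] at h
      exact L.ne_triv_of_mem_nt hχ₀ h.symm
    exact key ⟨L.P, L.V, L.e, L.setup, D', L.card_normalizer, ht, L.cand⟩ he hV hY'
      (congrArg (fun S => Finset.erase S (trivChar G)) hU')

/-- The principal 7-block contradicts a list of members. -/
theorem third_seven (L : Local G 7) (he : L.e = 3) (hV : Nat.card L.V = 1) {s : G}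
    (hs : orderOf s = 2) {T : Finset (IrrCharacter G)} (hT : trivChar G ∉ T) {U : List Cell}
    (hU : (U : Multiset Cell) = T.val.map (cell s)) :
    ∃ ct ∈ colsI 7 3 1 (cent s) false (pmP 7 (offP 7 U)) (cent s - nsq (onP 7 U))
        (ord - dsq (onP 7 U)),
      subL (offP 7 U) ct = true ∧
      (offP 7 U).all (fun k => [1, 6, 3, 4].contains (k.1 % 7)) = true := by
  have : Fact (Nat.Prime 7) := ⟨by norm_num⟩
  have hinit : (pmP 7 (offP 7 U) : Multiset Cell) ≤
      (L.data.X.erase (trivChar G)).val.map (cell s) := by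
    rw [pmP, coe_filter, coe_offP 7 hU, Multiset.filter_map, ← Finset.filter_val]
    refine Multiset.map_le_map (Finset.val_le_iff.2 fun χ hχ => ?_)
    obtain ⟨h1, h2⟩ := Finset.mem_filter.1 hχ
    obtain ⟨h3, h4⟩ := Finset.mem_filter.1 h1
    simp only [Function.comp, cell, Bool.or_eq_true, beq_iff_eq] at h2
    rcases L.residue (by norm_num) ((L.mem_nt_iff hV).2 ⟨fun e => hT (e ▸ h3), h4⟩) with h | h
    · exact h.1
    · have h5 := h.2
      omega
  obtain ⟨ct, hct, -, hsub⟩ := L.exists_col_sub hG (Or.inr (Or.inl rfl)) hV hs hT hU hinit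
  rw [he] at hct
  refine ⟨ct, hct, hsub, ?_⟩
  rw [List.all_eq_true]
  intro k hk
  obtain ⟨χ, hχ, rfl⟩ := exists_of_mem_cells (coe_offP 7 hU) hk
  obtain ⟨h1, h2⟩ := Finset.mem_filter.1 hχ
  have h := L.residue (by norm_num) ((L.mem_nt_iff hV).2 ⟨fun e => hT (e ▸ h1), h2⟩)
  simp only [cell, List.contains_iff_mem, List.mem_cons, List.not_mem_nil, or_false]
  omega

/-- The degrees of a block with two classes. -/
theorem mem_pairDegs [Fact p.Prime] (hp : p = 7 ∨ p = 11) (L : Local G p) (he : L.e = 2) :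
    ∃ χ ∈ L.nt, ∃ y, (deg χ, y) ∈ pairDegs p (Nat.card L.V) := by
  have hp3 : 3 ≤ p := by rcases hp with rfl | rfl <;> norm_num
  obtain ⟨χ, hχ⟩ := Finset.card_eq_one.1 (show (L.data.X.erase (trivChar G)).card = 1 by
    rw [Finset.card_erase_of_mem L.triv, L.data.cardX, he])
  have hχm : χ ∈ L.data.X.erase (trivChar G) := by rw [hχ]; exact Finset.mem_singleton_self _
  obtain ⟨hne, hX⟩ := Finset.mem_erase.1 hχm
  obtain ⟨θ, hθ⟩ : L.data.Y.Nonempty := by
    rw [← Finset.card_pos, L.cardY_eq hp3, he]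
    rcases hp with rfl | rfl <;> norm_num
  obtain ⟨hsg, hres⟩ := L.εX_eq hp3 hX
  obtain ⟨h1, h2, -⟩ := L.of_const hG (Or.inr hp) hne (L.data.sgnX χ hX) (L.data.valX χ hX)
  have hθne : θ ≠ trivChar G := fun e => L.triv_notMem_Y (e ▸ hθ)
  have hS : L.data.ε * (deg θ : ℤ) = 1 + sgn p (deg χ) * (deg χ : ℤ) := by
    rw [L.data.deg_rel hθ, ← Finset.add_sum_erase _ _ L.triv, L.εX_triv hp3, deg_trivChar, hχ,
      Finset.sum_singleton, hsg, Nat.cast_one, one_mul]
  have hy1 := one_lt_deg (perfect hG) hθne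
  refine ⟨χ, by rw [L.nt_eq]; exact Finset.mem_union_left _ hχm, deg θ,
    List.mem_filterMap.2 ⟨deg χ, List.mem_filter.2 ⟨deg_mem hG hne, ?_⟩, ?_⟩⟩
  · simp only [okd, Bool.and_eq_true, Bool.or_eq_true, beq_iff_eq]
    exact ⟨⟨hres, h1⟩, h2.imp id decide_eq_true⟩
  · simp only
    have hy : (1 + sgn p (deg χ) * (deg χ : ℤ)).natAbs = deg θ := by
      rw [← hS]; rcases L.data.sgnY with e | e <;> simp [e]
    have hε : (if 0 ≤ 1 + sgn p (deg χ) * (deg χ : ℤ) then (1 : ℤ) else -1) = L.data.ε := by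
      rw [← hS]; rcases L.data.sgnY with e | e <;> rw [e] <;> split_ifs <;> omega
    rw [hy, hε, if_pos]
    simp only [Bool.and_eq_true, decide_eq_true_eq, beq_iff_eq]
    refine ⟨⟨hy1, Nat.mod_eq_zero_of_dvd (hG ▸ deg_dvd_card θ)⟩, Int.emod_eq_zero_of_dvd ?_⟩
    have h3 := Int.modEq_iff_dvd.1 (L.data.modY θ hθ).symm
    rw [show ((L.e : ℕ) : ℤ) = 2 by exact_mod_cast he] at h3
    exact_mod_cast h3

end Local

variable [IsSimpleGroup G] (hG : Nat.card G = ord)
include hG

theorem eleven_shape (L : Local G 11) : L.e = 5 ∧ Nat.card L.V = 1 := by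
  have : Fact (Nat.Prime 11) := ⟨by norm_num⟩
  rcases Nat.mod_two_eq_zero_or_one (Nat.card L.V) with hc | hc
  · exfalso
    obtain ⟨s, hsV, hs, hok⟩ :=
      L.exists_involution hG (Or.inr (Or.inr rfl)) (Nat.dvd_of_mod_eq_zero hc)
    have h1 := none_eleven _ (List.mem_filter.2 ⟨L.cand, by rw [beq_iff_eq]; exact hc⟩)
    have h2 := List.all_eq_true.1 h1 _ (cent_mem hG hs)
    obtain ⟨b, hb, -⟩ := L.exists_col hG (Or.inr (Or.inr rfl)) hs (cong := true) (fun _ => hsV)
      (init := []) (by simp) (O := ∅) (Finset.disjoint_empty_left _)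
    simp only [colsI, List.length_nil, zero_le, decide_true, List.all_nil, Bool.and_true,
      if_true, Finset.sum_empty, Nat.sub_zero] at hb
    simp only [noneChk, hok, Bool.not_true, Bool.false_or, List.isEmpty_iff] at h2
    rw [h2] at hb
    exact List.not_mem_nil hb
  · have h1 : (L.e, Nat.card L.V) ∈ (candList 11).filter fun ec => ec.2 % 2 == 1 :=
      List.mem_filter.2 ⟨L.cand, by rw [beq_iff_eq]; exact hc⟩
    rw [odd_eleven] at h1
    simp only [List.mem_cons, Prod.mk.injEq, List.not_mem_nil, or_false] at h1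
    refine h1.resolve_left fun h => ?_
    obtain ⟨χ, -, y, hy⟩ := L.mem_pairDegs hG (Or.inr rfl) h.1
    rw [h.2, degs_eleven] at hy
    exact List.not_mem_nil hy

theorem eleven_not_dvd {p : ℕ} [Fact p.Prime] (hp : p = 5 ∨ p = 7) (L : Local G p)
    (L' : Local G 11) : Nat.card L.V % 11 ≠ 0 := fun h => by
  have : Fact (Nat.Prime 11) := ⟨by norm_num⟩
  obtain ⟨x, hx, hx1⟩ := L.exists_mem_P hG
  have hxo := L.setup.orderOf_eq hx hx1
  refine L'.not_dvd_cent hG (Or.inr (Or.inr rfl)) (eleven_shape hG L').2 (g := x) ?_ hx1 ?_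
  · rw [hxo]; rcases hp with rfl | rfl <;> norm_num
  · rw [L.cent_of_orderOf hG (hp.imp id Or.inl) hxo]
    exact (Nat.dvd_of_mod_eq_zero h).mul_left p

theorem cent_mod_eleven (L' : Local G 11) {s : G} (hs : orderOf s = 2) : cent s % 11 ≠ 0 :=
  fun h => by
    have : Fact (Nat.Prime 11) := ⟨by norm_num⟩
    exact L'.not_dvd_cent hG (Or.inr (Or.inr rfl)) (eleven_shape hG L').2
      (by rw [hs]; norm_num) (fun e => by simp [e] at hs) (Nat.dvd_of_mod_eq_zero h)

/-- A central involution for five or seven, with the table check. -/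
theorem pair_facts {p : ℕ} [Fact p.Prime] (L : Local G p) (L' : Local G 11)
    (hp : p = 5 ∨ p = 7) (hc : Nat.card L.V % 2 = 0) {pat : List (List ℕ)}
    (htab : ∀ ec ∈ (candList p).filter (fun ec => ec.2 % 2 == 0 && ec.2 % 11 != 0),
      centList.all (fun C => pairChk p ec.1 ec.2 C pat) = true) :
    ∃ (s : G) (a U : List Cell) (T : Finset (IrrCharacter G)), orderOf s = 2 ∧
      (a : Multiset Cell) = L'.nt.val.map (cell s) ∧ (U : Multiset Cell) = T.val.map (cell s) ∧
      trivChar G ∉ T ∧ (pat.any fun P => (a.map Prod.fst).isPerm P) = true ∧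
      (if p == 5 then cent s % 7 == 0 || thirdSeven (cent s) U
        else cent s % 5 == 0 || thirdFive (cent s) U) = true := by
  obtain ⟨he', hV'⟩ := eleven_shape hG L'
  obtain ⟨s, hsV, hs, hok⟩ := L.exists_involution hG (hp.imp id Or.inl) (Nat.dvd_of_mod_eq_zero hc)
  have h1 := List.all_eq_true.1 (htab _ (List.mem_filter.2 ⟨L.cand, by
    rw [Bool.and_eq_true, beq_iff_eq, bne_iff_ne]
    exact ⟨hc, eleven_not_dvd hG hp L L'⟩⟩)) _ (cent_mem hG hs)
  obtain ⟨b, hb, hbm⟩ := L.exists_col hG (hp.imp id Or.inl) hs (cong := true) (fun _ => hsV)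
    (init := []) (by simp) (O := ∅) (Finset.disjoint_empty_left _)
  simp only [colsI, List.length_nil, zero_le, decide_true, List.all_nil, Bool.and_true,
    if_true, Finset.sum_empty, Nat.sub_zero] at hb
  simp only [pairChk, hok, Bool.not_true, Bool.or_false, Bool.or_eq_true, beq_iff_eq,
    cent_mod_eleven hG L' hs, false_or, List.all_eq_true] at h1
  obtain ⟨a, ha, ham, hU, hT⟩ := L'.exists_eleven hG he' hV' hs
    (fun h => L.ne_triv_of_mem_nt h rfl) hbm
  have h2 := h1 b hb a ha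
  rw [Bool.and_eq_true] at h2
  exact ⟨s, a, _, _, hs, ham, hU, hT, h2.1, by simpa only [beq_iff_eq] using h2.2⟩

theorem five_divides_seven (L5 : Local G 5) (L7 : Local G 7) (h : 7 ∣ Nat.card L5.V) :
    5 ∣ Nat.card L7.V := by
  have : Fact (Nat.Prime 5) := ⟨by norm_num⟩
  have : Fact (Nat.Prime 7) := ⟨by norm_num⟩
  obtain ⟨v, hv⟩ := exists_prime_orderOf_dvd_card' (G := L5.V) 7 h
  obtain ⟨x, hx, hx1⟩ := L5.exists_mem_P hG
  have h1 := L7.cent_of_orderOf hG (Or.inr (Or.inl rfl)) (g := (v : G))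
    (by rw [Subgroup.orderOf_coe, hv])
  have h2 : 5 ∣ cent (v : G) := by
    have h3 : orderOf x ∣ cent (v : G) := Subgroup.orderOf_dvd_natCard _
      (Subgroup.mem_centralizer_singleton_iff.2 (L5.setup.commute hx v.2).eq)
    rwa [L5.setup.orderOf_eq hx hx1] at h3
  rw [h1] at h2
  exact (Nat.Prime.dvd_mul (by norm_num)).1 h2 |>.resolve_left (by norm_num)

/-- A Sylow 7-normalizer of order 315 centralizes an element of order five. -/
theorem dvd_five_of_fifteen (L5 : Local G 5) (L7 : Local G 7) (he : L7.e = 3)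
    (hV : Nat.card L7.V = 15) : 63 ∣ Nat.card L5.V := by
  have : Fact (Nat.Prime 5) := ⟨by norm_num⟩
  obtain ⟨w, hw⟩ := exists_prime_orderOf_dvd_card' (G := L7.V) 5 (by rw [hV]; norm_num)
  have hwo : orderOf (w : G) = 5 := by rw [Subgroup.orderOf_coe, hw]
  set N := Subgroup.normalizer (L7.P : Set G) with hN
  have hNc : Nat.card N = 315 := by rw [hN, L7.card_normalizer, he, hV]
  have hwN : (w : G) ∈ N := Blocks.centralizer_le_normalizer' L7.P (L7.setup.V_le w.2)
  obtain ⟨W, hW⟩ : ∃ W : Subgroup N, W = Subgroup.zpowers ⟨(w : G), hwN⟩ := ⟨_, rfl⟩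
  have hWc : Nat.card W = 5 := by
    rw [hW, Nat.card_zpowers, ← Subgroup.orderOf_coe]
    exact hwo
  obtain ⟨S, hS⟩ : ∃ S : Sylow 5 N, (S : Subgroup N) = W :=
    ⟨IsPGroup.toSylow (IsPGroup.of_card (n := 1) (by rw [hWc, pow_one]))
      (fun hd => by
        have h1 := W.card_mul_index
        rw [hWc, hNc] at h1
        omega), rfl⟩
  obtain ⟨q1, q2⟩ := Order95040.sylow_count S
  rw [hS, hNc] at q2
  have h35 : 35 ∣ Nat.card (Subgroup.normalizer (W : Set N)) := by
    refine (by norm_num : Nat.Coprime 5 7).mul_dvd_of_dvd_of_dvd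
      (hWc ▸ Subgroup.card_dvd_of_le Subgroup.le_normalizer) ?_
    obtain ⟨x, hx, hx1⟩ := L7.exists_mem_P hG
    have hxN : x ∈ N := Subgroup.le_normalizer hx
    have hcm : (⟨x, hxN⟩ : N) ∈ Subgroup.normalizer (W : Set N) := by
      refine Blocks.centralizer_le_normalizer' W (Subgroup.mem_centralizer_iff.2 fun y hy => ?_)
      obtain ⟨k, rfl⟩ := Subgroup.mem_zpowers_iff.1 (hW ▸ hy : y ∈ Subgroup.zpowers (⟨(w : G), hwN⟩ : N))
      exact (Commute.zpow_left (show Commute (⟨(w : G), hwN⟩ : N) ⟨x, hxN⟩ from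
        Subtype.ext (L7.setup.commute hx w.2).symm.eq) k).eq
    have h1 := Subgroup.orderOf_dvd_natCard _ hcm
    rw [← Subgroup.orderOf_coe] at h1
    rwa [L7.setup.orderOf_eq hx hx1] at h1
  obtain ⟨m, hm⟩ := h35
  rw [hm] at q2
  have hn1 : Nat.card (Sylow 5 N) = 1 := by
    have h9 : Nat.card (Sylow 5 N) * m = 9 := Nat.eq_of_mul_eq_mul_left (by norm_num : 0 < 35)
      (by rw [show 35 * 9 = 315 from rfl, ← q2]; ring)
    have hd : Nat.card (Sylow 5 N) ∣ 9 := ⟨m, h9.symm⟩
    have := Nat.le_of_dvd (by norm_num) hd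
    rcases Nat.lt_or_ge (Nat.card (Sylow 5 N)) 2 with h | h
    · omega
    · interval_cases hh : Nat.card (Sylow 5 N) <;> omega
  have : Subsingleton (Sylow 5 N) := (Nat.card_eq_one_iff_unique.1 hn1).1
  have hWn : W.Normal := hS ▸ Sylow.normal_of_subsingleton S
  have hNw : ∀ n ∈ N, n * (w : G) = (w : G) * n := by
    intro n hn
    obtain ⟨k, hk⟩ := Subgroup.mem_zpowers_iff.1
      (hW ▸ hWn.conj_mem ⟨(w : G), hwN⟩ (hW ▸ Subgroup.mem_zpowers _) ⟨n, hn⟩)
    have hk' : n * (w : G) * n⁻¹ = (w : G) ^ k := by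
      have := congrArg Subtype.val hk
      simpa using this.symm
    have hiter : ∀ i : ℕ, n ^ i * (w : G) * (n ^ i)⁻¹ = (w : G) ^ (k ^ i) := by
      intro i
      induction i with
      | zero => simp
      | succ i ih =>
        rw [pow_succ k, mul_comm (k ^ i), zpow_mul, ← hk', conj_zpow, ← ih, pow_succ']
        group
    have h315 : n ^ 315 = 1 := by
      have := pow_card_eq_one' (G := N) (x := ⟨n, hn⟩)
      rw [hNc] at this
      exact congrArg Subtype.val this
    have h1 := hiter 315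
    rw [h315, one_mul, inv_one, mul_one] at h1
    have h5 : (5 : ℤ) ∣ k ^ 315 - 1 := by
      have h2 : (w : G) ^ (k ^ 315 - 1) = 1 := by rw [zpow_sub, ← h1]; simp
      have h3 := orderOf_dvd_iff_zpow_eq_one.2 h2
      rwa [hwo] at h3
    have hk1 : k % 5 = 1 := by
      have h6 : ((k : ZMod 5)) ^ 315 = 1 := by
        have h7 := (ZMod.intCast_zmod_eq_zero_iff_dvd _ 5).2 h5
        push_cast at h7
        exact sub_eq_zero.1 h7
      have key : ∀ z : ZMod 5, z ^ 315 = 1 → z = 1 := by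
        intro z hz
        have h4 : ∀ y : ZMod 5, y ^ 315 = y ^ 3 := fun y => by
          by_cases hy : y = 0
          · subst hy; rw [zero_pow (by norm_num), zero_pow (by norm_num)]
          · rw [show 315 = (5 - 1) * 78 + 3 from rfl, pow_add, pow_mul,
              ZMod.pow_card_sub_one_eq_one hy, one_pow, one_mul]
        rw [h4] at hz
        exact zmod_five_cube z hz
      have h8 := (ZMod.intCast_eq_intCast_iff' k 1 5).1 (by rw [key _ h6, Int.cast_one])
      simpa using h8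
    have hkw : (w : G) ^ k = (w : G) := by
      rw [← zpow_mod_orderOf, hwo, Nat.cast_ofNat, hk1, zpow_one]
    rw [hkw] at hk'
    exact mul_inv_eq_iff_eq_mul.1 hk'
  have hle : N ≤ Subgroup.centralizer ({(w : G)} : Set G) := fun n hn =>
    Subgroup.mem_centralizer_singleton_iff.2 (hNw n hn)
  have h1 := Subgroup.card_dvd_of_le hle
  rw [hNc, show Nat.card (Subgroup.centralizer ({(w : G)} : Set G)) = 5 * Nat.card L5.V from
    L5.cent_of_orderOf hG (Or.inl rfl) hwo, show (315 : ℕ) = 5 * 63 from rfl] at h1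
  exact (Nat.mul_dvd_mul_iff_left (by norm_num : (0 : ℕ) < 5)).1 h1

theorem no_column {p : ℕ} [Fact p.Prime] (hp : p = 5 ∨ p = 7) (L : Local G p) (L' : Local G 11)
    (hc : Nat.card L.V % 2 = 0)
    (htab : centList.all (fun C => C % 11 == 0 || noneChk p L.e (Nat.card L.V) C) = true) :
    False := by
  obtain ⟨s, hsV, hs, hok⟩ := L.exists_involution hG (hp.imp id Or.inl) (Nat.dvd_of_mod_eq_zero hc)
  have h2 := List.all_eq_true.1 htab _ (cent_mem hG hs)
  obtain ⟨b, hb, -⟩ := L.exists_col hG (hp.imp id Or.inl) hs (cong := true) (fun _ => hsV)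
    (init := []) (by simp) (O := ∅) (Finset.disjoint_empty_left _)
  simp only [colsI, List.length_nil, zero_le, decide_true, List.all_nil, Bool.and_true,
    if_true, Finset.sum_empty, Nat.sub_zero] at hb
  simp only [noneChk, hok, Bool.not_true, Bool.false_or, Bool.or_eq_true, beq_iff_eq,
    cent_mod_eleven hG L' hs, false_or, List.isEmpty_iff] at h2
  rw [h2] at hb
  exact List.not_mem_nil hb

/-- The shapes of the normalizers. -/
theorem shapes (L5 : Local G 5) (L7 : Local G 7) (L11 : Local G 11) :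
    (L5.e = 4 ∧ Nat.card L5.V = 1) ∧ (L7.e = 3 ∧ Nat.card L7.V = 1) := by
  have : Fact (Nat.Prime 5) := ⟨by norm_num⟩
  have : Fact (Nat.Prime 7) := ⟨by norm_num⟩
  obtain ⟨he', hV'⟩ := eleven_shape hG L11
  have n5 : Nat.card L5.V % 63 = 0 → Nat.card L5.V % 2 = 0 → False := fun h63 h2 => by
    have h := List.all_eq_true.1 five_none _ L5.cand
    simp only [Bool.or_eq_true, beq_iff_eq, bne_iff_ne, h63, h2,
      eleven_not_dvd hG (Or.inl rfl) L5 L11, ne_eq, not_true_eq_false, false_or,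
      zero_ne_one] at h
    exact no_column hG (Or.inl rfl) L5 L11 h2 h
  have n7 : Nat.card L7.V % 5 = 0 → Nat.card L7.V % 2 = 0 → False := fun h5 h2 => by
    have h := List.all_eq_true.1 seven_none _ L7.cand
    simp only [Bool.or_eq_true, beq_iff_eq, bne_iff_ne, h5, h2,
      eleven_not_dvd hG (Or.inr rfl) L7 L11, ne_eq, not_true_eq_false, false_or,
      zero_ne_one] at h
    exact no_column hG (Or.inr rfl) L7 L11 h2 h
  have o5 : Nat.card L5.V % 2 = 1 →
      (L5.e = 4 ∧ Nat.card L5.V = 1) ∨ Nat.card L5.V = 7 ∨ Nat.card L5.V = 21 := fun h => by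
    have h1 : (L5.e, Nat.card L5.V) ∈
        (candList 5).filter fun ec => ec.2 % 2 == 1 && ec.2 % 11 != 0 :=
      List.mem_filter.2 ⟨L5.cand, by
        rw [Bool.and_eq_true, beq_iff_eq, bne_iff_ne]
        exact ⟨h, eleven_not_dvd hG (Or.inl rfl) L5 L11⟩⟩
    rw [odd_five] at h1
    simp only [List.mem_cons, Prod.mk.injEq, List.not_mem_nil, or_false] at h1
    omega
  have o7 : Nat.card L7.V % 2 = 1 →
      (L7.e = 3 ∧ Nat.card L7.V = 1) ∨ (L7.e = 3 ∧ Nat.card L7.V = 15) := fun h => by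
    have h1 : (L7.e, Nat.card L7.V) ∈
        (candList 7).filter fun ec => ec.2 % 2 == 1 && ec.2 % 11 != 0 :=
      List.mem_filter.2 ⟨L7.cand, by
        rw [Bool.and_eq_true, beq_iff_eq, bne_iff_ne]
        exact ⟨h, eleven_not_dvd hG (Or.inr rfl) L7 L11⟩⟩
    rw [odd_seven] at h1
    simp only [List.mem_cons, Prod.mk.injEq, List.not_mem_nil, or_false] at h1
    refine h1.resolve_left fun h2 => ?_
    obtain ⟨χ, hχ, y, hy⟩ := L7.mem_pairDegs hG (Or.inl rfl) h2.1
    rw [h2.2, degs_seven] at hy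
    simp only [List.mem_cons, Prod.mk.injEq, List.not_mem_nil, or_false] at hy
    have hm : χ ∈ L11.nt := (L11.mem_nt_iff hV').2
      ⟨L7.ne_triv_of_mem_nt hχ, by rw [hy.1]; norm_num⟩
    have hr := L11.residue (by norm_num) hm
    rw [hy.1] at hr
    omega
  have e7 : (L7.e = 3 ∧ Nat.card L7.V = 1) ∨ Nat.card L7.V % 2 = 0 := by
    rcases Nat.mod_two_eq_zero_or_one (Nat.card L7.V) with h | h
    · exact Or.inr h
    refine Or.inl ((o7 h).resolve_right fun h15 => ?_)
    have h63 := dvd_five_of_fifteen hG L5 L7 h15.1 h15.2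
    rcases Nat.mod_two_eq_zero_or_one (Nat.card L5.V) with h' | h'
    · exact n5 (Nat.mod_eq_zero_of_dvd h63) h'
    · rcases o5 h' with h5 | h5 | h5 <;> omega
  have e5 : (L5.e = 4 ∧ Nat.card L5.V = 1) ∨ Nat.card L5.V % 2 = 0 := by
    rcases Nat.mod_two_eq_zero_or_one (Nat.card L5.V) with h | h
    · exact Or.inr h
    refine Or.inl ((o5 h).resolve_right fun h7 => ?_)
    have h5 := five_divides_seven hG L5 L7 (by rcases h7 with h7 | h7 <;> rw [h7] <;> norm_num)
    rcases e7 with e | e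
    · rw [e.2] at h5; norm_num at h5
    · exact n7 (Nat.mod_eq_zero_of_dvd h5) e
  rcases e5 with e5 | e5 <;> rcases e7 with e7 | e7
  · exact ⟨e5, e7⟩
  · exfalso
    obtain ⟨s, a, U, T, hs, -, hU, hT, -, hif⟩ := pair_facts hG L7 L11 (Or.inr rfl) e7 pair_seven
    have hs5 : cent s % 5 ≠ 0 := fun h => L5.not_dvd_cent hG (Or.inl rfl) e5.2
      (by rw [hs]; norm_num) (fun e => by simp [e] at hs) (Nat.dvd_of_mod_eq_zero h)
    obtain ⟨ct, hct, -, hsub, hg⟩ := L5.third_five hG e5.1 e5.2 hs hT hU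
    have h7 : ((7 : ℕ) == 5) = false := rfl
    simp only [h7, Bool.false_eq_true, if_false, Bool.or_eq_true, beq_iff_eq, hs5, false_or,
      thirdFive, hg, Bool.not_true, Bool.false_or, List.all_eq_true] at hif
    exact absurd hsub (by simpa using hif ct hct)
  · exfalso
    obtain ⟨s, a, U, T, hs, -, hU, hT, -, hif⟩ := pair_facts hG L5 L11 (Or.inl rfl) e5 pair_five
    have hs7 : cent s % 7 ≠ 0 := fun h => L7.not_dvd_cent hG (Or.inr (Or.inl rfl)) e7.2
      (by rw [hs]; norm_num) (fun e => by simp [e] at hs) (Nat.dvd_of_mod_eq_zero h)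
    obtain ⟨ct, hct, hsub, hg⟩ := L7.third_seven hG e7.1 e7.2 hs hT hU
    simp only [beq_self_eq_true, if_true, Bool.or_eq_true, beq_iff_eq, hs7, false_or,
      thirdSeven, hg, Bool.not_true, Bool.false_or, List.all_eq_true] at hif
    exact absurd hsub (by simpa using hif ct hct)
  · exfalso
    obtain ⟨s, a, _, _, -, ha, -, -, hP, -⟩ := pair_facts hG L5 L11 (Or.inl rfl) e5 pair_five
    obtain ⟨s', a', _, _, -, ha', -, -, hQ, -⟩ := pair_facts hG L7 L11 (Or.inr rfl) e7 pair_seven
    rw [List.any_eq_true] at hP hQ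
    obtain ⟨P, hP1, hP2⟩ := hP
    obtain ⟨Q, hQ1, hQ2⟩ := hQ
    have hd := List.all_eq_true.1 (List.all_eq_true.1 pat_disjoint P hP1) Q hQ1
    rw [List.isPerm_iff] at hP2 hQ2
    have haa : (a.map Prod.fst).Perm (a'.map Prod.fst) := by
      rw [← Multiset.coe_eq_coe, ← Multiset.map_coe, ← Multiset.map_coe, ha, ha',
        Multiset.map_map, Multiset.map_map]
      rfl
    rw [Bool.not_eq_true'] at hd
    exact absurd (List.isPerm_iff.2 ((hP2.symm.trans haa).trans hQ2)) (by rw [hd]; simp)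

end CfsgLib.Blocks.Order443520
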