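import Cfsg.Agent.Lib.Blocks.Order443520.Checks

/-!
# The table for the Sylow 5-subgroup, two classes
-/

set_option autoImplicit false

set_option maxHeartbeats 4000000

namespace CfsgLib.Blocks.Order443520

theorem pair_5_2_2 : centList.all (fun C => pairChk 5 2 2 C patFive) = true := by
  decide +kernel

theorem pair_5_2_42 : centList.all (fun C => pairChk 5 2 42 C patFive) = true := by
  decide +kernel

theorem pair_5_2_12 : centList.all (fun C => pairChk 5 2 12 C patFive) = true := by
  decide +kernel

theorem pair_5_2_252 : centList.all (fun C => pairChk 5 2 252 C patFive) = true := by
  decide +kernel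

theorem pair_5_2_72 : centList.all (fun C => pairChk 5 2 72 C patFive) = true := by
  decide +kernel

theorem pair_5_2_112 : centList.all (fun C => pairChk 5 2 112 C patFive) = true := by
  decide +kernel

theorem pair_5_2_32 : centList.all (fun C => pairChk 5 2 32 C patFive) = true := by
  decide +kernel

theorem pair_5_2_672 : centList.all (fun C => pairChk 5 2 672 C patFive) = true := by
  decide +kernel

theorem pair_5_2_192 : centList.all (fun C => pairChk 5 2 192 C patFive) = true := by
  decide +kernel

theorem pair_5_2_4032 : centList.all (fun C => pairChk 5 2 4032 C patFive) = true := by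
  decide +kernel

end CfsgLib.Blocks.Order443520
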