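import Cfsg.Agent.Lib.Blocks.Order95040.Sylow
import Cfsg.Agent.Lib.Blocks.Order7920.Local

/-!
# Perfect simple groups: character facts and products of two conjugates
-/

set_option autoImplicit false

namespace CfsgLib.Blocks.Order443520

open Cfsg CfsgLib CfsgLib.Char CfsgLib.CharIntegral
open CfsgLib.Blocks.Order95040 (deg cent deg_cast deg_trivChar deg_eq_finrank eq_one_or_all)
open scoped Classical ComplexConjugate commutatorElement

variable {G : Type*} [Group G] [Fintype G]

omit [Fintype G] in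
theorem perfect_of_card [IsSimpleGroup G] (h : ¬ (Nat.card G).Prime) : commutator G = ⊤ := by
  refine (Subgroup.Normal.eq_bot_or_eq_top (inferInstance : (commutator G).Normal)).resolve_left
    fun hb => h ?_
  have hc : ∀ a b : G, a * b = b * a := fun a b =>
    commutatorElement_eq_one_iff_mul_comm.1 (Subgroup.mem_bot.1
      (hb ▸ Subgroup.commutator_mem_commutator (Subgroup.mem_top a) (Subgroup.mem_top b) :
        ⁅a, b⁆ ∈ (⊥ : Subgroup G)))
  let _ : CommGroup G := { ‹Group G› with mul_comm := hc }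
  exact IsSimpleGroup.prime_card (α := G)

/-- Class sums act as algebraic integers. -/
theorem dvd_index_mul (χ : IrrCharacter G) {g : G} {v : ℤ} (hv : (χ : G → ℂ) g = (v : ℂ)) :
    (deg χ : ℤ) ∣ ((Nat.card G / cent g : ℕ) : ℤ) * v := by
  obtain ⟨n, ρ, hρ, hρc'⟩ := χ.2
  have hρc := hρc'.symm
  have := hρ
  have hK : Nat.card G / cent g = (Subgroup.centralizer ({g} : Set G)).index := by
    rw [← Subgroup.card_mul_index (Subgroup.centralizer ({g} : Set G))]
    exact Nat.mul_div_cancel_left _ Nat.card_pos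
  have h := isIntegral_central ρ g
  rw [← hρc, hv, show Module.finrank ℂ (Fin n → ℂ) = deg χ by
    rw [Module.finrank_fin_fun, deg_eq_finrank hρc]] at h
  rw [hK]
  set K := (Subgroup.centralizer ({g} : Set G)).index
  have hd0 : deg χ ≠ 0 := (charDegree_pos χ).ne'
  rw [← Int.natAbs_dvd_natAbs, Int.natAbs_natCast, Int.natAbs_mul, Int.natAbs_natCast]
  refine dvd_of_isIntegral_div hd0 ?_
  rcases Int.natAbs_eq v with e | e
  · rw [e, Int.cast_natCast] at h
    rwa [Nat.cast_mul]
  · rw [e, Int.cast_neg, Int.cast_natCast, mul_neg, neg_div] at h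
    rw [Nat.cast_mul]
    simpa using h.neg

theorem deg_dvd_card (χ : IrrCharacter G) : deg χ ∣ Nat.card G := charDegree_dvd_card χ

/-- The degree squares are at most the order. -/
theorem deg_sq_le (χ : IrrCharacter G) : deg χ * deg χ ≤ Nat.card G := by
  simpa using Order95040.sum_sq_deg_le ({χ} : Finset (IrrCharacter G))

/-- The number of ordered pairs of conjugates of `s` with given product. -/
theorem card_pairs [Fintype (IrrCharacter G)] (s g : G) :
    ((((classFinset s) ×ˢ (classFinset s)).filter fun u => u.1 * u.2 = g).card : ℂ) *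
        (Nat.card G : ℂ) =
      ((Subgroup.centralizer ({s} : Set G)).index : ℂ) ^ 2 *
        ∑ χ : IrrCharacter G, (χ : G → ℂ) s ^ 2 / (χ : G → ℂ) 1 * (χ : G → ℂ) g⁻¹ := by
  set K := classFinset s
  set n := ((Subgroup.centralizer ({s} : Set G)).index : ℂ)
  have hreg : ∀ w : G, ∑ χ : IrrCharacter G, (χ : G → ℂ) 1 * (χ : G → ℂ) (w * g⁻¹) =
      if w = g then (Nat.card G : ℂ) else 0 := fun w => by
    split_ifs with hw
    · rw [hw, mul_inv_cancel, ← sum_sq_degree]
      exact Finset.sum_congr rfl fun χ _ => (sq _).symm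
    · exact sum_degree_mul_apply_of_ne_one fun e => hw (mul_inv_eq_one.1 e)
  have hmul : ∀ χ : IrrCharacter G,
      ∑ u ∈ K ×ˢ K, (χ : G → ℂ) (u.1 * u.2 * g⁻¹) =
        (n * (χ : G → ℂ) s / (χ : G → ℂ) 1) ^ 2 * (χ : G → ℂ) g⁻¹ := fun χ => by
    rw [Finset.sum_product, Finset.sum_comm]
    simp only [mul_assoc]
    rw [Finset.sum_congr rfl fun y _ => Order7920.sum_class_mul χ s (y * g⁻¹), ← Finset.mul_sum,
      Order7920.sum_class_mul χ s g⁻¹]
    ring
  calc (((K ×ˢ K).filter fun u => u.1 * u.2 = g).card : ℂ) * (Nat.card G : ℂ)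
      = ∑ u ∈ K ×ˢ K, if u.1 * u.2 = g then (Nat.card G : ℂ) else 0 := by
        rw [← Finset.sum_filter, Finset.sum_const, nsmul_eq_mul]
    _ = ∑ u ∈ K ×ˢ K, ∑ χ : IrrCharacter G, (χ : G → ℂ) 1 * (χ : G → ℂ) (u.1 * u.2 * g⁻¹) :=
        Finset.sum_congr rfl fun u _ => (hreg _).symm
    _ = _ := by
        rw [Finset.sum_comm, Finset.mul_sum]
        refine Finset.sum_congr rfl fun χ _ => ?_
        rw [← Finset.mul_sum, hmul χ]
        have h1 : (χ : G → ℂ) 1 ≠ 0 := IsIrr.apply_one_ne_zero χ.2
        field_simp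

variable [IsSimpleGroup G] (hp : commutator G = ⊤)
include hp

omit [Fintype G] in
theorem center_eq_bot : Subgroup.center G = ⊥ := by
  refine (Subgroup.Normal.eq_bot_or_eq_top (inferInstance : (Subgroup.center G).Normal)).resolve_right
    fun h => ?_
  have hc : commutator G = ⊥ := by
    rw [commutator_def, Subgroup.commutator_eq_bot_iff_le_centralizer]
    intro a _
    rw [Subgroup.mem_centralizer_iff]
    exact fun b _ => (Subgroup.mem_center_iff.1 (h ▸ Subgroup.mem_top a : a ∈ Subgroup.center G) b)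
  exact bot_ne_top (hc.symm.trans hp)

omit [Fintype G] [IsSimpleGroup G] in
theorem hom_eq_one (l : G →* ℂˣ) : l = 1 := by
  refine MonoidHom.ext fun g => ?_
  exact (Abelianization.commutator_subset_ker l) (by rw [hp]; trivial)

omit [IsSimpleGroup G] in
theorem deg_one {χ : IrrCharacter G} (h : deg χ = 1) : χ = trivChar G := by
  obtain ⟨l, hl⟩ := exists_linear_of_degree_one (IsIrr.isCharacter χ.2)
    (by rw [deg_cast, h, Nat.cast_one])
  exact irr_ext fun g => by rw [hl, hom_eq_one hp l, trivChar_apply]; rfl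

omit [IsSimpleGroup G] in
theorem one_lt_deg {χ : IrrCharacter G} (h : χ ≠ trivChar G) : 1 < deg χ := by
  have : 0 < deg χ := charDegree_pos χ
  by_contra hlt
  exact h (deg_one hp (by omega))

/-- A nontrivial irreducible character is faithful. -/
theorem faithful {χ : IrrCharacter G} (hχ : χ ≠ trivChar G) {g : G}
    (h : (χ : G → ℂ) g = (χ : G → ℂ) 1) : g = 1 := by
  refine (eq_one_or_all h).resolve_right fun hall => hχ (deg_one hp ?_)
  have hd := Blocks.Order95040.deg_cast χ
  have := classInner_irr_self χ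
  rw [classInner] at this
  simp only [hall, hd, map_natCast, Finset.sum_const, Finset.card_univ, nsmul_eq_mul,
    ← Nat.card_eq_fintype_card] at this
  have hG : (Nat.card G : ℂ) ≠ 0 := Nat.cast_ne_zero.2 Nat.card_pos.ne'
  rw [← mul_assoc, inv_mul_cancel₀ hG, one_mul] at this
  exact Nat.eq_one_of_mul_eq_one_right (show deg χ * deg χ = 1 by exact_mod_cast this)

omit [IsSimpleGroup G] in
/-- The eigenvalues at an involution. -/
theorem involution_eigen {t : G} (ht : orderOf t = 2) {χ : IrrCharacter G} {n : ℕ}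
    {ρ : Representation ℂ G (Fin n → ℂ)} (hρc : (χ : G → ℂ) = ρ.character) :
    ∃ (b : Module.Basis (Fin (Module.finrank ℂ (Fin n → ℂ))) ℂ (Fin n → ℂ))
      (ε : Fin (Module.finrank ℂ (Fin n → ℂ)) → ℂ),
      (∀ i, ρ t (b i) = ε i • b i) ∧
      Even (Finset.univ.filter fun i => ε i = (-1 : ℂ)).card ∧
      (χ : G → ℂ) t = (deg χ : ℂ) - 2 * (Finset.univ.filter fun i => ε i = (-1 : ℂ)).card := by
  obtain ⟨b, ε, hb, hε⟩ := exists_eigenbasis ρ t
  rw [ht] at hε
  have hdeg : deg χ = n := deg_eq_finrank hρc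
  set S := Finset.univ.filter fun i => ε i = (-1 : ℂ) with hS
  have hpm : ∀ i, i ∉ S → ε i = 1 := fun i hi => by
    rcases sq_eq_one_iff.1 (hε i) with h | h
    · exact h
    · exact absurd (show i ∈ S from Finset.mem_filter.2 ⟨Finset.mem_univ i, h⟩) hi
  have hmat : LinearMap.toMatrix b b (ρ t) = Matrix.diagonal ε := by
    ext i j
    rw [LinearMap.toMatrix_apply, hb, map_smul, Finsupp.smul_apply, b.repr_self, Matrix.diagonal]
    simp only [Matrix.of_apply, Finsupp.single_apply]
    split_ifs with h1 h2 <;> simp_all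
  have hdet : LinearMap.det (ρ t) = 1 := by
    rw [← CharExt.detHom_apply, hom_eq_one hp (CharExt.detHom ρ)]
    rfl
  rw [← LinearMap.det_toMatrix b, hmat, Matrix.det_diagonal,
    ← Finset.prod_filter_mul_prod_filter_not Finset.univ (fun i => ε i = (-1 : ℂ)),
    Finset.prod_congr rfl fun i hi => (Finset.mem_filter.1 hi).2, Finset.prod_const,
    Finset.prod_eq_one fun i hi => hpm i fun h => absurd ((Finset.mem_filter.1 h).2)
      (show ¬ ε i = (-1 : ℂ) from (Finset.mem_filter.1 hi).2), mul_one] at hdet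
  refine ⟨b, ε, hb, (neg_one_pow_eq_one_iff_even (by norm_num)).1 hdet, ?_⟩
  have hfr : Module.finrank ℂ (Fin n → ℂ) = n := Module.finrank_fin_fun ℂ
  rw [hρc, Representation.character, LinearMap.trace_eq_matrix_trace ℂ b, hmat,
    Matrix.trace_diagonal]
  have h2 : ∀ i, ε i = 1 + (if i ∈ S then (-2 : ℂ) else 0) := fun i => by
    split_ifs with h
    · rw [(Finset.mem_filter.1 h).2]; norm_num
    · rw [hpm i h, add_zero]
  rw [Finset.sum_congr rfl fun i _ => h2 i, Finset.sum_add_distrib, Finset.sum_ite_mem,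
    Finset.univ_inter, Finset.sum_const, Finset.sum_const, Finset.card_univ, Fintype.card_fin,
    nsmul_eq_mul, nsmul_eq_mul, hdeg]
  rw [show ((Module.finrank ℂ (Fin n → ℂ) : ℕ) : ℂ) = (n : ℂ) by rw [hfr]]
  ring

/-- The value at an involution. -/
theorem value_involution {t : G} (ht : orderOf t = 2) (χ : IrrCharacter G) :
    ∃ v : ℤ, (χ : G → ℂ) t = (v : ℂ) ∧ ((deg χ : ℤ) - v) % 4 = 0 ∧
      (χ ≠ trivChar G → v.natAbs < deg χ) := by
  obtain ⟨n, ρ, hρ, hρc'⟩ := χ.2
  obtain ⟨b, ε, hb, ⟨k, hk⟩, hval⟩ := involution_eigen hp ht (χ := χ) hρc'.symm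
  set S := Finset.univ.filter fun i => ε i = (-1 : ℂ) with hS
  have hfr : Module.finrank ℂ (Fin n → ℂ) = deg χ := by
    rw [Module.finrank_fin_fun, deg_eq_finrank hρc'.symm]
  have hle : S.card ≤ deg χ := by
    refine le_trans S.card_le_univ (le_of_eq ?_)
    rw [Fintype.card_fin, hfr]
  refine ⟨(deg χ : ℤ) - 2 * S.card, by rw [hval]; push_cast; ring, by omega, fun hne => ?_⟩
  have ht1 : t ≠ 1 := fun e => by simp [e] at ht
  have h0 : S.card ≠ 0 := fun h => ht1 (faithful hp hne (by
    rw [hval, h, deg_cast]; simp))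
  have hd : S.card ≠ deg χ := fun h => by
    have hall : ∀ i, ε i = -1 := fun i => by
      have hu : S = Finset.univ := Finset.eq_univ_of_card _ (by rw [h, Fintype.card_fin, hfr])
      exact (Finset.mem_filter.1 (hu ▸ Finset.mem_univ i : i ∈ S)).2
    have hneg : ρ t = -1 := b.ext fun i => by rw [hb i, hall i, neg_one_smul]; rfl
    have hz : t ∈ Subgroup.center G := Subgroup.mem_center_iff.2 fun g => by
      refine mul_inv_eq_one.1 (faithful hp hne ?_)
      have h1 : ρ (g * t) = ρ (t * g) := by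
        rw [map_mul, map_mul, hneg]
        exact ((Commute.one_right (ρ g)).neg_right).eq
      rw [← hρc', Representation.character, Representation.character, map_mul, h1, ← map_mul,
        mul_inv_cancel]
    rw [center_eq_bot hp, Subgroup.mem_bot] at hz
    exact ht1 hz
  omega

end CfsgLib.Blocks.Order443520
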